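import Groth.Agent.Subtr.K834.Tests
import Mathlib.RingTheory.PowerSeries.Inverse
import Mathlib.RingTheory.FiniteType

/-!
# Testing universal S-subtrusiveness: affine spaces, discrete valuation rings
-/

set_option autoImplicit false
set_option backward.isDefEq.respectTransparency false
set_option backward.isDefEq.respectTransparency.types false

universe u

open CategoryTheory CategoryTheory.Limits AlgebraicGeometry Subtr IsLocalRing TensorProduct

namespace K834.Tests2

open K834.Basic K834.Val K834.Obs K834.Subm K834.Tests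

/-- The pasting square. -/
theorem isPullback_lift {X Y S T : Scheme.{u}} (f : X ⟶ Y) (p : S ⟶ Y) (m : T ⟶ S) :
    IsPullback (pullback.lift (pullback.fst f (m ≫ p)) (pullback.snd f (m ≫ p) ≫ m) (by
      rw [pullback.condition, Category.assoc]) : pullback f (m ≫ p) ⟶ pullback f p)
      (pullback.snd f (m ≫ p)) (pullback.snd f p) m := by
  refine IsPullback.of_right (h₁₂ := pullback.fst f p) (v₁₃ := f) (h₂₂ := p) ?_ ?_
    (IsPullback.of_hasPullback f p)
  · rw [pullback.lift_fst]
    exact IsPullback.of_hasPullback f (m ≫ p)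
  · exact pullback.lift_snd _ _ _

theorem univSSubtrusive_of_affineSpace {X Y : Scheme.{u}} (f : X ⟶ Y) [QuasiCompact f]
    (H : ∀ n : ℕ, 0 < n →
        Subtr.IsSSubtrusive (pullback.snd f (AffineSpace (ULift.{u} (Fin n)) Y ↘ Y))) :
    Subtr.UnivSSubtrusive f := by
  refine univSSubtrusive_of_not_obs ?_
  intro c D _ _ _ hft P hobs
  obtain ⟨n, φ, hφ⟩ := Algebra.FiniteType.iff_quotient_mvPolynomial''.mp hft
  let ψ : MvPolynomial (ULift.{u} (Fin (n + 1))) c.A →ₐ[c.A] D :=
    MvPolynomial.aeval (fun i => if h : i.down.1 < n then φ (MvPolynomial.X ⟨i.down.1, h⟩) else 0)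
  have hψ : Function.Surjective ψ := by
    have h1 : ψ.comp (MvPolynomial.rename (fun i : Fin n => ULift.up i.castSucc)) = φ := by
      ext i
      simp [ψ]
    intro d
    obtain ⟨p, hp⟩ := hφ d
    exact ⟨MvPolynomial.rename (fun i : Fin n => ULift.up i.castSucc) p, by
      rw [← hp, ← h1]; rfl⟩
  let N := ULift.{u} (Fin (n + 1))
  let m₀ : Spec (CommRingCat.of D) ⟶ Spec (CommRingCat.of (MvPolynomial N c.A)) :=
    Spec.map (CommRingCat.ofHom ψ.toRingHom)
  have hm₀ : IsClosedImmersion m₀ := IsClosedImmersion.spec_of_surjective _ hψ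
  let m : Spec (CommRingCat.of D) ⟶ AffineSpace N Y :=
    m₀ ≫ (AffineSpace.SpecIso N (CommRingCat.of c.A)).inv ≫ AffineSpace.map N c.j
  have hopen : IsOpenImmersion (AffineSpace.map N c.j) :=
    MorphismProperty.of_isPullback (AffineSpace.isPullback_map c.j).flip c.openj
  have hm : IsPreimmersion m := inferInstance
  have e : m ≫ (AffineSpace N Y ↘ Y) = Spec.map (CommRingCat.ofHom (algebraMap c.A D)) ≫ c.j := by
    simp only [m, Category.assoc, AffineSpace.map_over]
    rw [← Category.assoc (AffineSpace.SpecIso N (CommRingCat.of c.A)).inv,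
      AffineSpace.SpecIso_inv_over, ← Category.assoc]
    congr 1
    simp only [m₀]
    rw [← Spec.map_comp, ← CommRingCat.ofHom_comp]
    congr 2
    exact ψ.comp_algebraMap
  have h1 : IsSSubtrusive (pullback.snd f (m ≫ (AffineSpace N Y ↘ Y))) :=
    isSSubtrusive_of_isPullback (isPullback_lift f (AffineSpace N Y ↘ Y) m) (H (n + 1) (by omega))
  rw [e] at h1
  exact not_lift_of_obs c.B D P hobs (c.lift_of D h1 P)

/-- Over a locally Noetherian base, universally submersive and universally S-subtrusive
quasi-compact morphisms are the same. -/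
theorem univSubmersive_iff {X Y : Scheme.{u}} [IsLocallyNoetherian Y] (f : X ⟶ Y)
    [QuasiCompact f] : SGA1.UnivSubmersive f ↔ Subtr.UnivSSubtrusive f := by
  refine ⟨fun h => ?_, univSubmersive_of_univSSubtrusive f⟩
  have hs : Surjective f := ⟨(MorphismProperty.universally_le _ _ h : Topology.IsQuotientMap f).surjective⟩
  refine univSSubtrusive_of_dvr f ?_
  intro R _ _ _ g
  rw [← isQuotientMap_iff]
  exact h _ _ _ (IsPullback.of_hasPullback f g).flip

theorem exists_dvr_lift {X Y : Scheme.{u}} (f : X ⟶ Y) [LocallyOfFiniteType f]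
    (h : UnivSSubtrusive f)
    (D : Type u) [CommRing D] [IsDomain D] [IsDiscreteValuationRing D]
    (g : Spec (CommRingCat.of D) ⟶ Y) :
    ∃ (D' : Type u) (_ : CommRing D') (_ : IsDomain D') (_ : IsDiscreteValuationRing D')
      (a : Spec (CommRingCat.of D') ⟶ X) (b : Spec (CommRingCat.of D') ⟶ Spec (CommRingCat.of D)),
      Surjective b ∧ a ≫ f = b ≫ g := by
  have h1 : IsSSubtrusive (pullback.snd f g) := h _ _ _ (IsPullback.of_hasPullback f g).flip
  obtain ⟨x, x', hx, hx1, hx2⟩ := h1 (gpt_specializes (V := D) (closedPoint D))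
  have hnoeth : IsLocallyNoetherian (Spec (CommRingCat.of D)) := inferInstance
  have hXnoeth : IsLocallyNoetherian (pullback f g) :=
    LocallyOfFiniteType.isLocallyNoetherian (pullback.snd f g)
  have hne : x' ≠ x := by
    rintro rfl
    have : closedPoint D = gpt D := hx1.symm.trans hx2
    exact IsDiscreteValuationRing.not_a_field D (congrArg PrimeSpectrum.asIdeal this)
  obtain ⟨D', _, _, _, _, _, k, hk1, hk2⟩ :=
    Groth.Agent.Ega43.DvrScheme.exists_dvr_of_specializes_of_locallyOfFiniteType
      (𝟙 (pullback f g)) x' (y := x) hx hne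
  have hgpt : k (gpt D') = x' := by
    rw [← genPt_eq (V := D') ((pullback f g).residueField x'), ← Scheme.Hom.comp_apply, hk2,
      Category.comp_id]
    exact Scheme.fromSpecResidueField_apply _ _
  refine ⟨D', inferInstance, inferInstance, inferInstance, k ≫ pullback.fst f g,
    k ≫ pullback.snd f g, ?_, by rw [Category.assoc, Category.assoc, pullback.condition]⟩
  refine surjective_of_gpt (k ≫ pullback.snd f g) ?_ ⟨closedPoint D', ?_⟩
  · exact (congrArg (pullback.snd f g) hgpt).trans hx2
  · exact (congrArg (pullback.snd f g) hk1).trans hx1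

theorem surjective_of_dvr_lift {X Y : Scheme.{u}} (f : X ⟶ Y)
    (H : ∀ (D : Type u) [CommRing D] [IsDomain D] [IsDiscreteValuationRing D]
        (g : Spec (CommRingCat.of D) ⟶ Y),
        ∃ (D' : Type u) (_ : CommRing D') (_ : IsDomain D') (_ : IsDiscreteValuationRing D')
          (a : Spec (CommRingCat.of D') ⟶ X) (b : Spec (CommRingCat.of D') ⟶ Spec (CommRingCat.of D)),
          Surjective b ∧ a ≫ f = b ≫ g) : Surjective f := by
  refine ⟨fun y => ?_⟩
  let k : Type u := Y.residueField y
  let _ : Field k := inferInstanceAs (Field (Y.residueField y))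
  let s : Spec (CommRingCat.of k) ⟶ Y := Y.fromSpecResidueField y
  have hs : ∀ p, s p = y := fun p => Scheme.fromSpecResidueField_apply y p
  let r : Spec (CommRingCat.of (PowerSeries k)) ⟶ Spec (CommRingCat.of k) :=
    Spec.map (CommRingCat.ofHom (PowerSeries.C (R := k)))
  obtain ⟨D', _, _, _, a, b, hb, hab⟩ := H (PowerSeries k) (r ≫ s)
  refine ⟨a (closedPoint D'), ?_⟩
  have h1 : f (a (closedPoint D')) = s (r (b (closedPoint D'))) :=
    congrArg (fun φ : Spec (CommRingCat.of D') ⟶ Y => φ (closedPoint D')) hab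
  rw [h1, hs]

theorem tfae_of_locallyOfFiniteType {X Y : Scheme.{u}} [IsLocallyNoetherian Y]
    (f : X ⟶ Y) [LocallyOfFiniteType f] [QuasiCompact f] :
    List.TFAE [
      SGA1.UnivSubmersive f,
      Subtr.UnivSSubtrusive f,
      ∀ (D : Type u) [CommRing D] [IsDomain D] [IsDiscreteValuationRing D] (g : Spec (CommRingCat.of D) ⟶ Y),
        ∃ (D' : Type u) (_ : CommRing D') (_ : IsDomain D') (_ : IsDiscreteValuationRing D')
          (a : Spec (CommRingCat.of D') ⟶ X) (b : Spec (CommRingCat.of D') ⟶ Spec (CommRingCat.of D)),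
          Surjective b ∧ a ≫ f = b ≫ g] := by
  tfae_have 1 ↔ 2 := univSubmersive_iff f
  tfae_have 2 → 3 := fun h D _ _ _ g => exists_dvr_lift f h D g
  tfae_have 3 → 2 := by
    intro H
    have hs : Surjective f := surjective_of_dvr_lift f H
    refine univSSubtrusive_of_dvr f ?_
    intro R _ _ _ g
    obtain ⟨D', _, _, _, a, b, hb, hab⟩ := H R g
    refine ((tfae R (pullback.snd f g)).out 1 4).mpr ?_
    refine ⟨D', inferInstance, inferInstance, inferInstance, pullback.lift a b hab, ?_⟩
    rw [pullback.lift_snd]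
    exact hb
  tfae_finish

end K834.Tests2
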