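import Groth.Prelude.Def_W4c2submetdescSubtr
import Mathlib.AlgebraicGeometry.ValuativeCriterion
import Mathlib.AlgebraicGeometry.Morphisms.Flat
import Mathlib.AlgebraicGeometry.Morphisms.UniversallyOpen
import Mathlib.AlgebraicGeometry.Fiber
import Mathlib.AlgebraicGeometry.Noetherian
import Mathlib.RingTheory.Flat.TorsionFree
import Groth.Agent.Fdesc.QuasiCompactTop

/-!
# Universally S-subtrusive morphisms: formal properties, and valuation rings through a specialization
-/

set_option autoImplicit false
set_option backward.isDefEq.respectTransparency false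
set_option backward.isDefEq.respectTransparency.types false

universe u

open CategoryTheory CategoryTheory.Limits AlgebraicGeometry Subtr

namespace K834.Basic

/-- A universally S-subtrusive morphism is S-subtrusive. -/
theorem isSSubtrusive {X Y : Scheme.{u}} {f : X ⟶ Y} (hf : UnivSSubtrusive f) : IsSSubtrusive f :=
  MorphismProperty.universally_le _ _ hf

/-- An S-subtrusive morphism is surjective. -/
theorem surjective_of_isSSubtrusive {X Y : Scheme.{u}} {f : X ⟶ Y} (hf : IsSSubtrusive f) :
    Surjective f :=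
  ⟨fun y => by
    obtain ⟨x, -, -, hx, -⟩ := hf (specializes_refl y)
    exact ⟨x, hx⟩⟩

/-- Universally S-subtrusive morphisms are surjective. -/
theorem surjective {X Y : Scheme.{u}} {f : X ⟶ Y} (hf : UnivSSubtrusive f) : Surjective f :=
  surjective_of_isSSubtrusive (isSSubtrusive hf)

instance : (UnivSSubtrusive.{u}).IsStableUnderBaseChange :=
  MorphismProperty.universally_isStableUnderBaseChange _

instance : (UnivSSubtrusive.{u}).RespectsIso :=
  MorphismProperty.universally_respectsIso _

/-- If a composite is S-subtrusive, so is the last morphism. -/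
theorem isSSubtrusive_of_comp {X Y Z : Scheme.{u}} (f : X ⟶ Y) (g : Y ⟶ Z)
    (h : IsSSubtrusive (f ≫ g)) : IsSSubtrusive g := by
  intro z z' hz
  obtain ⟨x, x', hx, h1, h2⟩ := h hz
  refine ⟨f x, f x', hx.map f.continuous, ?_, ?_⟩
  · rw [← h1]; rfl
  · rw [← h2]; rfl

/-- S-subtrusive morphisms compose. -/
theorem isSSubtrusive_comp {X Y Z : Scheme.{u}} {f : X ⟶ Y} {g : Y ⟶ Z}
    (hf : IsSSubtrusive f) (hg : IsSSubtrusive g) : IsSSubtrusive (f ≫ g) := by
  intro z z' hz
  obtain ⟨y, y', hy, h1, h2⟩ := hg hz
  obtain ⟨x, x', hx, h3, h4⟩ := hf hy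
  refine ⟨x, x', hx, ?_, ?_⟩
  · rw [Scheme.Hom.comp_apply, h3, h1]
  · rw [Scheme.Hom.comp_apply, h4, h2]

instance : (UnivSSubtrusive.{u}).IsStableUnderComposition := by
  have : MorphismProperty.IsStableUnderComposition
      (fun _ _ f => IsSSubtrusive f : MorphismProperty Scheme.{u}) :=
    ⟨fun _ _ hf hg => isSSubtrusive_comp hf hg⟩
  exact MorphismProperty.IsStableUnderComposition.universally _

/-- Universally S-subtrusive morphisms compose. -/
theorem comp {X Y Z : Scheme.{u}} {f : X ⟶ Y} {g : Y ⟶ Z}
    (hf : UnivSSubtrusive f) (hg : UnivSSubtrusive g) : UnivSSubtrusive (f ≫ g) :=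
  MorphismProperty.comp_mem _ _ _ hf hg

/-- If a composite is universally S-subtrusive, so is the last morphism. -/
theorem of_comp {X Y Z : Scheme.{u}} (f : X ⟶ Y) (g : Y ⟶ Z)
    (h : UnivSSubtrusive (f ≫ g)) : UnivSSubtrusive g := by
  intro Y' Z' i₁ i₂ g' hpb
  have h1 : IsPullback (pullback.snd f i₁) (pullback.fst f i₁) i₁ f :=
    (IsPullback.of_hasPullback f i₁).flip
  refine isSSubtrusive_of_comp (pullback.snd f i₁) g' (h (pullback.fst f i₁) i₂ _ ?_)
  exact h1.paste_horiz hpb

/-- A morphism universally lifting generalizations and surjective is universally S-subtrusive. -/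
theorem of_generalizing {X Y : Scheme.{u}} (f : X ⟶ Y)
    (h : (topologically GeneralizingMap).universally f) [Surjective f] : UnivSSubtrusive f := by
  intro X' Y' i₁ i₂ f' hpb y y' hy
  have hs : Surjective f' := MorphismProperty.of_isPullback hpb.flip inferInstance
  obtain ⟨x, rfl⟩ := hs.surj y
  obtain ⟨x', hx, rfl⟩ := h i₁ i₂ f' hpb hy
  exact ⟨x, x', hx, rfl, rfl⟩

/-- Flat surjective morphisms are universally S-subtrusive. -/
theorem of_flat {X Y : Scheme.{u}} (f : X ⟶ Y) [Flat f] [Surjective f] : UnivSSubtrusive f := by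
  refine of_generalizing f ?_
  intro X' Y' i₁ i₂ f' hpb
  have : Flat f' := MorphismProperty.of_isPullback hpb.flip inferInstance
  exact Flat.generalizingMap f'

/-- Universally closed surjective morphisms are universally S-subtrusive. -/
theorem of_universallyClosed {X Y : Scheme.{u}} (f : X ⟶ Y) [UniversallyClosed f] [Surjective f] :
    UnivSSubtrusive f := by
  intro X' Y' i₁ i₂ f' hpb y y' hy
  have hs : Surjective f' := MorphismProperty.of_isPullback hpb.flip inferInstance
  have hc : UniversallyClosed f' := MorphismProperty.of_isPullback hpb.flip inferInstance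
  obtain ⟨x', rfl⟩ := hs.surj y'
  obtain ⟨x, hx, rfl⟩ := f'.isClosedMap.specializingMap hy
  exact ⟨x, x', hx, rfl, rfl⟩

/-- An open morphism of schemes lifts generizations. -/
theorem generalizingMap_of_isOpenMap {X Y : Scheme.{u}} (f : X ⟶ Y) (hf : IsOpenMap f) :
    GeneralizingMap f := by
  intro x y hy
  have hqc : QuasiCompact (f.fiberι y) :=
    inferInstanceAs (QuasiCompact (pullback.fst f (Y.fromSpecResidueField y)))
  have hx : x ∈ closure (Set.range (f.fiberι y)) := by
    rw [mem_closure_iff]
    intro W hW hxW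
    obtain ⟨w, hw, hwy⟩ := hy.mem_open (hf W hW) ⟨x, hxW, rfl⟩
    refine ⟨w, hw, ?_⟩
    rw [Scheme.Hom.range_fiberι]
    exact hwy
  obtain ⟨z, hz⟩ :=
    Groth.Agent.Fdesc.QuasiCompactTop.exists_specializes_of_mem_closure_range _ x hx
  refine ⟨f.fiberι y z, hz, ?_⟩
  have : f.fiberι y z ∈ Set.range (f.fiberι y) := ⟨z, rfl⟩
  rw [Scheme.Hom.range_fiberι] at this
  exact this

/-- Universally open surjective morphisms are universally S-subtrusive. -/
theorem of_universallyOpen {X Y : Scheme.{u}} (f : X ⟶ Y) [UniversallyOpen f] [Surjective f] :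
    UnivSSubtrusive f := by
  refine of_generalizing f ?_
  intro X' Y' i₁ i₂ f' hpb
  have : UniversallyOpen f' := MorphismProperty.of_isPullback hpb.flip inferInstance
  exact generalizingMap_of_isOpenMap f' f'.isOpenMap

/-- Isomorphisms are universally S-subtrusive. -/
theorem of_isIso {X Y : Scheme.{u}} (f : X ⟶ Y) [IsIso f] : UnivSSubtrusive f := of_flat f

open IsLocalRing in
/-- Valuation rings through a specialization: if `y' ⤳ y` in `Y` and `L` is an extension of the
residue field of `y'`, there is a valuation subring `A` of `L` and a morphism `Spec A ⟶ Y` sending the closed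
point to `y` and extending `Spec L ⟶ Y`. -/
theorem exists_valuationSubring {Y : Scheme.{u}} {y' y : Y} (h : y' ⤳ y) {L : Type u} [Field L]
    (φ : Y.residueField y' ⟶ CommRingCat.of L) :
    ∃ (A : ValuationSubring L) (g : Spec (CommRingCat.of A) ⟶ Y),
      g (closedPoint A) = y ∧
      Spec.map (CommRingCat.ofHom (algebraMap A L)) ≫ g = Spec.map φ ≫ Y.fromSpecResidueField y' := by
  let k : Y.presheaf.stalk y ⟶ CommRingCat.of L :=
    Y.presheaf.stalkSpecializes h ≫ Y.residue y' ≫ φ
  obtain ⟨A, hA, hA_local⟩ := exists_factor_valuationRing k.hom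
  let κ : Y.presheaf.stalk y ⟶ .of A := CommRingCat.ofHom (k.hom.codRestrict _ hA)
  refine ⟨A, Spec.map κ ≫ Y.fromSpecStalk y, ?_, ?_⟩
  · have : Spec.map κ (closedPoint A) = closedPoint (Y.presheaf.stalk y) :=
      comap_closedPoint (S := A) (k.hom.codRestrict A.toSubring hA)
    rw [Scheme.Hom.comp_apply, this, Y.fromSpecStalk_closedPoint]
  · rw [Scheme.fromSpecResidueField, ← Scheme.SpecMap_stalkSpecializes_fromSpecStalk h,
      ← Spec.map_comp_assoc, ← Spec.map_comp_assoc, ← Spec.map_comp_assoc]
    congr 2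

/-- The generic point of the spectrum of a domain. -/
def gpt (V : Type u) [CommRing V] [IsDomain V] : PrimeSpectrum V := ⟨⊥, Ideal.isPrime_bot⟩

open IsLocalRing in
/-- Valuation rings through a specialization. -/
theorem exists_valuationRing {Y : Scheme.{u}} {y' y : Y} (h : y' ⤳ y) :
    ∃ (A : Type u) (_ : CommRing A) (_ : IsDomain A) (_ : ValuationRing A)
      (g : Spec (CommRingCat.of A) ⟶ Y),
      g (closedPoint A) = y ∧ g (gpt A) = y' := by
  let L : Type u := Y.residueField y'
  let _ : Field L := inferInstanceAs (Field (Y.residueField y'))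
  obtain ⟨A, g, h1, h2⟩ := exists_valuationSubring (L := L) h (𝟙 (Y.residueField y'))
  refine ⟨A, inferInstance, inferInstance, inferInstance, g, h1, ?_⟩
  have h3 : (Spec.map (CommRingCat.ofHom (algebraMap A L))) (closedPoint L) = gpt A := by
    apply PrimeSpectrum.ext
    change Ideal.comap (algebraMap A L) (maximalIdeal L) = ⊥
    rw [IsLocalRing.maximalIdeal_eq_bot]
    exact (RingHom.injective_iff_ker_eq_bot _).mp (FaithfulSMul.algebraMap_injective _ _)
  rw [← h3, ← Scheme.Hom.comp_apply, h2, Scheme.Hom.comp_apply]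
  exact Scheme.fromSpecResidueField_apply _ _

end K834.Basic
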