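import Groth.Agent.Subtr.K834.Val
import Groth.Agent.Grpsch.ClosureImage
import Groth.Prelude.Def_SGA1
import Mathlib.Topology.AlexandrovDiscrete

/-!
# S-subtrusive and submersive morphisms
-/

set_option autoImplicit false
set_option backward.isDefEq.respectTransparency false
set_option backward.isDefEq.respectTransparency.types false

universe u

open CategoryTheory CategoryTheory.Limits AlgebraicGeometry Subtr IsLocalRing SGA1

namespace K834.Subm

open K834.Basic K834.Val

/-- For a quasi-compact surjective morphism, a set with closed preimage is closed as soon as it is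
stable under specialization. -/
theorem isClosed_of_preimage {X Y : Scheme.{u}} (f : X ⟶ Y) [QuasiCompact f] [Surjective f]
    (T : Set Y) (hT : IsClosed (f ⁻¹' T)) (hs : StableUnderSpecialization T) : IsClosed T := by
  rw [← closure_subset_iff_isClosed]
  intro y hy
  have h1 : T = f '' (f ⁻¹' T) := (Set.image_preimage_eq T f.surjective).symm
  rw [h1] at hy
  obtain ⟨z, hz, hzy⟩ :=
    Groth.Agent.Grpsch.ClosureImage.exists_specializes_of_mem_closure_image f hT hy
  exact hs hzy hz

/-- Criterion for a quotient map. -/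
theorem isQuotientMap_of {X Y : Scheme.{u}} (f : X ⟶ Y) [Surjective f]
    (h : ∀ T : Set Y, IsClosed (f ⁻¹' T) → IsClosed T) : Topology.IsQuotientMap f := by
  rw [Topology.isQuotientMap_iff_isClosed]
  exact ⟨f.surjective, fun T => ⟨fun hT => hT.preimage f.continuous, h T⟩⟩

/-- For an S-subtrusive map, a set with closed preimage is stable under specialization. -/
theorem stable_of_isSSubtrusive {X Y : Scheme.{u}} (f : X ⟶ Y) (hf : IsSSubtrusive f) (T : Set Y)
    (hT : IsClosed (f ⁻¹' T)) : StableUnderSpecialization T := by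
  intro y' y hy hy'
  obtain ⟨x, x', hx, rfl, rfl⟩ := hf hy
  exact hx.mem_closed hT hy'

/-- Quasi-compact S-subtrusive morphisms are submersive. -/
theorem isQuotientMap_of_isSSubtrusive {X Y : Scheme.{u}} (f : X ⟶ Y) [QuasiCompact f]
    (hf : IsSSubtrusive f) : Topology.IsQuotientMap f := by
  have := surjective_of_isSSubtrusive hf
  exact isQuotientMap_of f fun T hT =>
    isClosed_of_preimage f T hT (stable_of_isSSubtrusive f hf T hT)

/-- Quasi-compact universally S-subtrusive morphisms are universally submersive. -/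
theorem univSubmersive_of_univSSubtrusive {X Y : Scheme.{u}} (f : X ⟶ Y) [QuasiCompact f]
    (hf : UnivSSubtrusive f) : UnivSubmersive f := by
  intro X' Y' i₁ i₂ f' hpb
  have : QuasiCompact f' := MorphismProperty.of_isPullback hpb.flip inferInstance
  exact isQuotientMap_of_isSSubtrusive f' (hf _ _ _ hpb)

section dvr

variable {V : Type u} [CommRing V] [IsDomain V] [IsDiscreteValuationRing V]

theorem eq_gpt_or (y : PrimeSpectrum V) : y = gpt V ∨ y = closedPoint V := by
  by_cases h : y.asIdeal = ⊥
  · exact Or.inl (PrimeSpectrum.ext h)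
  · refine Or.inr (PrimeSpectrum.ext ?_)
    have := (IsDiscreteValuationRing.iff_pid_with_one_nonzero_prime V).mp inferInstance
    obtain ⟨-, P, ⟨-, -⟩, hP⟩ := this
    rw [hP y.asIdeal ⟨h, y.isPrime⟩]
    exact (hP _ ⟨IsDiscreteValuationRing.not_a_field V, inferInstance⟩).symm

theorem isClosed_of_stable (T : Set (Spec (CommRingCat.of V))) (hT : StableUnderSpecialization T) :
    IsClosed T := by
  have hfin : Finite (Spec (CommRingCat.of V)) := by
    have : (Set.univ : Set (PrimeSpectrum V)) ⊆ {gpt V, closedPoint V} := by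
      intro y _
      rcases eq_gpt_or y with h | h
      · exact Or.inl h
      · exact Or.inr h
    exact Set.finite_univ_iff.mp ((Set.toFinite _).subset this)
  have h1 : T = ⋃ y ∈ T, closure {y} := by
    apply Set.Subset.antisymm
    · intro y hy
      exact Set.mem_biUnion hy (subset_closure rfl)
    · intro z hz
      obtain ⟨y, hy, hyz⟩ := Set.mem_iUnion₂.mp hz
      exact hT (specializes_iff_mem_closure.mpr hyz) hy
  rw [h1]
  exact (Set.toFinite T).isClosed_biUnion fun _ _ => isClosed_closure

/-- Over a discrete valuation ring, submersive and S-subtrusive morphisms are the same. -/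
theorem isQuotientMap_iff {X : Scheme.{u}} (f : X ⟶ Spec (CommRingCat.of V)) :
    Topology.IsQuotientMap f ↔ IsSSubtrusive f := by
  constructor
  · intro h
    refine ((tfae V f).out 2 1).mp ?_
    intro y
    rcases eq_gpt_or y with rfl | rfl
    · obtain ⟨x, hx⟩ := h.surjective (gpt V)
      exact ⟨x, subset_closure hx, hx⟩
    · by_contra hne
      have h1 : closure (f ⁻¹' {gpt V}) ⊆ f ⁻¹' {gpt V} := by
        intro x hx
        rcases eq_gpt_or (f x) with hx' | hx'
        · exact hx'
        · exact absurd ⟨x, hx, hx'⟩ hne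
      have h2 : IsClosed (f ⁻¹' {gpt V}) := closure_subset_iff_isClosed.mp h1
      have h3 : IsClosed ({gpt V} : Set (Spec (CommRingCat.of V))) := h.isClosed_preimage.mp h2
      have h4 : closedPoint V = gpt V :=
        (specializes_closedPoint (R := V) (gpt V)).mem_closed h3 rfl
      exact IsDiscreteValuationRing.not_a_field V (congrArg PrimeSpectrum.asIdeal h4)
  · intro h
    have := surjective_of_isSSubtrusive h
    exact isQuotientMap_of f fun T hT => isClosed_of_stable T (stable_of_isSSubtrusive f h T hT)

end dvr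

/-- Base change along a composite. -/
theorem pullback_snd_of_isPullback {X Y X' Y' : Scheme.{u}} {f : X ⟶ Y} {i₁ : X' ⟶ X}
    {i₂ : Y' ⟶ Y} {f' : X' ⟶ Y'} (hpb : IsPullback f' i₁ i₂ f) {T : Scheme.{u}} (g : T ⟶ Y') :
    ∃ e : pullback f' g ≅ pullback f (g ≫ i₂), e.hom ≫ pullback.snd f (g ≫ i₂) = pullback.snd f' g := by
  have h1 : IsPullback (pullback.snd f' g) (pullback.fst f' g ≫ i₁) (g ≫ i₂) f :=
    (IsPullback.of_hasPullback f' g).flip.paste_vert hpb
  exact ⟨h1.flip.isoPullback, h1.flip.isoPullback_hom_snd⟩

/-- Submersiveness can be checked over valuation rings, for quasi-compact morphisms. -/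
theorem univSubmersive_iff_forall_valuationRing {X Y : Scheme.{u}} (f : X ⟶ Y) [QuasiCompact f] :
    SGA1.UnivSubmersive f ↔
      ∀ (V : Type u) [CommRing V] [IsDomain V] [ValuationRing V] (g : Spec (CommRingCat.of V) ⟶ Y),
        Topology.IsQuotientMap (pullback.snd f g) := by
  constructor
  · intro h V _ _ _ g
    exact h _ _ _ (IsPullback.of_hasPullback f g).flip
  · intro h X' Y' i₁ i₂ f' hpb
    have hqc : QuasiCompact f' := MorphismProperty.of_isPullback hpb.flip inferInstance
    have h' : ∀ (V : Type u) [CommRing V] [IsDomain V] [ValuationRing V]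
        (g : Spec (CommRingCat.of V) ⟶ Y'), Topology.IsQuotientMap (pullback.snd f' g) := by
      intro V _ _ _ g
      obtain ⟨e, he⟩ := pullback_snd_of_isPullback hpb g
      rw [← he]
      exact (h V (g ≫ i₂)).comp e.hom.homeomorph.isQuotientMap
    have hs : Surjective f' := by
      refine ⟨fun y => ?_⟩
      obtain ⟨V, _, _, _, g, hg1, -⟩ := exists_valuationRing (specializes_refl y)
      obtain ⟨z, hz⟩ := (h' V g).surjective (closedPoint V)
      refine ⟨pullback.fst f' g z, ?_⟩
      rw [← Scheme.Hom.comp_apply, pullback.condition, Scheme.Hom.comp_apply, ← hg1]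
      exact congrArg g hz
    change Topology.IsQuotientMap f'
    refine isQuotientMap_of f' fun T hT => isClosed_of_preimage f' T hT ?_
    intro y' y hy hy'
    obtain ⟨V, _, _, _, g, hg1, hg2⟩ := exists_valuationRing hy
    have h1 : IsClosed (g ⁻¹' T) := by
      rw [← (h' V g).isClosed_preimage]
      have : (pullback.snd f' g) ⁻¹' (g ⁻¹' T) = (pullback.fst f' g) ⁻¹' (f' ⁻¹' T) := by
        rw [← Set.preimage_comp, ← Set.preimage_comp]
        change (pullback.snd f' g ≫ g) ⁻¹' T = (pullback.fst f' g ≫ f') ⁻¹' T
        rw [pullback.condition]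
      rw [this]
      exact hT.preimage (pullback.fst f' g).continuous
    have h2 : gpt V ∈ g ⁻¹' T := by
      change g (gpt V) ∈ T
      rw [hg2]; exact hy'
    have h3 : closedPoint V ∈ g ⁻¹' T :=
      (gpt_specializes (V := V) (closedPoint V)).mem_closed h1 h2
    rw [← hg1]
    exact h3

/-- Universal S-subtrusiveness can be checked over valuation rings. -/
theorem univSSubtrusive_iff_forall_valuationRing {X Y : Scheme.{u}} (f : X ⟶ Y) :
    Subtr.UnivSSubtrusive f ↔
      ∀ (V : Type u) [CommRing V] [IsDomain V] [ValuationRing V] (g : Spec (CommRingCat.of V) ⟶ Y),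
        Subtr.IsSSubtrusive (pullback.snd f g) := by
  constructor
  · intro h V _ _ _ g
    exact h _ _ _ (IsPullback.of_hasPullback f g).flip
  · intro h X' Y' i₁ i₂ f' hpb y y' hy
    obtain ⟨V, _, _, _, g, hg1, hg2⟩ := exists_valuationRing hy
    obtain ⟨e, he⟩ := pullback_snd_of_isPullback hpb g
    obtain ⟨x, x', hx, h1, h2⟩ := h V (g ≫ i₂) (gpt_specializes (V := V) (closedPoint V))
    have he' : e.inv ≫ pullback.snd f' g = pullback.snd f (g ≫ i₂) := by
      rw [← he, e.inv_hom_id_assoc]
    have hk : (e.inv ≫ pullback.fst f' g) ≫ f' = pullback.snd f (g ≫ i₂) ≫ g := by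
      rw [Category.assoc, pullback.condition, ← Category.assoc, he']
    refine ⟨(e.inv ≫ pullback.fst f' g) x, (e.inv ≫ pullback.fst f' g) x',
      hx.map (e.inv ≫ pullback.fst f' g).continuous, ?_, ?_⟩
    · rw [← Scheme.Hom.comp_apply, hk, Scheme.Hom.comp_apply, h1, hg1]
    · rw [← Scheme.Hom.comp_apply, hk, Scheme.Hom.comp_apply, h2, hg2]

/-- Universal S-subtrusiveness and liftings of valuation rings. -/
theorem univSSubtrusive_iff_exists_lift {X Y : Scheme.{u}} (f : X ⟶ Y) :
    Subtr.UnivSSubtrusive f ↔
      ∀ (V : Type u) [CommRing V] [IsDomain V] [ValuationRing V] (g : Spec (CommRingCat.of V) ⟶ Y),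
        ∃ (V' : Type u) (_ : CommRing V') (_ : IsDomain V') (_ : ValuationRing V')
          (a : Spec (CommRingCat.of V') ⟶ X) (b : Spec (CommRingCat.of V') ⟶ Spec (CommRingCat.of V)),
          Surjective b ∧ a ≫ f = b ≫ g := by
  rw [univSSubtrusive_iff_forall_valuationRing]
  constructor
  · intro h V _ _ _ g
    obtain ⟨W, _, _, _, k, hk⟩ := ((tfae V (pullback.snd f g)).out 1 4).mp (h V g)
    exact ⟨W, inferInstance, inferInstance, inferInstance, k ≫ pullback.fst f g,
      k ≫ pullback.snd f g, hk, by rw [Category.assoc, Category.assoc, pullback.condition]⟩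
  · intro h V _ _ _ g
    obtain ⟨V', _, _, _, a, b, hb, hab⟩ := h V g
    refine ((tfae V (pullback.snd f g)).out 1 4).mpr ?_
    refine ⟨V', inferInstance, inferInstance, inferInstance, pullback.lift a b hab, ?_⟩
    rw [pullback.lift_snd]
    exact hb

end K834.Subm
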