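import Groth.Agent.Subtr.K834.Basic

/-!
# Morphisms to the spectrum of a valuation ring

The equivalent forms of S-subtrusiveness over a valuation ring.
-/

set_option autoImplicit false
set_option backward.isDefEq.respectTransparency false
set_option backward.isDefEq.respectTransparency.types false

universe u

open CategoryTheory CategoryTheory.Limits AlgebraicGeometry Subtr IsLocalRing

namespace K834.Val

open K834.Basic

section flat

variable {V : Type u} [CommRing V] [IsDomain V] [ValuationRing V]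

/-- A subscheme of `X` whose ideals are saturated with respect to a valuation ring is flat. -/
theorem flat_subscheme {X : Scheme.{u}} (f : X ⟶ Spec (CommRingCat.of V)) (I : X.IdealSheafData)
    (h : ∀ (U : X.affineOpens) (v : V) (_ : v ≠ 0) (a : Γ(X, U.1)),
      ((Scheme.ΓSpecIso (CommRingCat.of V)).inv ≫ f.appLE ⊤ U.1 le_top).hom v * a ∈ I.ideal U →
        a ∈ I.ideal U) : Flat (I.subschemeι ≫ f) := by
  rw [IsZariskiLocalAtSource.iff_of_openCover (P := @Flat) I.subschemeCover.openCover]
  intro (U : X.affineOpens)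
  change Flat (I.subschemeCover.f U ≫ I.subschemeι ≫ f)
  let ψ : CommRingCat.of V ⟶ Γ(X, U.1) :=
    (Scheme.ΓSpecIso (CommRingCat.of V)).inv ≫ f.appLE ⊤ U.1 le_top
  have hψ : Spec.map ψ = U.2.fromSpec ≫ f := by
    have := IsAffineOpen.SpecMap_appLE_fromSpec f (isAffineOpen_top (Spec (CommRingCat.of V)))
      U.2 (le_top : U.1 ≤ f ⁻¹ᵁ ⊤)
    rw [← this, IsAffineOpen.fromSpec_top, Scheme.isoSpec_Spec_inv, ← Spec.map_comp]
  have h1 : I.subschemeCover.f U ≫ I.subschemeι ≫ f =
      Spec.map (ψ ≫ CommRingCat.ofHom (Ideal.Quotient.mk (I.ideal U))) := by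
    rw [Spec.map_comp, hψ, ← Category.assoc, ← Category.assoc]
    congr 1
    exact I.subschemeCover_map_subschemeι U
  rw [h1, Flat.SpecMap_iff]
  let _ : Algebra V (Γ(X, U.1) ⧸ I.ideal U) :=
    (ψ ≫ CommRingCat.ofHom (Ideal.Quotient.mk (I.ideal U))).hom.toAlgebra
  change Module.Flat V (Γ(X, U.1) ⧸ I.ideal U)
  rw [Module.Flat.flat_iff_torsion_eq_bot_of_isBezout, eq_bot_iff]
  rintro m ⟨⟨r, hr⟩, hm⟩
  obtain ⟨a, rfl⟩ := Ideal.Quotient.mk_surjective m
  have hr' : r ≠ 0 := nonZeroDivisors.ne_zero hr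
  have h2 : (Ideal.Quotient.mk (I.ideal U)) (ψ.hom r * a) = 0 := by
    rw [map_mul]
    exact hm
  rw [Ideal.Quotient.eq_zero_iff_mem] at h2
  rw [Submodule.mem_bot, Ideal.Quotient.eq_zero_iff_mem]
  exact h U r hr' a h2

variable (K : Type u) [Field K] [Algebra V K] [IsFractionRing V K]

/-- The inclusion of the generic fibre. -/
noncomputable abbrev genInc {X : Scheme.{u}} (f : X ⟶ Spec (CommRingCat.of V)) :
    pullback f (Spec.map (CommRingCat.ofHom (algebraMap V K))) ⟶ X :=
  pullback.fst f (Spec.map (CommRingCat.ofHom (algebraMap V K)))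

omit [ValuationRing V] in
theorem genPt_eq : (Spec.map (CommRingCat.ofHom (algebraMap V K))) (closedPoint K) = gpt V := by
  apply PrimeSpectrum.ext
  change Ideal.comap (algebraMap V K) (maximalIdeal K) = ⊥
  rw [IsLocalRing.maximalIdeal_eq_bot]
  exact (RingHom.injective_iff_ker_eq_bot _).mp (IsFractionRing.injective V K)

omit [ValuationRing V] in
theorem range_genSpec : Set.range (Spec.map (CommRingCat.ofHom (algebraMap V K))) = {gpt V} := by
  ext x
  constructor
  · rintro ⟨y, rfl⟩
    have : y = closedPoint K := Subsingleton.elim (α := PrimeSpectrum K) _ _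
    rw [this]
    exact genPt_eq K
  · rintro rfl
    exact ⟨closedPoint K, genPt_eq K⟩

omit [ValuationRing V] in
theorem range_genInc {X : Scheme.{u}} (f : X ⟶ Spec (CommRingCat.of V)) :
    Set.range (genInc K f) = f ⁻¹' {gpt V} := by
  rw [genInc, Scheme.Pullback.range_fst, range_genSpec]

/-- The closure of the generic fibre is flat over a valuation ring. -/
theorem flat_closure {X : Scheme.{u}} (f : X ⟶ Spec (CommRingCat.of V)) :
    Flat ((genInc K f).imageι ≫ f) := by
  have hqc : QuasiCompact (genInc K f) := inferInstance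
  refine flat_subscheme f _ ?_
  intro U v hv a ha
  rw [Scheme.Hom.ker_apply, RingHom.mem_ker] at ha ⊢
  rw [map_mul] at ha
  refine (IsUnit.mul_right_eq_zero ?_).mp ha
  let j := genInc K f
  let pK : pullback f (Spec.map (CommRingCat.ofHom (algebraMap V K))) ⟶ Spec (CommRingCat.of K) :=
    pullback.snd _ _
  have e : ((Scheme.ΓSpecIso (CommRingCat.of V)).inv ≫ f.appLE ⊤ U.1 le_top) ≫ j.app U.1 =
      CommRingCat.ofHom (algebraMap V K) ≫ (Scheme.ΓSpecIso (CommRingCat.of K)).inv ≫
        pK.appLE ⊤ (j ⁻¹ᵁ U.1) le_top := by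
    have h1 : f.appLE ⊤ U.1 le_top ≫ j.app U.1 = (j ≫ f).appLE ⊤ (j ⁻¹ᵁ U.1) le_top := by
      rw [Scheme.Hom.app_eq_appLE, Scheme.Hom.appLE_comp_appLE]
    have h2 : j ≫ f = pK ≫ Spec.map (CommRingCat.ofHom (algebraMap V K)) := pullback.condition
    rw [Category.assoc, h1]
    simp only [h2]
    rw [Scheme.Hom.comp_appLE, ← Scheme.ΓSpecIso_inv_naturality_assoc]
    rfl
  have e' := congrArg (fun φ => φ.hom v) e
  simp only [CommRingCat.hom_comp, RingHom.comp_apply] at e'
  have e'' : (j.app U.1).hom (((Scheme.ΓSpecIso (CommRingCat.of V)).inv ≫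
      f.appLE ⊤ U.1 le_top).hom v) = _ := e'
  rw [e'']
  have hu : IsUnit ((CommRingCat.ofHom (algebraMap V K)).hom v) :=
    (isUnit_iff_ne_zero.mpr ((map_ne_zero_iff _ (IsFractionRing.injective V K)).mpr hv))
  exact (hu.map _).map _

end flat

section tfae

variable {V : Type u} [CommRing V] [IsDomain V]

theorem gpt_specializes (y : PrimeSpectrum V) : gpt V ⤳ y := by
  rw [← PrimeSpectrum.le_iff_specializes]
  exact bot_le (a := y.asIdeal)

/-- A morphism from the spectrum of a domain to the spectrum of a valuation ring hitting the generic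
point at the generic point is flat. -/
theorem flat_of_gpt [ValuationRing V] {W : Type u} [CommRing W] [IsDomain W]
    (g : Spec (CommRingCat.of W) ⟶ Spec (CommRingCat.of V)) (hg : g (gpt W) = gpt V) : Flat g := by
  obtain ⟨φ, rfl⟩ := Spec.map_surjective g
  rw [Flat.SpecMap_iff]
  let _ : Algebra V W := φ.hom.toAlgebra
  change Module.Flat V W
  have hinj : Function.Injective (algebraMap V W) := by
    rw [RingHom.injective_iff_ker_eq_bot]
    exact congrArg PrimeSpectrum.asIdeal hg
  rw [Module.Flat.flat_iff_torsion_eq_bot_of_isBezout, eq_bot_iff]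
  rintro m ⟨⟨r, hr⟩, hm⟩
  have hr' : r ≠ 0 := nonZeroDivisors.ne_zero hr
  have h2 : algebraMap V W r * m = 0 := hm
  rw [Submodule.mem_bot]
  exact (mul_eq_zero.mp h2).resolve_left ((map_ne_zero_iff _ hinj).mpr hr')

theorem gpt_of_surjective {W : Type u} [CommRing W] [IsDomain W]
    (g : Spec (CommRingCat.of W) ⟶ Spec (CommRingCat.of V)) [Surjective g] :
    g (gpt W) = gpt V := by
  obtain ⟨w, hw⟩ := (inferInstance : Surjective g).surj (gpt V)
  have h1 : g (gpt W) ⤳ g w := (gpt_specializes w).map g.continuous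
  rw [hw] at h1
  exact (h1.antisymm (gpt_specializes _)).eq

/-- A morphism from the spectrum of a local domain hitting both the generic and the closed point of
the spectrum of a valuation ring is surjective. -/
theorem surjective_of_gpt [ValuationRing V] {W : Type u} [CommRing W] [IsDomain W]
    (g : Spec (CommRingCat.of W) ⟶ Spec (CommRingCat.of V)) (hg : g (gpt W) = gpt V)
    (hc : ∃ w, g w = closedPoint V) : Surjective g := by
  have : Flat g := flat_of_gpt g hg
  refine ⟨fun y => ?_⟩
  obtain ⟨w, hw⟩ := hc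
  have h1 : y ⤳ g w := by
    rw [hw]; exact specializes_closedPoint (R := V) y
  obtain ⟨x, -, hx⟩ := Flat.generalizingMap g h1
  exact ⟨x, hx⟩

theorem tfae (V : Type u) [CommRing V] [IsDomain V] [ValuationRing V]
    {X : Scheme.{u}} (f : X ⟶ Spec (CommRingCat.of V)) :
    List.TFAE [
      Subtr.UnivSSubtrusive f,
      Subtr.IsSSubtrusive f,
      ∀ y : Spec (CommRingCat.of V), ∃ x : X,
        x ∈ closure (f ⁻¹' {(⟨⊥, Ideal.isPrime_bot⟩ : PrimeSpectrum V)}) ∧ f x = y,
      ∃ x x' : X, x' ⤳ x ∧ f x = IsLocalRing.closedPoint V ∧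
        f x' = (⟨⊥, Ideal.isPrime_bot⟩ : PrimeSpectrum V),
      ∃ (W : Type u) (_ : CommRing W) (_ : IsDomain W) (_ : ValuationRing W)
        (g : Spec (CommRingCat.of W) ⟶ X), Surjective (g ≫ f),
      ∃ (Z : Scheme.{u}) (i : Z ⟶ X), IsClosedImmersion i ∧ Flat (i ≫ f) ∧ Surjective (i ≫ f)] := by
  tfae_have 1 → 2 := isSSubtrusive
  tfae_have 2 → 3 := by
    intro h y
    obtain ⟨x, x', hx, h1, h2⟩ := h (gpt_specializes (V := V) y)
    exact ⟨x, hx.mem_closed isClosed_closure (subset_closure h2), h1⟩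
  tfae_have 3 → 6 := by
    intro h
    let K := FractionRing V
    have hqc : QuasiCompact (genInc K f) := inferInstance
    refine ⟨_, (genInc K f).imageι, inferInstance, flat_closure K f, ⟨fun y => ?_⟩⟩
    obtain ⟨x, hx, hxy⟩ := h y
    have h1 : closure (Set.range (genInc K f)) = Set.range (genInc K f).imageι := by
      rw [Scheme.IdealSheafData.range_subschemeι, Scheme.Hom.support_ker]
    have h2 : f ⁻¹' {(⟨⊥, Ideal.isPrime_bot⟩ : PrimeSpectrum V)} = Set.range (genInc K f) :=
      (range_genInc K f).symm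
    rw [h2, h1] at hx
    obtain ⟨z, rfl⟩ := hx
    exact ⟨z, hxy⟩
  tfae_have 6 → 1 := by
    rintro ⟨Z, i, -, hfl, hs⟩
    exact of_comp i f (of_flat (i ≫ f))
  tfae_have 2 → 4 := by
    intro h
    exact h (specializes_closedPoint (R := V) _)
  tfae_have 4 → 5 := by
    rintro ⟨x, x', hx, h1, h2⟩
    obtain ⟨W, _, _, _, g, hg1, hg2⟩ := exists_valuationRing hx
    refine ⟨W, inferInstance, inferInstance, inferInstance, g, surjective_of_gpt (g ≫ f) ?_
      ⟨closedPoint W, ?_⟩⟩
    · exact (congrArg f hg2).trans h2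
    · exact (congrArg f hg1).trans h1
  tfae_have 5 → 1 := by
    rintro ⟨W, _, _, _, g, hs⟩
    have hfl : Flat (g ≫ f) := flat_of_gpt _ (gpt_of_surjective _)
    exact of_comp g f (of_flat (g ≫ f))
  tfae_finish

end tfae

end K834.Val
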