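import Groth.Agent.Desc.Complement

/-!
# The complement of a section of an étale separated descent datum, universally closed case

The proofs are those of `Groth.Agent.Desc.Complement` (which are for integral morphisms).
-/

set_option autoImplicit false
set_option backward.isDefEq.respectTransparency false
set_option backward.isDefEq.respectTransparency.types false
open CategoryTheory CategoryTheory.Limits AlgebraicGeometry Opposite
universe w u
open _root_.Desc Groth.Agent.Desc.SecFunctor Groth.Agent.Desc.SecPresheaf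
open Groth.Agent.Picfga.OverRep Groth.Agent.Desc.Complement

namespace K834.Compl

section complement

variable {X S : Scheme.{u}} {p : X ⟶ S} (D : SchDD p)
variable (σ : (secFunctor D).obj (op (Over.mk (𝟙 S))))

theorem cover_compl [UniversallyClosed p] [IsSeparated D.obj.hom] [IsOpenImmersion (val D σ)]
    (T : Over S) (t : (secFunctor D).obj (op T)) (y : T.left) :
    ∃ (W : T.left.Opens), y ∈ W ∧
      ((secFunctor D).map (res T W).op t = (secFunctor D).map (toBase _).op σ ∨
        ∃ a : (secFunctor (restrictDD D (compl D σ) (saturated_compl D σ))).obj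
            (op (Over.mk (W.ι ≫ T.hom))),
          (secFunctor D).map (res T W).op t = (ιSec (saturated_compl D σ)).app _ a) := by
  have hcl : IsClosedMap (pullback.snd p T.hom) := (pullback.snd p T.hom).isClosedMap
  obtain ⟨A₁, hA₁⟩ : ∃ A : Set T.left, A = (pullback.snd p T.hom) '' ((uval D t).1 ⁻¹'
    (Set.range (val D σ))ᶜ) := ⟨_, rfl⟩
  obtain ⟨A₂, hA₂⟩ : ∃ A : Set T.left, A = (pullback.snd p T.hom) '' ((uval D t).1 ⁻¹'
    (Set.range (val D σ))) := ⟨_, rfl⟩
  have hA₁' : IsClosed A₁ := by
    rw [hA₁]
    exact hcl _ (((val D σ).opensRange.2.isClosed_compl).preimage (uval D t).1.continuous)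
  have hA₂' : IsClosed A₂ := by
    rw [hA₂]
    exact hcl _ (((val D σ).isClosedEmbedding.isClosed_range).preimage (uval D t).1.continuous)
  by_cases hy₁ : y ∈ A₁
  · have hy₂ : y ∉ A₂ := by
      intro hy₂
      rw [hA₁] at hy₁
      rw [hA₂] at hy₂
      obtain ⟨a, ha, ha'⟩ := hy₁
      obtain ⟨b, hb, hb'⟩ := hy₂
      exact ha (uval_mem_range D σ t a b (ha'.trans hb'.symm) hb)
    refine ⟨⟨A₂ᶜ, hA₂'.isOpen_compl⟩, hy₂, Or.inr ?_⟩
    obtain ⟨a, ha⟩ := exists_ιSec (saturated_compl D σ)
      ((secFunctor D).map (res T ⟨A₂ᶜ, hA₂'.isOpen_compl⟩).op t) (by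
      intro Z z x h
      apply range_ev_res
      intro w hw hw'
      apply hw
      rw [hA₂]
      exact ⟨w, hw', rfl⟩)
    exact ⟨a, ha.symm⟩
  · refine ⟨⟨A₁ᶜ, hA₁'.isOpen_compl⟩, hy₁, Or.inl ?_⟩
    apply ev_ext
    intro Z z x h
    rw [ev_toBase]
    apply eq_comp_val
    apply range_ev_res
    intro w hw
    by_contra hw'
    apply hw
    rw [hA₁]
    exact ⟨w, hw', rfl⟩

end complement

/-- The complement of a global section of an étale separated descent datum. -/
theorem exists_complement {X S : Scheme.{u}} (p : X ⟶ S)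
    [UniversallyClosed p] [Surjective p] (D : SchDD p) [QuasiCompact D.obj.hom] [IsSeparated D.obj.hom]
    [Etale D.obj.hom] (hZ : IsZarSheaf (secFunctor D))
    (σ : (secFunctor D).obj (op (Over.mk (𝟙 S)))) :
    ∃ D' : SchDD p, QuasiCompact D'.obj.hom ∧ IsSeparated D'.obj.hom ∧ Etale D'.obj.hom ∧
      -- bounds
      (∀ n : ℕ, (∀ (Ω : Type u) [Field Ω] (s : Spec (.of Ω) ⟶ S)
          (a : Fin (n + 2) → (secFunctor D).obj (op (Over.mk s))), ¬ Function.Injective a) →
        (∀ (Ω : Type u) [Field Ω] (s : Spec (.of Ω) ⟶ S)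
          (a : Fin (n + 1) → (secFunctor D').obj (op (Over.mk s))), ¬ Function.Injective a)) ∧
      -- representability
      ∀ U : Over S, (secFunctor D').RepresentableBy U →
        Nonempty ((secFunctor D).RepresentableBy (Over.mk (coprod.desc (𝟙 S) U.hom))) := by
  refine ⟨restrictDD D (compl D σ) (saturated_compl D σ), ?_, ?_, ?_, ?_, ?_⟩
  · have : QuasiCompact (compl D σ).ι := by
      refine ⟨fun K hK hK' => ?_⟩
      rw [← Set.preimage_inter_range,
        (compl D σ).ι.isOpenEmbedding.isInducing.isCompact_preimage_iff Set.inter_subset_right,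
        Scheme.Opens.range_ι]
      exact hK'.inter_right (val D σ).opensRange.2.isClosed_compl
    exact inferInstanceAs (QuasiCompact ((compl D σ).ι ≫ D.obj.hom))
  · exact inferInstanceAs (IsSeparated ((compl D σ).ι ≫ D.obj.hom))
  · exact inferInstanceAs (Etale ((compl D σ).ι ≫ D.obj.hom))
  · intro n hn Ω _ s a ha
    refine hn Ω s (Fin.cons ((secFunctor D).map (toBase _).op σ)
      (fun i => (ιSec (saturated_compl D σ)).app _ (a i))) ?_
    rw [Fin.cons_injective_iff]
    refine ⟨?_, (ιSec_injective (saturated_compl D σ) _).comp ha⟩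
    rintro ⟨i, hi⟩
    have := disj_compl D σ (Over.mk s) (a i) hi
    exact this.false (IsLocalRing.closedPoint Ω : Spec (.of Ω))
  · intro U e
    exact rep_coprod hZ (ιSec (saturated_compl D σ)) (fun T => ιSec_injective _ T) σ
      (disj_compl D σ) (cover_compl D σ) e

end K834.Compl
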