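import Groth.Agent.Desc.IntEff
import Groth.Agent.Subtr.K834.Compl

/-!
# Effectivity of étale separated descent data along proper morphisms, from local sections

The proofs are those of `Groth.Agent.Desc.IntEff` (which are for integral morphisms).
-/

set_option autoImplicit false
set_option backward.isDefEq.respectTransparency false
set_option backward.isDefEq.respectTransparency.types false
open CategoryTheory CategoryTheory.Limits AlgebraicGeometry Opposite
universe u
open _root_.Desc Groth.Agent.Desc.SecFunctor Groth.Agent.Desc.SecPresheaf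
  Groth.Agent.Desc.SecDescent Groth.Agent.Picfga.OverRep Groth.Agent.Desc.ZarGlue
  Groth.Agent.Desc.LocalRep Groth.Agent.Desc Groth.Agent.Desc.IntEff
open Groth.Agent.Desc.Complement (uval)

namespace K834.PropEff

/-- The existence of étale-local sections through points of the underlying scheme of an étale
separated descent datum. -/
def LocalSections : Prop := ∀ {A : CommRingCat.{u}} {X : Scheme.{u}} (p : X ⟶ Spec A)
    [IsProper p] [LocallyOfFinitePresentation p] [Surjective p] (D : SchDD p)
    [IsSeparated D.obj.hom] [Etale D.obj.hom] (v : D.obj.left),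
    ∃ (A' : CommRingCat.{u}) (q : Spec A' ⟶ Spec A) (_ : Etale q)
      (σ : (secFunctor D).obj (op (Over.mk q))), v ∈ Set.range (uval D σ).1

/-- The reduction to étale neighbourhoods with a section. -/
theorem exists_rep_step (hloc : LocalSections.{u}) {A : CommRingCat.{u}}
    {X : Scheme.{u}} (p : X ⟶ Spec A) [IsProper p] [LocallyOfFinitePresentation p] [Surjective p] (D : SchDD p)
    [QuasiCompact D.obj.hom] [IsSeparated D.obj.hom] [Etale D.obj.hom]
    (R : ∀ {A' : CommRingCat.{u}} (q : Spec A' ⟶ Spec A) (_ : Etale q) (_ : Spec A')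
      (_ : (secFunctor D).obj (op (Over.mk q))), ∃ E : Over (Spec A'), Etale E.hom ∧
        IsSeparated E.hom ∧ QuasiCompact E.hom ∧
        Nonempty ((restr q (secFunctor D)).RepresentableBy E)) :
    ∃ U : Over (Spec A), Etale U.hom ∧ IsSeparated U.hom ∧ QuasiCompact U.hom ∧
      Nonempty ((secFunctor D).RepresentableBy U) := by
  -- image of a section
  have himg : ∀ (T : Over (Spec A)) (_ : (secFunctor D).obj (op T)) (t : T.left),
      ∃ v : D.obj.left, p (D.obj.hom v) = T.hom t := by
    intro T σ t
    obtain ⟨y, hy⟩ := (inferInstance : Surjective (pullback.snd p T.hom)).surj t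
    let w := (ev σ (pullback.snd p T.hom) (pullback.fst p T.hom) pullback.condition)
    refine ⟨w.1 y, ?_⟩
    have hw : D.obj.hom (w.1 y) = pullback.fst p T.hom y := by
      have := w.2
      exact (Scheme.Hom.comp_apply _ _ _).symm.trans (by rw [this])
    rw [hw, ← Scheme.Hom.comp_apply, pullback.condition, Scheme.Hom.comp_apply, hy]
  -- local sections through points
  have hpt : ∀ v : D.obj.left, ∃ (A' : CommRingCat.{u}) (q : Spec A' ⟶ Spec A) (_ : Etale q)
      (t : Spec A') (_ : q t = p (D.obj.hom v)), Nonempty ((secFunctor D).obj (op (Over.mk q))) := by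
    intro v
    obtain ⟨A', q, hq, σ, y, hy⟩ := hloc p D v
    refine ⟨A', q, hq, pullback.snd p q y, ?_, ⟨σ⟩⟩
    rw [← hy, ← Scheme.Hom.comp_apply, ← pullback.condition, Scheme.Hom.comp_apply]
    have h1 : (uval D σ).1 ≫ D.obj.hom = pullback.fst p q := (uval D σ).2
    rw [← Scheme.Hom.comp_apply (uval D σ).1 D.obj.hom, h1]
    rfl
  -- the image of `V` in `S`
  let W : (Spec A).Opens := ⟨{s | ∃ v : D.obj.left, p (D.obj.hom v) = s}, by
    rw [isOpen_iff_mem_nhds]
    rintro s ⟨v, rfl⟩
    obtain ⟨A', q, hq, t, ht, ⟨σ⟩⟩ := hpt v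
    refine Filter.mem_of_superset (q.isOpenMap.isOpen_range.mem_nhds ⟨t, ht⟩) ?_
    rintro _ ⟨t', rfl⟩
    exact himg (Over.mk q) σ t'⟩
  have hWc : IsCompact (W : Set (Spec A)) := by
    have h1 : (W : Set (Spec A)) = Set.range (D.obj.hom ≫ p) := by
      ext s
      constructor
      · rintro ⟨v, hv⟩
        exact ⟨v, hv⟩
      · rintro ⟨v, hv⟩
        exact ⟨v, hv⟩
    have : CompactSpace D.obj.left := by
      have : CompactSpace X := QuasiCompact.compactSpace_of_compactSpace p
      exact QuasiCompact.compactSpace_of_compactSpace D.obj.hom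
    rw [h1]
    exact isCompact_range (D.obj.hom ≫ p).continuous
  have hWqc : QuasiCompact W.ι := by
    have : CompactSpace W.toScheme := isCompact_iff_compactSpace.mp hWc
    infer_instance
  -- representability over `W`
  obtain ⟨E, h1, h2, h3, ⟨e⟩⟩ := exists_rep_of_local (restr W.ι (secFunctor D))
    (isZarSheaf_restr _ (ZarSec.isZarSheaf_secFunctor D))
    (by
      intro T' T g hg1 hg2
      apply IsDesc.restr
      apply isDesc_secFunctor
      intro Z z
      change EffectiveEpi (pullback.snd g.left z)
      infer_instance)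
    (by
      rintro ⟨s, hs⟩
      obtain ⟨v, hv⟩ := hs
      obtain ⟨A', q, hq, t, ht, ⟨σ⟩⟩ := hpt v
      have hr : Set.range q ⊆ W := by
        rintro _ ⟨t', rfl⟩
        exact himg (Over.mk q) σ t'
      let q' : Spec A' ⟶ W := IsOpenImmersion.lift W.ι q (by simpa using hr)
      have hq' : q' ≫ W.ι = q := IsOpenImmersion.lift_fac _ _ _
      have hqe : Etale q' := by
        have : Etale (q' ≫ W.ι) := by rw [hq']; exact hq
        exact Etale.of_comp q' W.ι
      obtain ⟨E, h1, h2, h3, ⟨e⟩⟩ := R q hq t σ
      refine ⟨Over.mk q', hqe, t, ?_, E, h1, h2, h3, ⟨e.ofIso (restrCompIso hq' _).symm⟩⟩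
      apply W.ι.injective
      change W.ι (q' t) = s
      rw [← Scheme.Hom.comp_apply, hq', ht, hv])
  obtain ⟨e'⟩ := exists_rep_of_support W (fun T σ => by
    rintro _ ⟨t, rfl⟩
    exact himg T σ t) E e
  refine ⟨(Over.map W.ι).obj E, ?_, ?_, ?_, ⟨e'⟩⟩
  · change Etale (E.hom ≫ W.ι)
    infer_instance
  · change IsSeparated (E.hom ≫ W.ι)
    infer_instance
  · change QuasiCompact (E.hom ≫ W.ι)
    infer_instance

/-- The main step: bounded descent data over an affine base. -/
theorem exists_rep_of_bounded (hloc : LocalSections.{u}) (n : ℕ) : ∀ {A : CommRingCat.{u}}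
    {X : Scheme.{u}} (p : X ⟶ Spec A) [IsProper p] [LocallyOfFinitePresentation p] [Surjective p] (D : SchDD p)
    [QuasiCompact D.obj.hom] [IsSeparated D.obj.hom] [Etale D.obj.hom] (_ : Bounded D n),
    ∃ U : Over (Spec A), Etale U.hom ∧ IsSeparated U.hom ∧ QuasiCompact U.hom ∧
      Nonempty ((secFunctor D).RepresentableBy U) := by
  induction n with
  | zero =>
    intro A X p _ _ _ D _ _ _ hb
    apply exists_rep_step hloc p D
    intro A' q hq t σ
    -- the bound `0` says that there are no sections over nonempty schemes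
    let t' : Spec ((Spec A').residueField t) ⟶ Spec A' := (Spec A').fromSpecResidueField t
    exact (hb ((Spec A').residueField t) (t' ≫ q)
      (fun _ => (secFunctor D).map (Over.homMk t' rfl : Over.mk (t' ≫ q) ⟶ Over.mk q).op σ)
      (fun _ _ _ => Subsingleton.elim (α := Fin 1) _ _)).elim
  | succ n IH =>
    intro A X p _ _ _ D _ _ _ hb
    apply exists_rep_step hloc p D
    intro A' q hq t σ
    let p' := pullback.snd p q
    let D₁ : SchDD p' := pullDD q D
    have i1 : IsProper p' := inferInstanceAs (IsProper (pullback.snd p q))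
    have i1' : LocallyOfFinitePresentation p' :=
      inferInstanceAs (LocallyOfFinitePresentation (pullback.snd p q))
    have i2 : Surjective p' := inferInstanceAs (Surjective (pullback.snd p q))
    have i3 : QuasiCompact D₁.obj.hom :=
      inferInstanceAs (QuasiCompact (pullback.snd D.obj.hom (pullback.fst p q)))
    have i4 : IsSeparated D₁.obj.hom :=
      inferInstanceAs (IsSeparated (pullback.snd D.obj.hom (pullback.fst p q)))
    have i5 : Etale D₁.obj.hom :=
      inferInstanceAs (Etale (pullback.snd D.obj.hom (pullback.fst p q)))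
    let i := restrSecIso q D
    let e0 : (Over.map q).obj (Over.mk (𝟙 (Spec A'))) ≅ Over.mk q :=
      Over.isoMk (Iso.refl _) (by simp)
    let σ' : (secFunctor D₁).obj (op (Over.mk (𝟙 (Spec A')))) :=
      i.hom.app _ ((secFunctor D).map e0.hom.op σ)
    obtain ⟨D', j1, j2, j3, hb', hrep⟩ := K834.Compl.exists_complement p' D₁
      (ZarSec.isZarSheaf_secFunctor D₁) σ'
    have hb1 : Bounded D₁ (n + 1) := bounded_pullDD q hb
    obtain ⟨U, k1, k2, k3, ⟨e⟩⟩ := IH p' D' (hb' n hb1)
    obtain ⟨e'⟩ := hrep U e
    refine ⟨_, ?_, ?_, ?_, ⟨e'.ofIso i.symm⟩⟩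
    · exact etale_coprod (𝟙 _) U.hom
    · exact isSeparated_coprod (𝟙 _) U.hom
    · exact quasiCompact_coprod (𝟙 _) U.hom

/-- Effectivity, from the existence of étale-local sections. -/
theorem effective_of_localSections (hloc : LocalSections.{u}) {X S : Scheme.{u}} (p : X ⟶ S)
    [IsProper p] [LocallyOfFinitePresentation p] [Surjective p] (D : SchDD p) [QuasiCompact D.obj.hom]
    [IsSeparated D.obj.hom] [Etale D.obj.hom] :
    ∃ U : Over S, QuasiCompact U.hom ∧ IsSeparated U.hom ∧ Etale U.hom ∧
      Nonempty ((toDD p).obj U ≅ D) := by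
  obtain ⟨U, h1, h2, h3, ⟨e⟩⟩ := exists_rep_of_local (secFunctor D)
    (ZarSec.isZarSheaf_secFunctor D)
    (by
      intro T' T g hg1 hg2
      apply isDesc_secFunctor
      intro Z z
      infer_instance)
    (by
      intro s
      obtain ⟨W, hW, hsW⟩ : ∃ W : S.Opens, IsAffineOpen W ∧ s ∈ W := by
        obtain ⟨_, ⟨W₀, hW₀, rfl⟩, hsW, -⟩ := S.isBasis_affineOpens.exists_subset_of_mem_open
          (Set.mem_univ s) isOpen_univ
        exact ⟨W₀, hW₀, hsW⟩
      let q : Spec Γ(S, W) ⟶ S := hW.fromSpec
      let p' := pullback.snd p q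
      let D₁ : SchDD p' := pullDD q D
      have i1 : IsProper p' := inferInstanceAs (IsProper (pullback.snd p q))
      have i1' : LocallyOfFinitePresentation p' :=
        inferInstanceAs (LocallyOfFinitePresentation (pullback.snd p q))
      have i2 : Surjective p' := inferInstanceAs (Surjective (pullback.snd p q))
      have i3 : QuasiCompact D₁.obj.hom :=
        inferInstanceAs (QuasiCompact (pullback.snd D.obj.hom (pullback.fst p q)))
      have i4 : IsSeparated D₁.obj.hom :=
        inferInstanceAs (IsSeparated (pullback.snd D.obj.hom (pullback.fst p q)))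
      have i5 : Etale D₁.obj.hom :=
        inferInstanceAs (Etale (pullback.snd D.obj.hom (pullback.fst p q)))
      have i6 : CompactSpace D₁.obj.left := by
        have : CompactSpace ↥(pullback p q) := QuasiCompact.compactSpace_of_compactSpace p'
        exact QuasiCompact.compactSpace_of_compactSpace D₁.obj.hom
      obtain ⟨n, hn⟩ := exists_bounded p' D₁
      obtain ⟨E, h1, h2, h3, ⟨e⟩⟩ := exists_rep_of_bounded hloc n p' D₁ hn
      obtain ⟨t, ht⟩ : s ∈ Set.range q := by
        have : Set.range q = W := hW.range_fromSpec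
        rw [this]; exact hsW
      exact ⟨Over.mk q, inferInstanceAs (Etale q), t, ht, E, h1, h2, h3,
        ⟨e.ofIso (restrSecIso q D).symm⟩⟩)
  exact ⟨U, h3, h2, h1, effective_of_representableBy e⟩

end K834.PropEff
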