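import Groth.Agent.Desc.SecDescent

/-!
# Values of the sections of a base change of a descent datum
-/

set_option autoImplicit false
set_option backward.isDefEq.respectTransparency false
set_option backward.isDefEq.respectTransparency.types false
open CategoryTheory CategoryTheory.Limits AlgebraicGeometry Opposite
universe u
open _root_.Desc Groth.Agent.Desc.SecFunctor Groth.Agent.Desc.SecPresheaf
open Groth.Agent.Desc.SecDescent

namespace K834.PullVal

variable {X S : Scheme.{u}} {p : X ⟶ S}

theorem secPoint_ptEquiv {S' : Scheme.{u}} (q : S' ⟶ S) (D : SchDD p) {T : Over S'}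
    (x : T.left ⟶ pullback p q) (hx : x ≫ pullback.snd p q = T.hom)
    (v : Lifts ((Over.pullback (pullback.fst p q)).obj D.obj) x)
    (h' : (x ≫ pullback.fst p q) ≫ p = ((Over.map q).obj T).hom) :
    (secPoint D (T := (Over.map q).obj T) (x ≫ pullback.fst p q) h'
      (ptEquiv (pullRepSq (p' := pullback.snd p q) (q := q) (a := pullback.fst p q)
        pullback.condition.symm (restrRep D)) x hx v)).1 =
      v.1 ≫ pullback.fst D.obj.hom (pullback.fst p q) := by
  let Y : Over (pullback p q) := Over.mk x
  let a := pullback.fst p q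
  let f : Y ⟶ (Over.pullback a).obj D.obj := Over.homMk v.1 v.2
  let g : (Over.map a).obj Y ⟶ D.obj := ((Over.mapPullbackAdj a).homEquiv Y D.obj).symm f
  have hg : g.left = v.1 ≫ pullback.fst D.obj.hom a := by
    simp [g, f, a, Over.mapPullbackAdj]
  let T₀ : Over S := (Over.map p).obj ((Over.map a).obj Y)
  let s : (secFunctor D).obj (op T₀) :=
    (secPoint D (T := T₀) ((Over.map a).obj Y).hom rfl).symm ⟨g.left, Over.w g⟩
  have hs : (secPoint D (T := T₀) ((Over.map a).obj Y).hom rfl s).1 =
      v.1 ≫ pullback.fst D.obj.hom a := by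
    simp only [s, Equiv.apply_symm_apply]
    exact hg
  let G : (Over.map q).obj T ⟶ T₀ := Over.homMk (𝟙 T.left) (by
    change 𝟙 _ ≫ (x ≫ a) ≫ p = T.hom ≫ q
    rw [Category.id_comp]
    exact h')
  have key : ptEquiv (pullRepSq (p' := pullback.snd p q) (q := q) (a := pullback.fst p q)
        pullback.condition.symm (restrRep D)) x hx v = (secFunctor D).map G.op s := by
    rw [ptEquiv_apply]
    change (secFunctor D).map _ ((secFunctor D).map _ ((secFunctor D).map _ s)) = _
    rw [← ConcreteCategory.comp_apply, ← ConcreteCategory.comp_apply, ← Functor.map_comp,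
      ← Functor.map_comp]
    congr 3
  rw [key]
  refine (secPoint_map D G ((Over.map a).obj Y).hom rfl s (Category.id_comp _).symm h').trans ?_
  rw [hs]
  exact Category.id_comp _

/-- Values of sections of the base change. -/
theorem ev_restrSecIso {S' : Scheme.{u}} (q : S' ⟶ S) (D : SchDD p) (T : Over S')
    (a : (secFunctor D).obj (op ((Over.map q).obj T))) {Z : Scheme.{u}} (z : Z ⟶ T.left)
    (x : Z ⟶ pullback p q) (h : x ≫ pullback.snd p q = z ≫ T.hom)
    (h' : (x ≫ pullback.fst p q) ≫ p = z ≫ ((Over.map q).obj T).hom) :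
    (ev (D := pullDD q D) ((restrSecIso q D).hom.app (op T) a) z x h).1 ≫
      pullback.fst D.obj.hom (pullback.fst p q) = (ev a z (x ≫ pullback.fst p q) h').1 := by
  have h1 : (restrSecIso q D).hom.app (op T) a = toSec (pullRepSq (p' := pullback.snd p q) (q := q)
    (a := pullback.fst p q) pullback.condition.symm (restrRep D)) T a := rfl
  rw [h1]
  have h2 := ev_toSec (pullRepSq (p' := pullback.snd p q) (q := q)
    (a := pullback.fst p q) pullback.condition.symm (restrRep D)) a z x h
  have h3 := secPoint_ptEquiv q D (T := Over.mk (z ≫ T.hom)) x h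
    (ev (toSec (pullRepSq (p' := pullback.snd p q) (q := q)
    (a := pullback.fst p q) pullback.condition.symm (restrRep D)) T a) z x h) (by
      rw [h']; exact (Category.assoc _ _ _).symm)
  refine h3.symm.trans ?_
  rw [h2, Equiv.apply_symm_apply]
  rw [secPoint_apply]
  have h4 := ev_map ((Over.map q).map (Over.homMk z rfl : Over.mk (z ≫ T.hom) ⟶ T)) a (𝟙 Z)
    (x ≫ pullback.fst p q) (by
      rw [h', Category.id_comp]; exact (Category.assoc _ _ _).symm) (by
      rw [h', Category.id_comp]; rfl)
  refine (congrArg Subtype.val h4).trans ?_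
  exact ev_congr a (Category.id_comp _) rfl _ _

end K834.PullVal
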