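import Groth.Agent.Sga1.HclHensel
import Groth.Agent.Sga1.ProperLift
import Groth.Agent.FlatA.ZMTFactor
import Groth.Agent.Desc.LQF

/-!
# Proper base change for sections of étale separated morphisms (degree zero, sets)

Over a henselian local ring `A`, for `X → Spec A` proper and `E → X` étale, separated and
quasi-compact, sections over the closed fibre lift.
-/

set_option autoImplicit false
set_option backward.isDefEq.respectTransparency false

open CategoryTheory CategoryTheory.Limits AlgebraicGeometry Opposite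
open Groth.Agent.Sga1.RankOne Groth.Agent.Sga1.SectionSpread Groth.Agent.Sga1.ProperLift

namespace K834.SecLift

universe u

section local_base

variable {A : Type u} [CommRing A] [IsLocalRing A]

/-- Sections of an étale separated quasi-compact morphism lift from the closed fibre if clopen
subsets do. -/
theorem exists_section_lift {X E : Scheme.{u}} (f : X ⟶ Spec (CommRingCat.of A))
    [IsProper f] (π : E ⟶ X) [IsSeparated π] [QuasiCompact π] [Etale π]
    (hcl : ∀ {Y : Scheme.{u}} (g : Y ⟶ Spec (CommRingCat.of A)) [IsProper g], ClopenLifts g)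
    (σ₀ : pullback f (cl A) ⟶ E) (hσ₀ : σ₀ ≫ π = pullback.fst f (cl A)) :
    ∃ σ : X ⟶ E, σ ≫ π = 𝟙 X ∧ pullback.fst f (cl A) ≫ σ = σ₀ := by
  have hXc : CompactSpace X := QuasiCompact.compactSpace_of_compactSpace f
  have hXq : QuasiSeparatedSpace X :=
    (quasiSeparated_iff_quasiSeparatedSpace f).mp inferInstance
  have := Groth.Agent.Desc.LQF.of_etale π
  obtain ⟨T, j, ρ, _, _, _, _, hjρ⟩ := Groth.Agent.FlatA.ZMTFactor.exists_factor π
  let r : pullback f (cl A) ⟶ X := pullback.fst f (cl A)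
  let g : T ⟶ Spec (CommRingCat.of A) := ρ ≫ f
  let p : pullback g (cl A) ⟶ T := pullback.fst g (cl A)
  let q₀ : pullback g (cl A) ⟶ pullback f (cl A) :=
    pullback.lift (pullback.fst g (cl A) ≫ ρ) (pullback.snd _ _)
      (by rw [Category.assoc]; exact pullback.condition)
  have hq₁ : q₀ ≫ r = p ≫ ρ := pullback.lift_fst _ _ _
  have hq₂ : q₀ ≫ pullback.snd f (cl A) = pullback.snd g (cl A) := pullback.lift_snd _ _ _
  -- the fibre square
  have sq : IsPullback p q₀ ρ r := by
    refine IsPullback.of_bot (h₃₁ := cl A) (v₂₁ := pullback.snd f (cl A)) (v₂₂ := f) ?_ hq₁.symm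
      (IsPullback.of_hasPullback f (cl A))
    rw [hq₂]
    exact IsPullback.of_hasPullback g (cl A)
  have hq₀' : IsFinite q₀ := MorphismProperty.of_isPullback sq inferInstance
  let s₀ : pullback f (cl A) ⟶ pullback g (cl A) :=
    pullback.lift (σ₀ ≫ j) (pullback.snd f (cl A)) (by
      change (σ₀ ≫ j) ≫ ρ ≫ f = _
      rw [Category.assoc, ← Category.assoc j, hjρ, ← Category.assoc, hσ₀]
      exact pullback.condition)
  have hs₁ : s₀ ≫ p = σ₀ ≫ j := pullback.lift_fst _ _ _
  have hs₂ : s₀ ≫ q₀ = 𝟙 _ := by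
    apply pullback.hom_ext
    · have : (s₀ ≫ q₀) ≫ r = 𝟙 _ ≫ r := by
        rw [Category.assoc, hq₁, ← Category.assoc, hs₁, Category.assoc, hjρ, hσ₀, Category.id_comp]
      exact this
    · rw [Category.assoc, hq₂, Category.id_comp]
      exact pullback.lift_snd _ _ _
  have hs_mono : Mono s₀ := by
    have : Mono (s₀ ≫ q₀) := by rw [hs₂]; infer_instance
    exact mono_of_mono s₀ q₀
  have hs_closed : IsClosedImmersion s₀ := by
    have : IsClosedImmersion (s₀ ≫ q₀) := by rw [hs₂]; infer_instance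
    exact IsClosedImmersion.of_comp s₀ q₀
  -- `s₀` factors through the étale part
  let O : (pullback g (cl A)).Opens := p ⁻¹ᵁ j.opensRange
  have hO : Set.range s₀ ⊆ Set.range O.ι := by
    rw [Scheme.Opens.range_ι]
    rintro _ ⟨x, rfl⟩
    change p (s₀ x) ∈ Set.range j
    rw [← Scheme.Hom.comp_apply, hs₁, Scheme.Hom.comp_apply]
    exact ⟨_, rfl⟩
  let s₁ : pullback f (cl A) ⟶ O := IsOpenImmersion.lift O.ι s₀ hO
  have hs₁₀ : s₁ ≫ O.ι = s₀ := IsOpenImmersion.lift_fac _ _ _
  have hOe : Etale (O.ι ≫ q₀) := by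
    -- `O` is the base change of `E`
    let e : O.toScheme ⟶ E := IsOpenImmersion.lift j (O.ι ≫ p) (by
      rintro _ ⟨x, rfl⟩
      exact x.2)
    have he : e ≫ j = O.ι ≫ p := IsOpenImmersion.lift_fac _ _ _
    have sqO : IsPullback e O.ι j p := IsOpenImmersion.isPullback e O.ι j p he.symm (by
      rw [Scheme.Opens.opensRange_ι])
    have sq2 : IsPullback e (O.ι ≫ q₀) π r := by
      rw [← hjρ]
      exact sqO.paste_vert sq
    exact MorphismProperty.of_isPullback sq2 ‹Etale π›
  have hs_et1 : Etale s₁ := by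
    have : Etale (s₁ ≫ O.ι ≫ q₀) := by rw [← Category.assoc, hs₁₀, hs₂]; infer_instance
    exact Etale.of_comp s₁ (O.ι ≫ q₀)
  have hs_et : Etale s₀ := by rw [← hs₁₀]; infer_instance
  have hs_open : IsOpenImmersion s₀ := IsOpenImmersion.of_flat_of_mono s₀
  obtain ⟨W, hW, hWY⟩ := hcl g s₀.opensRange s₀.isClosedEmbedding.isClosed_range
  -- `W` lies in `E`
  have hWj : (W : Set T) ⊆ Set.range j := by
    intro w hw
    by_contra hwj
    have hC : IsClosed ((W : Set T) ∩ (Set.range j)ᶜ) :=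
      hW.inter j.isOpenEmbedding.isOpen_range.isClosed_compl
    have hgC : IsClosed (g '' ((W : Set T) ∩ (Set.range j)ᶜ)) := g.isClosedMap _ hC
    have hmem : (IsLocalRing.closedPoint A : PrimeSpectrum A) ∈
        g '' ((W : Set T) ∩ (Set.range j)ᶜ) :=
      (IsLocalRing.specializes_closedPoint (R := A) (g w)).mem_closed hgC ⟨w, ⟨hw, hwj⟩, rfl⟩
    obtain ⟨c, ⟨hcW, hcj⟩, hc⟩ := hmem
    obtain ⟨c₀, hc₀⟩ := exists_closedFibre_point g c hc
    have h1 : c₀ ∈ s₀.opensRange := by
      rw [← hWY]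
      change p c₀ ∈ W
      have : p c₀ = c := hc₀
      rw [this]
      exact hcW
    obtain ⟨x, hx⟩ := h1
    apply hcj
    have h2 : c = p (s₀ x) := by
      rw [← hc₀]
      exact congrArg p hx.symm
    rw [h2, ← Scheme.Hom.comp_apply, hs₁, Scheme.Hom.comp_apply]
    exact ⟨_, rfl⟩
  have hσW : Set.range (σ₀ ≫ j) ⊆ Set.range W.ι := by
    rw [Scheme.Opens.range_ι]
    rintro _ ⟨x, rfl⟩
    have h1 : s₀ x ∈ s₀.opensRange := ⟨x, rfl⟩
    rw [← hWY] at h1
    rw [← hs₁, Scheme.Hom.comp_apply]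
    exact h1
  let l := IsOpenImmersion.lift W.ι (σ₀ ≫ j) hσW
  have hl : l ≫ W.ι = σ₀ ≫ j := IsOpenImmersion.lift_fac _ _ _
  have sq' : IsPullback l s₀ W.ι p := by
    refine IsOpenImmersion.isPullback l s₀ W.ι p (by rw [hs₁, hl]) ?_
    rw [Scheme.Opens.opensRange_ι]
    exact hWY
  have sq'' : IsPullback l (𝟙 _) (W.ι ≫ ρ) r := by
    rw [← hs₂]
    exact sq'.paste_vert sq
  have hWc : IsClosedImmersion W.ι := by
    refine IsClosedImmersion.of_isPreimmersion _ ?_
    rw [Scheme.Opens.range_ι]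
    exact hW
  let m : W.toScheme ⟶ E := IsOpenImmersion.lift j W.ι (by rw [Scheme.Opens.range_ι]; exact hWj)
  have hm : m ≫ j = W.ι := IsOpenImmersion.lift_fac _ _ _
  have hmo : IsOpenImmersion m := by
    have : IsOpenImmersion (m ≫ j) := by rw [hm]; infer_instance
    exact IsOpenImmersion.of_comp m j
  have hmπ : m ≫ π = W.ι ≫ ρ := by rw [← hjρ, ← Category.assoc, hm]
  have hWe : Etale (W.ι ≫ ρ) := by rw [← hmπ]; infer_instance
  have hα : IsIso (W.ι ≫ ρ) := by
    refine isIso_of_finrank_closedFibre (W.ι ≫ ρ) f f.isClosedMap ?_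
    intro x hx
    obtain ⟨x₀, hx₀⟩ := exists_closedFibre_point f x hx
    rw [← hx₀]
    have := Scheme.Hom.finrank_of_isPullback _ _ _ _ sq'' x₀
    rw [← this, Scheme.Hom.finrank_eq_one_of_isIso]
    rfl
  refine ⟨inv (W.ι ≫ ρ) ≫ m, ?_, ?_⟩
  · rw [Category.assoc, hmπ, IsIso.inv_hom_id]
  · have h1 : l = r ≫ inv (W.ι ≫ ρ) := by
      rw [IsIso.eq_comp_inv, sq''.w, Category.id_comp]
    rw [← Category.assoc]
    change (r ≫ inv (W.ι ≫ ρ)) ≫ m = σ₀
    rw [← h1, ← cancel_mono j, Category.assoc, hm, hl]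

end local_base

section lift

variable {A : Type u} [CommRing A] (C : Type u) [CommRing C] [HenselianLocalRing C] [Algebra A C]
variable {Z W E : Scheme.{u}} (f : Z ⟶ Spec (CommRingCat.of A)) (p : Z ⟶ W) (π : E ⟶ W)

/-- Lifting of `W`-morphisms `Z_k → E` to `Z_C`, for `E → W` étale and separated. -/
theorem exists_lift_local [IsProper f] [Etale π] [IsSeparated π] [QuasiCompact π]
    (σ₀ : bc f (IsLocalRing.ResidueField C) ⟶ E) (hσ₀ : σ₀ ≫ π = pullback.fst f _ ≫ p) :
    ∃ σ : bc f C ⟶ E, σ ≫ π = pullback.fst f (str A C) ≫ p ∧ bcMap f (res A C) ≫ σ = σ₀ := by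
  let b : bc f C ⟶ W := pullback.fst f (str A C) ≫ p
  let g : bc f C ⟶ Spec (CommRingCat.of C) := pullback.snd f (str A C)
  let π' : pullback π b ⟶ bc f C := pullback.snd π b
  let s : pullback g (cl C) ⟶ pullback π b :=
    pullback.lift ((closedFibreIso C f).inv ≫ σ₀) (pullback.fst g (cl C)) (by
      rw [Category.assoc, hσ₀, ← closedFibreIso_inv_bcMap C f, Category.assoc]
      simp [b])
  have hs₁ : s ≫ pullback.fst π b = (closedFibreIso C f).inv ≫ σ₀ := pullback.lift_fst _ _ _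
  have hs₂ : s ≫ π' = pullback.fst g (cl C) := pullback.lift_snd _ _ _
  obtain ⟨σ, h1, h2⟩ := exists_section_lift g π'
    (fun g _ => Groth.Agent.Sga1.HclHensel.clopenLifts g) s hs₂
  refine ⟨σ ≫ pullback.fst π b, ?_, ?_⟩
  · rw [Category.assoc, pullback.condition, ← Category.assoc, h1, Category.id_comp]
  · rw [← closedFibreIso_hom_fst C f, Category.assoc, ← Category.assoc (pullback.fst g (cl C)), h2,
      hs₁, Iso.hom_inv_id_assoc]

/-- Proper base change for sections: existence, over an étale neighbourhood. -/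
theorem exists_etale_lift [IsProper f] [LocallyOfFinitePresentation f]
    [Etale π] [IsSeparated π] [QuasiCompact π]
    (hC : ∀ (P : Type u) [CommRing P] [Algebra A P] [Algebra.FinitePresentation A P]
      (φ : P →ₐ[A] C), ∃ (E : Type u) (_ : CommRing E) (_ : Algebra A E) (_ : Algebra.Etale A E)
      (ψ : P →ₐ[A] E) (χ : E →ₐ[A] C), χ.comp ψ = φ)
    (σ₀ : bc f (IsLocalRing.ResidueField C) ⟶ E) (hσ₀ : σ₀ ≫ π = pullback.fst f _ ≫ p) :
    ∃ (B : Type u) (_ : CommRing B) (_ : Algebra A B) (_ : Algebra.Etale A B)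
      (χ : B →ₐ[A] C) (σ : bc f B ⟶ E), σ ≫ π = pullback.fst f (str A B) ≫ p ∧
      bcMap f ((res A C).comp χ) ≫ σ = σ₀ := by
  obtain ⟨σC, h1, h2⟩ := exists_lift_local C f p π σ₀ hσ₀
  obtain ⟨B, _, _, _, χ, σ, h3, h4⟩ := exists_etale f p C hC π σC h1
  refine ⟨B, inferInstance, inferInstance, inferInstance, χ, σ, h3, ?_⟩
  rw [← bcMap_comp_assoc, h4, h2]

end lift

end K834.SecLift
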