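import Groth.Agent.Desc.EtSection

/-!
# Shrinking étale-local sections of descent data along universally closed morphisms

`exists_shrink_section`: a lift over `U ×_S X` extending a section `a` over `T₀` of the descent datum
gives a section over a neighbourhood `W` of `T₀ ⟶ U`. The proof is the one of
`Groth.Agent.Desc.EtSection.exists_shrink_section` (which is for integral morphisms).
-/

set_option autoImplicit false
set_option backward.isDefEq.respectTransparency false
set_option backward.isDefEq.respectTransparency.types false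
open CategoryTheory CategoryTheory.Limits AlgebraicGeometry Opposite
universe u
open _root_.Desc Groth.Agent.Desc.SecFunctor Groth.Agent.Desc.SecPresheaf Groth.Agent.Sga4A.IntLift
open Groth.Agent.Desc.EtSection (eq_of_secPoint map_map exists_open_eq)

namespace K834.Shrink

theorem exists_shrink_section {X S U T₀ : Scheme.{u}} (p : X ⟶ S) [UniversallyClosed p] (D : SchDD p)
    [Etale D.obj.hom] (g : U ⟶ S) (s : T₀ ⟶ S) (x' : T₀ ⟶ U) (hx' : x' ≫ g = s)
    (a : (secFunctor D).obj (op (Over.mk s))) (τ : pullback g p ⟶ D.obj.left)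
    (hτ : τ ≫ D.obj.hom = pullback.snd g p)
    (hτa : fibMap p hx' ≫ τ =
      (ev a (T := Over.mk s) (pullback.fst s p) (pullback.snd s p) pullback.condition.symm).1) :
    ∃ (W : U.Opens) (tW : T₀ ⟶ W) (htW : tW ≫ W.ι = x')
      (σ : (secFunctor D).obj (op (Over.mk (W.ι ≫ g)))),
      (secFunctor D).map (Over.homMk tW (by
        change tW ≫ W.ι ≫ g = s
        rw [reassoc_of% htW, hx']) : Over.mk s ⟶ Over.mk (W.ι ≫ g)).op σ = a := by
  let PS : Over S := Over.mk (pullback.fst g p ≫ g)
  have hPS : pullback.snd g p ≫ p = PS.hom := pullback.condition.symm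
  let aP : (secFunctor D).obj (op PS) := (secPoint D (T := PS) (pullback.snd g p) hPS).symm ⟨τ, hτ⟩
  have haP : (secPoint D (T := PS) (pullback.snd g p) hPS aP).1 = τ := by
    simp [aP]
  let PT : Over S := Over.mk (pullback.fst s p ≫ s)
  have hPT : pullback.snd s p ≫ p = PT.hom := pullback.condition.symm
  let k : PT ⟶ PS := Over.homMk (fibMap p hx') (by
    change fibMap p hx' ≫ pullback.fst g p ≫ g = pullback.fst s p ≫ s
    rw [← Category.assoc, fibMap_fst, Category.assoc, hx'])
  let π : PT ⟶ Over.mk s := Over.homMk (pullback.fst s p) rfl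
  have hk : (secFunctor D).map k.op aP = (secFunctor D).map π.op a := by
    apply eq_of_secPoint (T := PT) (pullback.snd s p) hPT
    rw [secPoint_map D k (pullback.snd g p) hPS aP (x' := pullback.snd s p) (fibMap_snd p hx').symm hPT,
      haP]
    refine hτa.trans ?_
    rw [secPoint_apply, ev_map π a (𝟙 _) (pullback.snd s p) _ (by
      change _ = (𝟙 _ ≫ pullback.fst s p) ≫ s
      rw [Category.id_comp]; exact pullback.condition.symm)]
    exact ev_congr a (Category.id_comp _).symm rfl _ _
  -- the compatibility locus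
  let Y : Scheme.{u} := pullback (pullback.fst g p) (pullback.fst g p)
  let gY : Y ⟶ U := pullback.fst (pullback.fst g p) (pullback.fst g p) ≫ pullback.fst g p
  have hgY : gY = pullback.snd (pullback.fst g p) (pullback.fst g p) ≫ pullback.fst g p :=
    pullback.condition
  have hgYc : IsClosedMap gY := gY.isClosedMap
  let YS : Over S := Over.mk (gY ≫ g)
  let y₀ : YS ⟶ PS := Over.homMk (pullback.fst (pullback.fst g p) (pullback.fst g p)) (by
    simp [YS, PS, gY])
  let y₁ : YS ⟶ PS := Over.homMk (pullback.snd (pullback.fst g p) (pullback.fst g p)) (by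
    simp [YS, PS, hgY])
  let xY : YS.left ⟶ X := pullback.fst (pullback.fst g p) (pullback.fst g p) ≫ pullback.snd g p
  have hxY : xY ≫ p = YS.hom := by
    change (pullback.fst (pullback.fst g p) (pullback.fst g p) ≫ pullback.snd g p) ≫ p =
      (pullback.fst (pullback.fst g p) (pullback.fst g p) ≫ pullback.fst g p) ≫ g
    rw [Category.assoc, Category.assoc]
    exact congrArg (_ ≫ ·) pullback.condition.symm
  let v₀ := secPoint D xY hxY ((secFunctor D).map y₀.op aP)
  let v₁ := secPoint D xY hxY ((secFunctor D).map y₁.op aP)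
  let Yt : Scheme.{u} := pullback gY x'
  let YtS : Over S := Over.mk (pullback.fst gY x' ≫ gY ≫ g)
  let iY : YtS ⟶ YS := Over.homMk (pullback.fst gY x') rfl
  have hYt : (pullback.snd gY x') ≫ s = pullback.fst gY x' ≫ gY ≫ g := by
    rw [← hx', ← Category.assoc, ← pullback.condition, Category.assoc]
  have hcompat : ∀ (y : YS ⟶ PS) (hy : y.left ≫ pullback.fst g p = gY),
      (secFunctor D).map iY.op ((secFunctor D).map y.op aP) =
        (secFunctor D).map (Over.homMk (pullback.snd gY x') hYt : YtS ⟶ Over.mk s).op a := by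
    intro y hy
    let w : YtS ⟶ PT := Over.homMk (pullback.lift (pullback.snd gY x')
      (pullback.fst gY x' ≫ y.left ≫ pullback.snd g p) (by
        refine hYt.trans ?_
        have h3 : (y.left ≫ pullback.snd g p) ≫ p = gY ≫ g := by
          rw [← hy, Category.assoc, Category.assoc]
          exact congrArg (_ ≫ ·) pullback.condition.symm
        rw [← h3, Category.assoc, Category.assoc, Category.assoc])) (by
        change pullback.lift _ _ _ ≫ pullback.fst s p ≫ s = _
        rw [pullback.lift_fst_assoc]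
        exact hYt)
    have hw : w ≫ k = iY ≫ y := by
      apply Over.OverMorphism.ext
      change pullback.lift _ _ _ ≫ fibMap p hx' = pullback.fst gY x' ≫ y.left
      apply pullback.hom_ext
      · rw [Category.assoc, fibMap_fst, pullback.lift_fst_assoc, Category.assoc]
        rw [hy, pullback.condition]
      · rw [Category.assoc, fibMap_snd, pullback.lift_snd, Category.assoc]
    have hwπ : w ≫ π = (Over.homMk (pullback.snd gY x') hYt : YtS ⟶ Over.mk s) := by
      apply Over.OverMorphism.ext
      exact pullback.lift_fst _ _ _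
    rw [map_map, ← hw, ← map_map, hk, map_map, hwπ]
  have hvt : pullback.fst gY x' ≫ v₀.1 = pullback.fst gY x' ≫ v₁.1 := by
    have h0 := secPoint_map D iY xY hxY ((secFunctor D).map y₀.op aP)
      (x' := pullback.fst gY x' ≫ xY) rfl (by rw [Category.assoc, hxY]; rfl)
    have h1 := secPoint_map D iY xY hxY ((secFunctor D).map y₁.op aP)
      (x' := pullback.fst gY x' ≫ xY) rfl (by rw [Category.assoc, hxY]; rfl)
    rw [hcompat y₀ rfl] at h0
    rw [hcompat y₁ hgY.symm] at h1
    exact h0.symm.trans h1
  obtain ⟨W, hW, hWv⟩ := exists_open_eq D.obj.hom v₀.1 v₁.1 (v₀.2.trans v₁.2.symm) gY hgYc x'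
    (IsPullback.of_hasPullback gY x') hvt
  let tW : T₀ ⟶ W := IsOpenImmersion.lift W.ι x' (by rw [Scheme.Opens.range_ι]; exact hW)
  have htW : tW ≫ W.ι = x' := IsOpenImmersion.lift_fac _ _ _
  let WS : Over S := Over.mk (W.ι ≫ g)
  let XW : Over S := Over.mk (pullback.snd p WS.hom ≫ WS.hom)
  let r : XW ⟶ PS := Over.homMk (pullback.lift (pullback.snd p WS.hom ≫ W.ι) (pullback.fst p WS.hom) (by
    rw [pullback.condition, Category.assoc]; rfl)) (by
    change pullback.lift _ _ _ ≫ pullback.fst g p ≫ g = _
    rw [pullback.lift_fst_assoc, Category.assoc]; rfl)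
  have hr : r.left ≫ pullback.fst g p = pullback.snd p WS.hom ≫ W.ι := pullback.lift_fst _ _ _
  obtain ⟨σ, hσ⟩ := (isPSheaf_secFunctor D WS).glue ((secFunctor D).map r.op aP) (by
    intro Z z₀ z₁ hz
    rw [map_map, map_map]
    have hz' : z₀.left ≫ pullback.snd p WS.hom = z₁.left ≫ pullback.snd p WS.hom :=
      congrArg (fun f => f.left) hz
    let zy : Z.left ⟶ Y := pullback.lift (z₀ ≫ r).left (z₁ ≫ r).left (by
      rw [Over.comp_left, Over.comp_left, Category.assoc, Category.assoc, hr, reassoc_of% hz'])
    have hzy : zy ≫ gY = (z₀.left ≫ pullback.snd p WS.hom) ≫ W.ι := by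
      change pullback.lift _ _ _ ≫ pullback.fst _ _ ≫ _ = _
      rw [pullback.lift_fst_assoc, Over.comp_left, Category.assoc, hr, Category.assoc]
    have hzyr : Set.range zy ⊆ Set.range (gY ⁻¹ᵁ W).ι := by
      rw [Scheme.Opens.range_ι]
      rintro _ ⟨y, rfl⟩
      change gY (zy y) ∈ W
      rw [← Scheme.Hom.comp_apply, hzy, Scheme.Hom.comp_apply]
      exact Subtype.property _
    let zy' := IsOpenImmersion.lift (gY ⁻¹ᵁ W).ι zy hzyr
    have hzy' : zy' ≫ (gY ⁻¹ᵁ W).ι = zy := IsOpenImmersion.lift_fac _ _ _
    have hZ : zy ≫ YS.hom = Z.hom := by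
      change zy ≫ gY ≫ g = Z.hom
      rw [← Category.assoc, hzy, Category.assoc, Category.assoc]
      exact Over.w z₀
    let zS : Z ⟶ YS := Over.homMk zy hZ
    have e0 : z₀ ≫ r = zS ≫ y₀ := by
      apply Over.OverMorphism.ext
      exact (pullback.lift_fst _ _ _).symm
    have e1 : z₁ ≫ r = zS ≫ y₁ := by
      apply Over.OverMorphism.ext
      exact (pullback.lift_snd _ _ _).symm
    rw [e0, e1, ← map_map, ← map_map]
    have hxZ : (zy ≫ xY) ≫ p = Z.hom := by rw [Category.assoc, hxY]; exact hZ
    apply eq_of_secPoint (T := Z) (zy ≫ xY) hxZ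
    rw [secPoint_map D zS xY hxY _ (x' := zy ≫ xY) rfl hxZ,
      secPoint_map D zS xY hxY _ (x' := zy ≫ xY) rfl hxZ]
    change zy ≫ v₀.1 = zy ≫ v₁.1
    rw [← hzy', Category.assoc, Category.assoc, hWv])
  refine ⟨W, tW, htW, σ, ?_⟩
  -- compare on `X ×_S T₀`
  apply (isPSheaf_secFunctor D (Over.mk s)).inj
  rw [map_map]
  let c : Over.mk (pullback.snd p (Over.mk s).hom ≫ (Over.mk s).hom) ⟶ XW :=
    Over.homMk (pullback.lift (pullback.fst p s) (pullback.snd p s ≫ tW) (by
      change pullback.fst p s ≫ p = (pullback.snd p s ≫ tW) ≫ W.ι ≫ g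
      rw [Category.assoc, reassoc_of% htW, hx', pullback.condition])) (by
      change pullback.lift _ _ _ ≫ pullback.snd p WS.hom ≫ WS.hom = pullback.snd p s ≫ s
      rw [pullback.lift_snd_assoc]
      change (pullback.snd p s ≫ tW) ≫ W.ι ≫ g = _
      rw [Category.assoc, reassoc_of% htW, hx'])
  have h1 : projT p (Over.mk s) ≫ (Over.homMk tW (by
        change tW ≫ W.ι ≫ g = s
        rw [reassoc_of% htW, hx']) : Over.mk s ⟶ Over.mk (W.ι ≫ g)) = c ≫ projT p WS := by
    apply Over.OverMorphism.ext
    exact (pullback.lift_snd _ _ _).symm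
  rw [h1, ← map_map, hσ, map_map]
  let w : Over.mk (pullback.snd p (Over.mk s).hom ≫ (Over.mk s).hom) ⟶ PT :=
    Over.homMk (pullback.lift (pullback.snd p s) (pullback.fst p s) pullback.condition.symm) (by
      change pullback.lift _ _ _ ≫ pullback.fst s p ≫ s = pullback.snd p s ≫ s
      rw [pullback.lift_fst_assoc])
  have h2 : c ≫ r = w ≫ k := by
    apply Over.OverMorphism.ext
    change pullback.lift _ _ _ ≫ pullback.lift _ _ _ = pullback.lift _ _ _ ≫ fibMap p hx'
    apply pullback.hom_ext
    · rw [Category.assoc, pullback.lift_fst, pullback.lift_snd_assoc, Category.assoc, htW,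
        Category.assoc, fibMap_fst, pullback.lift_fst_assoc]
    · rw [Category.assoc, pullback.lift_snd, pullback.lift_fst,
        Category.assoc, fibMap_snd, pullback.lift_snd]
  have hwπ : w ≫ π = projT p (Over.mk s) := by
    apply Over.OverMorphism.ext
    exact pullback.lift_fst _ _ _
  rw [h2, ← map_map, hk, map_map, hwπ]

end K834.Shrink
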