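import Groth.Agent.Subtr.K834.FieldSec
import Groth.Agent.Subtr.K834.PullVal
import Groth.Agent.Subtr.K834.Shrink
import Groth.Agent.Subtr.K834.SecLift
import Groth.Agent.Subtr.K834.PropEff
import Groth.Agent.Sga1.StrictHens

/-!
# Étale-local sections of étale separated descent data along proper morphisms of finite presentation
-/

set_option autoImplicit false
set_option backward.isDefEq.respectTransparency false
set_option backward.isDefEq.respectTransparency.types false
open CategoryTheory CategoryTheory.Limits AlgebraicGeometry Opposite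
universe u
open _root_.Desc Groth.Agent.Desc.SecFunctor Groth.Agent.Desc.SecPresheaf
open Groth.Agent.Desc.SecDescent Groth.Agent.Desc.Complement Groth.Agent.Desc.IntEff
open Groth.Agent.Sga4A.IntLift (fibMap fibMap_fst fibMap_snd)
open Groth.Agent.Sga1.SectionSpread Groth.Agent.Sga1.ProperLift

namespace K834.LocSec

section

variable {X S : Scheme.{u}} {p : X ⟶ S} (D : SchDD p)

/-- Restricting a section makes the range of its universal value smaller. -/
theorem range_uval_map {T T' : Over S} (f : T' ⟶ T) (a : (secFunctor D).obj (op T)) :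
    Set.range (uval D ((secFunctor D).map f.op a)).1 ⊆ Set.range (uval D a).1 := by
  have h' : pullback.fst p T'.hom ≫ p = (pullback.snd p T'.hom ≫ f.left) ≫ T.hom := by
    rw [pullback.condition, Category.assoc, Over.w f]
  have e : (uval D ((secFunctor D).map f.op a)).1 =
      pullback.lift (pullback.fst p T'.hom) (pullback.snd p T'.hom ≫ f.left) h' ≫ (uval D a).1 :=
    (congrArg Subtype.val (ev_map f a (pullback.snd p T'.hom) (pullback.fst p T'.hom)
      pullback.condition h')).trans (ev_eq_uval D a _ _ h')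
  rw [e]
  rintro _ ⟨y, rfl⟩
  exact ⟨_, (Scheme.Hom.comp_apply _ _ _).symm⟩

end

section

variable {A : Type u} [CommRing A] {X : Scheme.{u}} (p : X ⟶ Spec (CommRingCat.of A))
  [IsProper p] [LocallyOfFinitePresentation p] (D : SchDD p)
  [IsSeparated D.obj.hom] [Etale D.obj.hom]

/-- Sections over a separably closed field. -/
theorem exists_field_section (k : Type u) [Field k] [IsSepClosed k] [Algebra A k]
    (v : D.obj.left)
    (hv : p (D.obj.hom v) = str A k (IsLocalRing.closedPoint k)) :
    ∃ a : (secFunctor D).obj (op (Over.mk (str A k))), v ∈ Set.range (uval D a).1 := by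
  let q := str A k
  let D' := pullDD q D
  let p' := pullback.snd p q
  have i3 : IsSeparated D'.obj.hom :=
    inferInstanceAs (IsSeparated (pullback.snd D.obj.hom (pullback.fst p q)))
  have i4 : Etale D'.obj.hom :=
    inferInstanceAs (Etale (pullback.snd D.obj.hom (pullback.fst p q)))
  obtain ⟨y, hy, -⟩ := Scheme.Pullback.exists_preimage_pullback (f := p) (g := q) (D.obj.hom v)
    (IsLocalRing.closedPoint k) hv
  obtain ⟨w, hw, -⟩ := Scheme.Pullback.exists_preimage_pullback (f := D.obj.hom)
    (g := pullback.fst p q) v y hy.symm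
  obtain ⟨σ, x, hx⟩ := FieldSec.exists_section p' D' w
  let i := (restrSecIso q D).app (op (Over.mk (𝟙 (Spec (CommRingCat.of k)))))
  let a' := i.inv σ
  have ha' : i.hom a' = σ := by
    change i.hom (i.inv σ) = σ
    rw [← ConcreteCategory.comp_apply, i.inv_hom_id]
    rfl
  let e : Over.mk q ⟶ (Over.map q).obj (Over.mk (𝟙 (Spec (CommRingCat.of k)))) :=
    Over.homMk (𝟙 _) (by simp)
  refine ⟨(secFunctor D).map e.op a', x, ?_⟩
  have h1 := PullVal.ev_restrSecIso q D (Over.mk (𝟙 (Spec (CommRingCat.of k)))) a' p'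
    (𝟙 (pullback p q)) (by simp [p']) (by simp [p', pullback.condition])
  have h2 : (ev (D := D') (i.hom a') p' (𝟙 (pullback p q)) (by simp [p'])).1 = val D' σ := by
    rw [ha']
    rfl
  have h3 : (uval D ((secFunctor D).map e.op a')).1 = val D' σ ≫
      pullback.fst D.obj.hom (pullback.fst p q) := by
    rw [← h2]
    refine Eq.trans ?_ h1.symm
    have h4 := ev_map e a' (pullback.snd p q) (pullback.fst p q) pullback.condition (by
      change _ = (pullback.snd p q ≫ 𝟙 _) ≫ 𝟙 _ ≫ q
      simp [pullback.condition])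
    refine (congrArg Subtype.val h4).trans ?_
    exact ev_congr a' (Category.comp_id _) (Category.id_comp _).symm _ _
  rw [h3, Scheme.Hom.comp_apply]
  exact (congrArg _ hx).trans hw

/-- Étale local sections through points. -/
theorem exists_etale_section (v : D.obj.left) :
    ∃ (A' : CommRingCat.{u}) (q : Spec A' ⟶ Spec (CommRingCat.of A)) (_ : Etale q)
      (σ : (secFunctor D).obj (op (Over.mk q))), v ∈ Set.range (uval D σ).1 := by
  have hXq : QuasiSeparatedSpace X :=
    (quasiSeparated_iff_quasiSeparatedSpace p).mp inferInstance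
  obtain ⟨C, _, _, _, hsep, hCa, hC⟩ := Groth.Agent.Sga1.StrictHens.exists_strictHens A
    (p (D.obj.hom v))
  let k := IsLocalRing.ResidueField C
  have hk : p (D.obj.hom v) = str A k (IsLocalRing.closedPoint k) := by
    rw [← hCa]
    have h1 : str A k = sp (res A C) ≫ str A C := (sp_str (res A C)).symm
    have h2 : sp (res A C) (IsLocalRing.closedPoint k) = IsLocalRing.closedPoint C :=
      IsLocalRing.comap_closedPoint (IsLocalRing.residue C)
    rw [h1, Scheme.Hom.comp_apply, h2]
    rfl
  obtain ⟨a, ha⟩ := exists_field_section p D k v hk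
  -- a quasi-compact open of `D`
  have hc : CompactSpace ↥(pullback p (Over.mk (str A k)).hom) :=
    inferInstanceAs (CompactSpace (bc p k))
  obtain ⟨V₀, hV₀, hV₀o, hV₀a, -⟩ := PrespectralSpace.exists_isCompact_and_isOpen_between
    (isCompact_range (uval D a).1.continuous) isOpen_univ (Set.subset_univ _)
  let V : D.obj.left.Opens := ⟨V₀, hV₀o⟩
  have hVc : CompactSpace V.toScheme := isCompact_iff_compactSpace.mp hV₀
  let π : V.toScheme ⟶ X := V.ι ≫ D.obj.hom
  let σ₀ : bc p k ⟶ V.toScheme := IsOpenImmersion.lift V.ι (uval D a).1 (by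
    rw [Scheme.Opens.range_ι]; exact hV₀a)
  have hσ₀ : σ₀ ≫ V.ι = (uval D a).1 := IsOpenImmersion.lift_fac _ _ _
  obtain ⟨B, _, _, _, χ, σ, h1, h2⟩ := SecLift.exists_etale_lift C p (𝟙 X) π hC σ₀ (by
    rw [← Category.assoc, hσ₀, Category.comp_id]
    exact (uval D a).2)
  let g : Spec (CommRingCat.of B) ⟶ Spec (CommRingCat.of A) := str A B
  have hg : Etale g := (HasRingHomProperty.Spec_iff (P := @Etale)).mpr
      (RingHom.etale_algebraMap.mpr inferInstance)
  let x' : Spec (CommRingCat.of k) ⟶ Spec (CommRingCat.of B) := sp ((res A C).comp χ)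
  have hx' : x' ≫ g = str A k := sp_str _
  let τ : pullback g p ⟶ D.obj.left := (pullbackSymmetry g p).hom ≫ σ ≫ V.ι
  have hτ : τ ≫ D.obj.hom = pullback.snd g p := by
    have h3 : (σ ≫ V.ι) ≫ D.obj.hom = pullback.fst p g := by
      have := h1
      rw [Category.comp_id] at this
      rw [Category.assoc]
      exact this
    rw [Category.assoc, h3, pullbackSymmetry_hom_comp_fst]
  obtain ⟨W, tW, htW, σW, hσW⟩ := Shrink.exists_shrink_section p D g (str A k) x' hx' a τ hτ (by
    have h3 : fibMap p hx' ≫ (pullbackSymmetry g p).hom = (pullbackSymmetry (str A k) p).hom ≫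
        bcMap p ((res A C).comp χ) := by
      apply pullback.hom_ext
      · rw [Category.assoc, pullbackSymmetry_hom_comp_fst, fibMap_snd, Category.assoc, bcMap_fst,
          pullbackSymmetry_hom_comp_fst]
      · rw [Category.assoc, pullbackSymmetry_hom_comp_snd, fibMap_fst, Category.assoc, bcMap_snd,
          pullbackSymmetry_hom_comp_snd_assoc]
    rw [reassoc_of% h3, reassoc_of% h2, hσ₀]
    refine (ev_comp a (pullbackSymmetry (str A k) p).hom _ _ _ ?_ ?_ _).symm
    · exact (pullbackSymmetry_hom_comp_snd _ _).symm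
    · exact (pullbackSymmetry_hom_comp_fst _ _).symm)
  -- an affine neighbourhood
  let y : W := tW (IsLocalRing.closedPoint k)
  obtain ⟨V', hV', hyV', -⟩ := exists_isAffineOpen_mem_and_subset (X := W) (x := y) (U := ⊤) trivial
  let i : Spec Γ(W, V') ⟶ W := hV'.fromSpec
  have hi : Set.range i = V' := hV'.range_fromSpec
  let t : Spec (.of k) ⟶ Spec Γ(W, V') := IsOpenImmersion.lift i tW (by
    rw [hi]
    rintro _ ⟨z, rfl⟩
    rw [Subsingleton.elim z (IsLocalRing.closedPoint k)]
    exact hyV')
  have ht : t ≫ i = tW := IsOpenImmersion.lift_fac _ _ _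
  have htS : t ≫ i ≫ W.ι ≫ g = str A k := by
    rw [reassoc_of% ht, reassoc_of% htW, hx']
  refine ⟨Γ(W, V'), i ≫ W.ι ≫ g, inferInstance,
    (secFunctor D).map (Over.homMk i rfl : Over.mk (i ≫ W.ι ≫ g) ⟶ Over.mk (W.ι ≫ g)).op σW, ?_⟩
  apply range_uval_map D (Over.homMk t htS : Over.mk (str A k) ⟶ Over.mk (i ≫ W.ι ≫ g))
  have h5 : (secFunctor D).map (Over.homMk t htS : Over.mk (str A k) ⟶
      Over.mk (i ≫ W.ι ≫ g)).op ((secFunctor D).map
        (Over.homMk i rfl : Over.mk (i ≫ W.ι ≫ g) ⟶ Over.mk (W.ι ≫ g)).op σW) = a := by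
    rw [Groth.Agent.Desc.EtSection.map_map]
    refine Eq.trans ?_ hσW
    have h6 : (Over.homMk t htS : Over.mk (str A k) ⟶ Over.mk (i ≫ W.ι ≫ g)) ≫
      (Over.homMk i rfl : Over.mk (i ≫ W.ι ≫ g) ⟶ Over.mk (W.ι ≫ g)) =
      Over.homMk tW (by
        change tW ≫ W.ι ≫ g = str A k
        rw [reassoc_of% htW, hx']) := by
      apply Over.OverMorphism.ext
      exact ht
    exact congrArg (fun m => (secFunctor D).map (Quiver.Hom.op m) σW) h6
  rw [h5]
  exact ha

end

/-- The existence of étale-local sections through points. -/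
theorem localSections : PropEff.LocalSections.{u} := by
  intro A X p _ _ _ D _ _ v
  exact exists_etale_section (A := A) p D v

end K834.LocSec
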