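import Groth.Agent.Subtr.K834.EffQ
import Groth.Agent.Subtr.K834.Tests2

/-!
# Effective descent of étale separated schemes: final forms, from the flattening theorem
-/

set_option autoImplicit false
set_option backward.isDefEq.respectTransparency false
set_option backward.isDefEq.respectTransparency.types false
open CategoryTheory CategoryTheory.Limits AlgebraicGeometry Opposite
universe u
open SGA1 K834.EffP K834.EffSep K834.EffFp Subtr

namespace K834.Final

variable {S' S : Scheme.{u}}

theorem qc (R : Refinement.{u}) (g : S' ⟶ S)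
    [QuasiCompact g] (hg : Subtr.UnivSSubtrusive g)
    (D : Desc.SchDD g) [QuasiCompact D.obj.hom] [IsSeparated D.obj.hom] [Etale D.obj.hom] :
    ∃ U : Over S, QuasiCompact U.hom ∧ IsSeparated U.hom ∧ Etale U.hom ∧
      Nonempty ((Desc.toDD g).obj U ≅ D) :=
  eff_iff_q.mp (EffQ.effq R g hg) D

theorem noeth (R : Refinement.{u}) [IsNoetherian S] [IsNoetherian S'] (g : S' ⟶ S)
    (hg : SGA1.UnivSubmersive g)
    (D : Desc.SchDD g) [QuasiCompact D.obj.hom] [IsSeparated D.obj.hom] [Etale D.obj.hom] :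
    ∃ U : Over S, QuasiCompact U.hom ∧ IsSeparated U.hom ∧ Etale U.hom ∧
      Nonempty ((Desc.toDD g).obj U ≅ D) :=
  qc R g ((K834.Tests2.univSubmersive_iff g).mp hg) D

theorem opn (R : Refinement.{u}) (g : S' ⟶ S)
    [UniversallyOpen g] [Surjective g]
    (D : Desc.SchDD g) [IsSeparated D.obj.hom] [Etale D.obj.hom] :
    ∃ U : Over S, IsSeparated U.hom ∧ Etale U.hom ∧ Nonempty ((Desc.toDD g).obj U ≅ D) :=
  eff_iff_s.mp (eff_open (fun g _ hg => EffQ.effq R g hg) g) D

theorem fp (R : Refinement.{u}) (g : S' ⟶ S)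
    [LocallyOfFinitePresentation g] [QuasiCompact g] [QuasiSeparated g]
    (hg : Subtr.UnivSSubtrusive g) (D : Desc.SchDD g) [IsSeparated D.obj.hom] [Etale D.obj.hom] :
    ∃ U : Over S, IsSeparated U.hom ∧ Etale U.hom ∧ Nonempty ((Desc.toDD g).obj U ≅ D) :=
  eff_iff_s.mp (effs_fp R (fun g _ hg => EffQ.effq R g hg) g hg) D

theorem closed (R : Refinement.{u}) (g : S' ⟶ S)
    [UniversallyClosed g] [Surjective g] [LocallyOfFinitePresentation g] [QuasiCompact g]
    [QuasiSeparated g] (D : Desc.SchDD g) [IsSeparated D.obj.hom] [Etale D.obj.hom] :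
    ∃ U : Over S, IsSeparated U.hom ∧ Etale U.hom ∧ Nonempty ((Desc.toDD g).obj U ≅ D) :=
  fp R g (K834.Basic.of_universallyClosed g) D

end K834.Final
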