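import Groth.Agent.Subtr.K834.EffSep

/-!
# Effectivity along universally S-subtrusive morphisms of finite presentation, from the flattening
theorem
-/

set_option autoImplicit false
set_option backward.isDefEq.respectTransparency false
set_option backward.isDefEq.respectTransparency.types false
open CategoryTheory CategoryTheory.Limits AlgebraicGeometry Opposite
universe u
open _root_.Desc Groth.Agent.Desc.SecFunctor Groth.Agent.Desc.SecPresheaf
open Groth.Agent.Desc.SecDescent SGA1 K834.EffP K834.EffSep Subtr

namespace K834.EffFp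

/-- The refinement theorem for universally S-subtrusive morphisms of finite presentation over affine
bases. -/
def Refinement : Prop := ∀ {X Y : Scheme.{u}} (f : X ⟶ Y) [IsAffine Y]
    [LocallyOfFinitePresentation f] [QuasiCompact f] [QuasiSeparated f] (_ : UnivSSubtrusive f),
    ∃ (X' Y' : Scheme.{u}) (h : X' ⟶ X) (p : X' ⟶ Y') (q : Y' ⟶ Y), h ≫ f = p ≫ q ∧
      Flat p ∧ Surjective p ∧ LocallyOfFinitePresentation p ∧ QuasiCompact p ∧ QuasiSeparated p ∧
      IsProper q ∧ Surjective q ∧ LocallyOfFinitePresentation q

instance : (UnivSubmersive.{u}).IsStableUnderComposition := by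
  have : MorphismProperty.IsStableUnderComposition
      (AlgebraicGeometry.topologically fun f => Topology.IsQuotientMap f :
        MorphismProperty Scheme.{u}) :=
    ⟨fun f g hf hg => by
      have h1 : Topology.IsQuotientMap f := hf
      have h2 : Topology.IsQuotientMap g := hg
      have h3 : Topology.IsQuotientMap (g ∘ f) := h2.comp h1
      have h4 : ((f ≫ g : _ ⟶ _) : _ → _) = g ∘ f := by
        ext x
        exact Scheme.Hom.comp_apply f g x
      change Topology.IsQuotientMap (f ≫ g)
      rw [h4]
      exact h3⟩
  exact MorphismProperty.IsStableUnderComposition.universally _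

variable {X S : Scheme.{u}}

theorem effq_proper (p : X ⟶ S) [IsProper p] [Surjective p] [LocallyOfFinitePresentation p] :
    Eff Pq p :=
  eff_iff_q.mpr (fun D _ _ _ => Groth.Agent.S14773.result p D)

theorem effq_flat (p : X ⟶ S) [Flat p] [Surjective p] [QuasiCompact p] : Eff Pq p :=
  eff_iff_q.mpr (fun D _ _ _ => Groth.Agent.S2906.result p D)

/-- étale separated quasi-compact data, finite presentation, affine base. -/
theorem effq_fp (R : Refinement.{u}) [IsAffine S] (f : X ⟶ S) [LocallyOfFinitePresentation f]
    [QuasiCompact f] [QuasiSeparated f] (hf : UnivSSubtrusive f) : Eff Pq f := by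
  obtain ⟨X', Y', h, p, q, w, _, _, _, _, _, _, _, _⟩ := R f hf
  have hp : UnivSubmersive p := Groth.Agent.Sga1.SecLocal.univSubmersive_of_universallyOpen p
  have hq : UnivSubmersive q := Groth.Agent.Sga1.SecLocal.univSubmersive_of_universallyClosed q
  refine Eff.refine Pq_le (p ≫ q) ?_ ?_ h w
  · exact MorphismProperty.comp_mem _ _ _ hp hq
  · exact Eff.comp Pq_le p q hp hq (effq_flat p) (effq_proper q)

/-- étale separated data, finite presentation. -/
theorem effs_fp (R : Refinement.{u})
    (H : ∀ {X S : Scheme.{u}} (g : X ⟶ S) [QuasiCompact g] (_ : UnivSSubtrusive g), Eff Pq g)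
    (f : X ⟶ S) [LocallyOfFinitePresentation f]
    [QuasiCompact f] [QuasiSeparated f] (hf : UnivSSubtrusive f) : Eff Ps f := by
  refine Eff.of_local Ps_le ?_
  intro s
  obtain ⟨A, _, j, _, a, ha⟩ := Groth.Agent.Sga1.ProperDesc.exists_chart s
  obtain ⟨X', Y', h, p, q, w, _, _, _, _, _, _, _, _⟩ := R (pullback.snd f j)
    (MorphismProperty.pullback_snd _ _ hf)
  have hp : UnivSubmersive p := Groth.Agent.Sga1.SecLocal.univSubmersive_of_universallyOpen p
  have hq : UnivSubmersive q := Groth.Agent.Sga1.SecLocal.univSubmersive_of_universallyClosed q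
  refine ⟨_, j, inferInstance, ⟨a, ha⟩, X', p ≫ q, h ≫ pullback.fst f j,
    MorphismProperty.comp_mem _ _ _ hp hq, ?_, ?_⟩
  · exact Eff.comp Ps_le p q hp hq (eff_open H p) (eff_proper q)
  · rw [← w, Category.assoc, Category.assoc, pullback.condition]

end K834.EffFp
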