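import Groth.Agent.Subtr.K834.UltraDesc
import Groth.Agent.Subtr.K834.EffFp
import Groth.Agent.Subtr.K835.Flatten
import Groth.Agent.Unram17.K134.NoethModel
import Groth.Agent.Flat2C.GenericReduced

/-!
# The refinement theorem over Noetherian and affine bases

A morphism of finite presentation with the lifting property for pairs of points is refined by a flat
surjective morphism followed by a proper surjective one: over a Noetherian base by flattening by
blowing up, over an affine base by descending to a Noetherian model.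
-/

set_option autoImplicit false
universe u
open CategoryTheory CategoryTheory.Limits AlgebraicGeometry Subtr
open Groth.Agent.Flat2C.StrictTr

namespace K834.Refine

/-- refinement by a flat surjective morphism followed by a proper surjective morphism -/
def Ref {X Y : Scheme.{u}} (f : X ⟶ Y) : Prop :=
  ∃ (X' Y' : Scheme.{u}) (h : X' ⟶ X) (p : X' ⟶ Y') (q : Y' ⟶ Y), h ≫ f = p ≫ q ∧
      Flat p ∧ Surjective p ∧ LocallyOfFinitePresentation p ∧ QuasiCompact p ∧ QuasiSeparated p ∧
      IsProper q ∧ Surjective q ∧ LocallyOfFinitePresentation q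

theorem Ref.of_isPullback {X Y X₀ Y₀ : Scheme.{u}} {f : X ⟶ Y} {f₀ : X₀ ⟶ Y₀} {g : X ⟶ X₀}
    {t : Y ⟶ Y₀} (hpb : IsPullback g f f₀ t) (h : Ref f₀) : Ref f := by
  obtain ⟨X', Y', h, p, q, w, _, _, _, _, _, _, _, _⟩ := h
  refine ⟨pullback p (pullback.fst q t), pullback q t,
    hpb.lift (pullback.fst p (pullback.fst q t) ≫ h)
      (pullback.snd p (pullback.fst q t) ≫ pullback.snd q t) ?_,
    pullback.snd p (pullback.fst q t), pullback.snd q t, ?_, inferInstance, inferInstance,
    inferInstance, inferInstance, inferInstance, inferInstance, inferInstance, inferInstance⟩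
  · rw [Category.assoc, w, pullback.condition_assoc, Category.assoc, pullback.condition]
  · exact hpb.lift_snd _ _ _

/-- The refinement theorem over a Noetherian base. -/
theorem noeth {X Y : Scheme.{u}} (f : X ⟶ Y) [IsNoetherian Y] [LocallyOfFinitePresentation f]
    [QuasiCompact f] [QuasiSeparated f] (hf : UnivSSubtrusive f) : Ref f := by
  let Yr : Scheme.{u} := Y.nilradical.subscheme
  let i : Yr ⟶ Y := Y.nilradical.subschemeι
  have hred : IsReduced Yr := Groth.Agent.Flat2C.GenericReduced.isReduced_subscheme_nilradical Y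
  have hsurj : Surjective i := by
    refine ⟨Set.range_eq_univ.mp ?_⟩
    rw [Scheme.IdealSheafData.range_subschemeι, Scheme.support_nilradical]
    rfl
  have hln : IsLocallyNoetherian Yr := LocallyOfFiniteType.isLocallyNoetherian i
  have hcp : CompactSpace Yr := QuasiCompact.compactSpace_of_compactSpace i
  have hno : IsNoetherian Yr := {}
  have hgen : IsCompact {y : Yr | ∀ y' : Yr, y' ⤳ y → y' = y} :=
    TopologicalSpace.NoetherianSpace.isCompact _
  obtain ⟨U, 𝓘, Y', b, h1, h2, h3, h4, h5, h6, h7, H⟩ :=
    K835.Flatten.exists_blowUp hgen (pullback.snd f i)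
  have h := IsPullback.of_hasPullback (pullback.snd f i) b
  have hft : BlowUp.IsFiniteTypeIdeal
      ((𝓘.comap (pullback.snd f i)).comap (pullback.fst (pullback.snd f i) b)) :=
    isFiniteTypeIdeal_comap (isFiniteTypeIdeal_comap h5.1 _) _
  have hJ := isKilledIdeal_killedIdeal hft
  obtain ⟨a1, a2, a3, a4⟩ := H _ _ _ h _ hJ
  have a5 := K835.Flatten.surjective_strictTransform h4 h5.1 h
    (K835.Basic.isSS (K835.Basic.of_isPullback h (K835.Basic.of_isPullback
      (IsPullback.of_hasPullback f i) hf))) hJ
  have a6 : LocallyOfFinitePresentation b := inferInstance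
  refine ⟨_, Y', (killedIdeal _).subschemeι ≫ pullback.fst (pullback.snd f i) b ≫ pullback.fst f i,
    _, b ≫ i, ?_, a1, a5, a2, a3, a4, inferInstance, inferInstance, inferInstance⟩
  simp only [Category.assoc]
  rw [pullback.condition, pullback.condition_assoc]

/-- The refinement theorem over an affine base. -/
theorem affine {X Y : Scheme.{u}} (f : X ⟶ Y) [IsAffine Y] [LocallyOfFinitePresentation f]
    [QuasiCompact f] [QuasiSeparated f] (hf : UnivSSubtrusive f) : Ref f := by
  let A : Type u := Γ(Y, ⊤)
  let f' : X ⟶ Spec (CommRingCat.of A) := f ≫ Y.isoSpec.hom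
  have hf' : UnivSSubtrusive f' := K835.Basic.comp hf (K835.Basic.of_isIso _)
  obtain ⟨A₀, hA₀, X₀, f₀, g, hP, _, _, _, hpb⟩ := K134.NoethModel.exists_model
    (P := UnivSSubtrusive.{u}) (Q := @LocallyOfFinitePresentation) (fun f h _ _ => h)
    UltraDesc.descendsAffine A f' hf'
  have hN : IsNoetherianRing A₀ := by
    have : Algebra.FiniteType ℤ A₀ := A₀.fg_iff_finiteType.mp hA₀
    exact Algebra.FiniteType.isNoetherianRing ℤ A₀
  have h0 : Ref f₀ := noeth f₀ hP
  have h1 : Ref f' := Ref.of_isPullback hpb h0
  refine Ref.of_isPullback (g := 𝟙 X) (t := Y.isoSpec.hom) (f₀ := f') ?_ h1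
  exact IsPullback.of_horiz_isIso ⟨by simp [f']⟩

theorem refinement : EffFp.Refinement.{u} := fun f _ _ _ _ hf => affine f hf

/-- The refinement theorem. -/
theorem main {X Y : Scheme.{u}} (f : X ⟶ Y) (hY : IsAffine Y ∨ IsNoetherian Y)
    [LocallyOfFinitePresentation f] [QuasiCompact f] [QuasiSeparated f] (hf : UnivSSubtrusive f) :
    Ref f := by
  rcases hY with h | h
  · exact affine f hf
  · exact noeth f hf

end K834.Refine
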