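import Groth.Agent.Subtr.K834.EffFp
import Mathlib.Topology.LocallyClosed

/-!
# Locally closed subsets and morphisms with the lifting property for pairs of points
-/

set_option autoImplicit false
open CategoryTheory CategoryTheory.Limits AlgebraicGeometry Opposite
universe u
open K834.EffFp Subtr

namespace K834.LocClosed

theorem of_isOpenMap {X Y : Type*} [TopologicalSpace X] [TopologicalSpace Y] {f : X → Y}
    (hf : IsOpenMap f) (hc : Continuous f) (hs : Function.Surjective f) {E : Set Y}
    (h : IsLocallyClosed (f ⁻¹' E)) : IsLocallyClosed E := by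
  rw [isLocallyClosed_iff_isOpen_coborder] at h ⊢
  rw [← (hf.isQuotientMap hc hs).isOpen_preimage, ← coborder_preimage hf hc]
  exact h

theorem of_isClosedMap {X Y : Type*} [TopologicalSpace X] [TopologicalSpace Y] {f : X → Y}
    (hf : IsClosedMap f) (hc : Continuous f) (hs : Function.Surjective f) {E : Set Y}
    (h : IsLocallyClosed (f ⁻¹' E)) : IsLocallyClosed E := by
  rw [isLocallyClosed_iff_isOpen_coborder] at h ⊢
  have h1 : IsClosed (closure (f ⁻¹' E) \ (f ⁻¹' E)) := by
    rw [← isOpen_compl_iff]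
    exact h
  have h2 : closure E \ E = f '' (closure (f ⁻¹' E) \ (f ⁻¹' E)) := by
    have h3 : closure E = f '' closure (f ⁻¹' E) := by
      rw [← hf.closure_image_eq_of_continuous hc, Set.image_preimage_eq _ hs]
    rw [h3]
    ext y
    constructor
    · rintro ⟨⟨x, hx, rfl⟩, hy⟩
      exact ⟨x, ⟨hx, hy⟩, rfl⟩
    · rintro ⟨x, ⟨hx, hx'⟩, rfl⟩
      exact ⟨⟨x, hx, rfl⟩, hx'⟩
  have h3 : IsClosed (closure E \ E) := by
    rw [h2]
    exact hf _ h1
  exact h3.isOpen_compl

theorem isLocallyClosed_iff (R : Refinement.{u}) {S' S : Scheme.{u}} (f : S' ⟶ S)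
    [LocallyOfFinitePresentation f] [QuasiCompact f] [QuasiSeparated f]
    (hf : Subtr.UnivSSubtrusive f) (E : Set S) :
    IsLocallyClosed E ↔ IsLocallyClosed (f ⁻¹' E) := by
  refine ⟨fun h => h.preimage f.continuous, fun h => ?_⟩
  rw [isLocallyClosed_iff_isOpen_coborder, isOpen_iff_mem_nhds]
  intro s hs
  obtain ⟨A, _, j, _, a, ha⟩ := Groth.Agent.Sga1.ProperDesc.exists_chart s
  have hj : IsLocallyClosed (j ⁻¹' E) := by
    obtain ⟨X', Y', g, p, q, w, _, _, _, _, _, _, _, _⟩ := R (pullback.snd f j)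
      (MorphismProperty.pullback_snd _ _ hf)
    refine of_isClosedMap q.isClosedMap q.continuous q.surjective ?_
    refine of_isOpenMap p.isOpenMap p.continuous p.surjective ?_
    have e : p ⁻¹' (q ⁻¹' (j ⁻¹' E)) = (g ≫ pullback.fst f j) ⁻¹' (f ⁻¹' E) := by
      have e1 : (g ≫ pullback.fst f j) ≫ f = (p ≫ q) ≫ j := by
        rw [← w, Category.assoc, Category.assoc, pullback.condition]
      ext x
      change j (q (p x)) ∈ E ↔ f ((g ≫ pullback.fst f j) x) ∈ E
      rw [← Scheme.Hom.comp_apply (g ≫ pullback.fst f j) f, e1, Scheme.Hom.comp_apply,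
        Scheme.Hom.comp_apply]
    rw [e]
    exact h.preimage (g ≫ pullback.fst f j).continuous
  rw [isLocallyClosed_iff_isOpen_coborder, coborder_preimage j.isOpenMap j.continuous] at hj
  have h2 := j.isOpenMap _ hj
  refine Filter.mem_of_superset (h2.mem_nhds ⟨a, ?_, ha⟩) (Set.image_preimage_subset _ _)
  change j a ∈ coborder E
  rw [ha]
  exact hs

end K834.LocClosed
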