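import Groth.Agent.Subtr.K834.Val
import Groth.Agent.Subtr.K835.Basic
import Groth.Agent.S1378
import Groth.Agent.S0429
import Mathlib.FieldTheory.IsAlgClosed.Basic
import Mathlib.Algebra.GCDMonoid.IntegrallyClosed
import Mathlib.RingTheory.PrincipalIdealDomain

/-!
# Sections over valuation rings of algebraically closed fields

* `exists_section_integral`: surjective integral morphisms to the spectrum of a valuation ring of an
  algebraically closed field have sections;
* `exists_section`: so do S-subtrusive morphisms locally of finite type;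
* `of_sections`: a morphism through which every such spectrum factors is universally S-subtrusive.
-/

set_option autoImplicit false
universe u
open CategoryTheory CategoryTheory.Limits AlgebraicGeometry Subtr IsLocalRing

namespace K834.AicSec

open K834.Basic

section

variable (V : Type u) [CommRing V] [IsDomain V] [ValuationRing V]
  (L : Type u) [Field L] [IsAlgClosed L] [Algebra V L] [IsFractionRing V L]

theorem isIntegrallyClosed : IsIntegrallyClosed V := by
  classical
  let _ : GCDMonoid V := IsBezout.toGCDDomain V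
  exact GCDMonoid.toIsIntegrallyClosed

include L in
theorem exists_algHom {C : Type u} [CommRing C] [Algebra V C] [Algebra.IsIntegral V C] (q : Ideal C)
    [q.IsPrime] (hq : q.comap (algebraMap V C) = ⊥) : Nonempty (C →ₐ[V] V) := by
  have h1 : Function.Injective (algebraMap V (C ⧸ q)) := by
    rw [RingHom.injective_iff_ker_eq_bot, show algebraMap V (C ⧸ q) =
      (Ideal.Quotient.mk q).comp (algebraMap V C) from rfl, ← RingHom.comap_ker, Ideal.mk_ker, hq]
  have h2 : FaithfulSMul V (C ⧸ q) := (faithfulSMul_iff_algebraMap_injective _ _).mpr h1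
  have h3 : Algebra.IsIntegral V (C ⧸ q) := inferInstance
  have h4 : Algebra.IsAlgebraic V (C ⧸ q) := inferInstance
  let ψ : (C ⧸ q) →ₐ[V] L := IsAlgClosed.lift
  have hic := isIntegrallyClosed V
  have h5 : ∀ c, ∃ a, algebraMap V L a = ψ c := by
    intro c
    have h6 : IsIntegral V (ψ c) := (Algebra.IsIntegral.isIntegral (R := V) c).map ψ
    exact (IsIntegrallyClosed.isIntegral_iff (R := V) (K := L)).mp h6
  choose r hr using h5
  have hinj : Function.Injective (algebraMap V L) := IsFractionRing.injective _ _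
  let ψ' : (C ⧸ q) →ₐ[V] V :=
    { toFun := r
      map_one' := hinj (by rw [hr, map_one, map_one])
      map_mul' x y := hinj (by rw [hr, map_mul, map_mul, hr, hr])
      map_zero' := hinj (by rw [hr, map_zero, map_zero])
      map_add' x y := hinj (by rw [hr, map_add, map_add, hr, hr])
      commutes' a := hinj (by rw [hr, ψ.commutes]; rfl) }
  exact ⟨ψ'.comp (Ideal.Quotient.mkₐ V q)⟩

include L in
theorem exists_section_integral {T : Scheme.{u}} (π : T ⟶ Spec (CommRingCat.of V))
    [IsIntegralHom π] [Surjective π] : ∃ s : Spec (CommRingCat.of V) ⟶ T, s ≫ π = 𝟙 _ := by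
  have : IsAffine T := isAffine_of_isAffineHom π
  obtain ⟨φ, hφ⟩ : ∃ φ : CommRingCat.of V ⟶ Γ(T, ⊤), T.isoSpec.inv ≫ π = Spec.map φ :=
    ⟨Spec.preimage _, (Spec.map_preimage _).symm⟩
  have h1 : IsIntegralHom (Spec.map φ) := by rw [← hφ]; infer_instance
  have h2 : Surjective (Spec.map φ) := by rw [← hφ]; infer_instance
  rw [IsIntegralHom.SpecMap_iff] at h1
  algebraize [φ.hom]
  obtain ⟨q, hq⟩ := h2.surj (gpt V)
  have hq' : (PrimeSpectrum.asIdeal q).comap (algebraMap V Γ(T, ⊤)) = ⊥ :=
    congrArg PrimeSpectrum.asIdeal hq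
  obtain ⟨ψ⟩ := exists_algHom V L (PrimeSpectrum.asIdeal q) hq'
  have h3 : φ ≫ CommRingCat.ofHom ψ.toRingHom = 𝟙 _ := by
    ext a
    exact ψ.commutes a
  refine ⟨Spec.map (CommRingCat.ofHom ψ.toRingHom) ≫ T.isoSpec.inv, ?_⟩
  rw [Category.assoc, hφ, ← Spec.map_comp, h3, Spec.map_id]

end

/-- a morphism from a local scheme whose closed point lands in an open factors through it -/
theorem exists_lift_opens {R : Type u} [CommRing R] [IsLocalRing R] {T : Scheme.{u}}
    (s : Spec (CommRingCat.of R) ⟶ T) (V : T.Opens) (h : s (closedPoint R) ∈ V) :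
    ∃ s' : Spec (CommRingCat.of R) ⟶ V, s' ≫ V.ι = s := by
  refine ⟨IsOpenImmersion.lift V.ι s ?_, IsOpenImmersion.lift_fac _ _ _⟩
  rintro _ ⟨x, rfl⟩
  rw [Scheme.Opens.range_ι]
  exact ((IsLocalRing.specializes_closedPoint x).map s.continuous).mem_open V.2 h

/-- **Sections over valuation rings of algebraically closed fields.** -/
theorem exists_section (V : Type u) [CommRing V] [IsDomain V] [ValuationRing V]
    (L : Type u) [Field L] [IsAlgClosed L] [Algebra V L] [IsFractionRing V L]
    {X : Scheme.{u}} (f : X ⟶ Spec (CommRingCat.of V)) [LocallyOfFiniteType f]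
    (hf : IsSSubtrusive f) :
    ∃ s : Spec (CommRingCat.of V) ⟶ X, s ≫ f = 𝟙 _ := by
  obtain ⟨Z, i, _, _, _⟩ := ((Val.tfae V f).out 1 5).mp hf
  have h1 : LocallyOfFinitePresentation (i ≫ f) := Groth.Agent.S0429.result (i ≫ f)
  obtain ⟨T, π, _, _, h2⟩ := Groth.Agent.S1378.result (i ≫ f)
  obtain ⟨s, hs⟩ := exists_section_integral V L π
  obtain ⟨W, r, hW, hr⟩ := h2 (s (closedPoint V))
  obtain ⟨s', hs'⟩ := exists_lift_opens s W hW
  refine ⟨s' ≫ r ≫ i, ?_⟩
  rw [Category.assoc, Category.assoc, hr, ← Category.assoc, hs', hs]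

/-- **Criterion for the lifting property for pairs of points**, with sections over valuation rings of
algebraically closed fields. -/
theorem of_sections {X Y : Scheme.{u}} (f : X ⟶ Y)
    (h : ∀ (L : Type u) [Field L] [IsAlgClosed L] (A : ValuationSubring L)
      (y : Spec (CommRingCat.of A) ⟶ Y), ∃ x : Spec (CommRingCat.of A) ⟶ X, x ≫ f = y) :
    UnivSSubtrusive f := by
  rw [K835.Basic.iff_pullback_snd]
  intro T t b b' hb
  let κ : Type u := T.residueField b'
  let _ : Field κ := inferInstanceAs (Field (T.residueField b'))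
  let L : Type u := AlgebraicClosure κ
  obtain ⟨A, g, h1, h2⟩ := exists_valuationSubring (L := L) hb
    (CommRingCat.ofHom (algebraMap κ L))
  obtain ⟨x, hx⟩ := h L A (g ≫ t)
  let l : Spec (CommRingCat.of A) ⟶ pullback f t := pullback.lift x g hx
  have hl : l ≫ pullback.snd f t = g := pullback.lift_snd _ _ _
  have h3 : (Spec.map (CommRingCat.ofHom (algebraMap A L))) (closedPoint L) = gpt A := by
    apply PrimeSpectrum.ext
    change Ideal.comap (algebraMap A L) (maximalIdeal L) = ⊥
    rw [IsLocalRing.maximalIdeal_eq_bot]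
    exact (RingHom.injective_iff_ker_eq_bot _).mp (FaithfulSMul.algebraMap_injective _ _)
  refine ⟨l (closedPoint A), l (gpt A), (specializes_closedPoint (R := A) _).map l.continuous,
    ?_, ?_⟩
  · rw [← Scheme.Hom.comp_apply, hl, h1]
  · rw [← Scheme.Hom.comp_apply, hl, ← h3, ← Scheme.Hom.comp_apply, h2, Scheme.Hom.comp_apply]
    exact Scheme.fromSpecResidueField_apply _ _

end K834.AicSec
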