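import Groth.Agent.Smoothlim.UltraLift
import Mathlib.FieldTheory.IsAlgClosed.Basic
import Mathlib.AlgebraicGeometry.Morphisms.FinitePresentation

/-!
# Points with values in ultraproducts

* the ultraproduct of a family of algebraically closed fields is algebraically closed;
* `eventually_exists_point`: a point of a scheme locally of finite presentation with values in an
  ultraproduct of local rings (which is local) comes from points with values in almost all factors.
-/

set_option autoImplicit false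
universe u

open CategoryTheory CategoryTheory.Limits AlgebraicGeometry
open Groth.Agent.Smoothlim.UltraVal

namespace K834.UltraPt

variable {J : Type u} (𝒰 : Ultrafilter J)

theorem isAlgClosed_uProd (K : J → Type u) [∀ j, Field (K j)] [∀ j, IsAlgClosed (K j)] :
    IsAlgClosed (UProd 𝒰 K) := by
  refine IsAlgClosed.of_exists_root _ fun p hp hirr => ?_
  have hn : 0 < p.natDegree := hirr.natDegree_pos
  choose c hc using fun i => mk_surjective 𝒰 K (p.coeff i)
  have hcn : ∀ᶠ j in (𝒰 : Filter J), c p.natDegree j = 1 := by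
    have : mk 𝒰 K (c p.natDegree) = mk 𝒰 K 1 := by
      rw [hc, map_one]
      exact hp
    exact (mk_eq_mk 𝒰 _ _).mp this
  let P (j : J) : Polynomial (K j) :=
    ∑ i ∈ Finset.range (p.natDegree + 1), Polynomial.monomial i (c i j)
  have hcoeff (j : J) : (P j).coeff p.natDegree = c p.natDegree j := by
    simp only [P, Polynomial.finsetSum_coeff, Polynomial.coeff_monomial]
    rw [Finset.sum_ite_eq' ]
    simp
  have h1 : ∀ᶠ j in (𝒰 : Filter J), ∃ x : K j, (P j).eval x = 0 := by
    filter_upwards [hcn] with j hj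
    refine IsAlgClosed.exists_root (P j) ?_
    intro h0
    have h2 : (P j).natDegree = 0 := Polynomial.natDegree_eq_of_degree_eq_some h0
    have h3 : (P j).coeff p.natDegree = 0 :=
      Polynomial.coeff_eq_zero_of_natDegree_lt (by omega)
    rw [hcoeff, hj] at h3
    exact one_ne_zero h3
  obtain ⟨x, hx⟩ := eventually_exists 𝒰 h1
  refine ⟨mk 𝒰 K x, ?_⟩
  rw [Polynomial.eval_eq_sum_range]
  simp_rw [← hc, ← map_pow, ← map_mul]
  rw [← map_sum, mk_eq_zero]
  filter_upwards [hx] with j hj
  rw [← hj]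
  simp only [P, Polynomial.eval_finsetSum, Polynomial.eval_monomial, Finset.sum_apply, Pi.mul_apply,
    Pi.pow_apply]

/-- Points with values in an ultraproduct. -/
theorem eventually_exists_point (R : J → Type u) [∀ j, CommRing (R j)] [IsLocalRing (UProd 𝒰 R)]
    {X : Scheme.{u}} {B : CommRingCat.{u}} (f : X ⟶ Spec B)
    [LocallyOfFinitePresentation f] (b : ∀ j, B ⟶ .of (R j)) (β : B ⟶ .of (UProd 𝒰 R))
    (hβ : ∀ x, β.hom x = mk 𝒰 R (fun j => (b j).hom x))
    (l : Spec (.of (UProd 𝒰 R)) ⟶ X) (hl : l ≫ f = Spec.map β) :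
    ∀ᶠ j in (𝒰 : Filter J), ∃ lj : Spec (.of (R j)) ⟶ X, lj ≫ f = Spec.map (b j) := by
  classical
  obtain ⟨_, ⟨U, hU : IsAffineOpen U, rfl⟩, hxU, -⟩ :=
    X.isBasis_affineOpens.exists_subset_of_mem_open
      (Set.mem_univ (l (IsLocalRing.closedPoint (UProd 𝒰 R)))) isOpen_univ
  obtain ⟨ψ, hψ⟩ := exists_eq_specMap_fromSpec hU l (range_subset_of_closedPoint_mem l U hxU)
  obtain ⟨γ, hγ⟩ : ∃ γ : B ⟶ Γ(X, U), Spec.map γ = hU.fromSpec ≫ f :=
    ⟨Spec.preimage _, Spec.map_preimage _⟩
  have hγfp : γ.hom.FinitePresentation := by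
    rw [← HasRingHomProperty.Spec_iff (P := @LocallyOfFinitePresentation), hγ]
    infer_instance
  have hγψ : γ ≫ ψ = β := by
    apply Spec.map_injective
    rw [Spec.map_comp, hγ, ← Category.assoc, hψ, hl]
  algebraize [γ.hom]
  obtain ⟨n, F, hF, hker⟩ := Algebra.FinitePresentation.out (R := B) (A := Γ(X, U))
  choose c hc using fun k => mk_surjective 𝒰 R (ψ.hom (F (MvPolynomial.X k)))
  -- evaluation
  let ev (j : J) : MvPolynomial (Fin n) B →+* R j :=
    MvPolynomial.eval₂Hom (b j).hom (fun k => c k j)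
  let evP : MvPolynomial (Fin n) B →+* Π j, R j := RingHom.pi ev
  have hev : (mk 𝒰 R).comp evP = ψ.hom.comp (F : MvPolynomial (Fin n) B →+* Γ(X, U)) := by
    apply MvPolynomial.ringHom_ext
    · intro r
      have h1 : evP (MvPolynomial.C r) = fun j => (b j).hom r := by
        ext j
        simp [evP, ev]
      have h2 : F (MvPolynomial.C r) = γ.hom r := F.commutes r
      rw [RingHom.comp_apply, RingHom.comp_apply, h1, ← hβ, ← hγψ]
      exact congrArg ψ.hom h2.symm
    · intro k
      have h1 : evP (MvPolynomial.X k) = c k := by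
        ext j
        simp [evP, ev]
      rw [RingHom.comp_apply, RingHom.comp_apply, h1, hc]
      rfl
  obtain ⟨t, ht⟩ := hker
  have h3 : ∀ᶠ j in (𝒰 : Filter J), ∀ P ∈ t, ev j P = 0 := by
    rw [Filter.eventually_all_finset]
    intro P hP
    have h4 : F P = 0 := by
      have : P ∈ RingHom.ker F.toRingHom := ht ▸ Ideal.subset_span hP
      exact this
    have h5 : mk 𝒰 R (evP P) = 0 := by
      have := congrArg (fun φ => φ P) hev
      simp only [RingHom.comp_apply] at this
      rw [this]
      change ψ.hom (F P) = 0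
      rw [h4, map_zero]
    exact (mk_eq_zero 𝒰 _).mp h5
  filter_upwards [h3] with j hj
  have hle : RingHom.ker F.toRingHom ≤ RingHom.ker (ev j) := by
    rw [← ht, Ideal.span_le]
    exact hj
  -- factor
  let ρ : Γ(X, U) →+* R j := RingHom.liftOfSurjective F.toRingHom hF ⟨ev j, hle⟩
  have hρ : ρ.comp F.toRingHom = ev j := RingHom.liftOfRightInverse_comp _ _ _ ⟨ev j, hle⟩
  have hργ : γ ≫ CommRingCat.ofHom ρ = b j := by
    ext r
    have h6 := congrArg (fun φ => φ (MvPolynomial.C r)) hρ
    simp only [RingHom.comp_apply] at h6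
    have h2 : F.toRingHom (MvPolynomial.C r) = γ.hom r := F.commutes r
    rw [h2] at h6
    change ρ (γ.hom r) = _
    rw [h6]
    simp [ev]
  refine ⟨Spec.map (CommRingCat.ofHom ρ) ≫ hU.fromSpec, ?_⟩
  rw [Category.assoc, ← hγ, ← Spec.map_comp, hργ]

end K834.UltraPt
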