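import Groth.Agent.Smoothlim.UltraDescend
import Groth.Agent.Smoothlim.LimDescend
import Groth.Agent.Subtr.K834.AicSec
import Groth.Agent.Subtr.K834.UltraPt

/-!
# The lifting property for pairs of points descends from a limit to a stage

For morphisms locally of finite presentation, by an ultraproduct argument.
-/

set_option autoImplicit false
universe u

open CategoryTheory CategoryTheory.Limits AlgebraicGeometry Subtr
open Groth.Agent.Smoothlim.UltraVal Groth.Agent.Smoothlim.LimBase

namespace K834.UltraDesc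

section

variable {α : Type u} [PartialOrder α] [IsDirected α (· ≤ ·)] [Nonempty α]
  (F : α ⥤ CommRingCat.{u}) (c : Cocone F) (hc : IsColimit c)

include hc in
theorem exists_univSSubtrusive {B : CommRingCat.{u}} (t : ∀ i, B ⟶ F.obj i)
    (ht : ∀ i j (h : i ≤ j), t i ≫ F.map (homOfLE h) = t j) (b : B ⟶ c.pt)
    (hb : ∀ i, t i ≫ c.ι.app i = b) {X : Scheme.{u}} (f : X ⟶ Spec B)
    [LocallyOfFinitePresentation f]
    (H : UnivSSubtrusive (pullback.snd f (Spec.map b))) :
    ∃ i, UnivSSubtrusive (pullback.snd f (Spec.map (t i))) := by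
  classical
  by_contra! hn
  have hn' : ∀ i, ∃ (L : Type u) (_ : Field L) (_ : IsAlgClosed L) (A : ValuationSubring L)
      (y : Spec (CommRingCat.of A) ⟶ Spec (F.obj i)), ¬ ∃ x : Spec (CommRingCat.of A) ⟶
        pullback f (Spec.map (t i)), x ≫ pullback.snd f (Spec.map (t i)) = y := by
    intro i
    by_contra! h
    refine hn i (AicSec.of_sections _ fun L _ _ A y => ?_)
    exact h L inferInstance inferInstance A y
  choose K hK hKa A y hy using hn'
  let R (i : α) : Type u := A i
  let a (i : α) : F.obj i ⟶ .of (R i) := Spec.preimage (y i)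
  have ha (i : α) : Spec.map (a i) = y i := Spec.map_preimage _
  let 𝒰 : Ultrafilter α := Ultrafilter.of Filter.atTop
  have h𝒰 : (𝒰 : Filter α) ≤ Filter.atTop := Ultrafilter.of_le _
  let θ : c.pt ⟶ .of (UProd 𝒰 R) := hc.desc (thetaCocone F 𝒰 h𝒰 R a)
  have hθ (i : α) : c.ι.app i ≫ θ = CommRingCat.ofHom (theta F 𝒰 h𝒰 R a i) :=
    hc.fac (thetaCocone F 𝒰 h𝒰 R a) i
  have hKc : IsAlgClosed (UProd 𝒰 K) := UltraPt.isAlgClosed_uProd 𝒰 K
  -- the section over the ultraproduct
  have h1 : UnivSSubtrusive (pullback.snd (pullback.snd f (Spec.map b)) (Spec.map θ)) :=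
    MorphismProperty.pullback_snd _ _ H
  obtain ⟨s, hs⟩ := AicSec.exists_section (UProd 𝒰 R) (UProd 𝒰 K)
    (pullback.snd (pullback.snd f (Spec.map b)) (Spec.map θ)) (K835.Basic.isSS h1)
  let l : Spec (.of (UProd 𝒰 R)) ⟶ X := s ≫ pullback.fst (pullback.snd f (Spec.map b)) (Spec.map θ) ≫
    pullback.fst f (Spec.map b)
  have hl : l ≫ f = Spec.map (b ≫ θ) := by
    simp only [l, Category.assoc, pullback.condition]
    rw [pullback.condition_assoc, ← Category.assoc, hs, Category.id_comp, Spec.map_comp]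
  have hβ : ∀ x, (b ≫ θ).hom x = mk 𝒰 R (fun j => (t j ≫ a j).hom x) := by
    intro x
    obtain ⟨i⟩ := ‹Nonempty α›
    rw [← hb i, Category.assoc, hθ]
    change theta F 𝒰 h𝒰 R a i ((t i).hom x) = _
    rw [theta_eq_mk F 𝒰 h𝒰 R a i ((t i).hom x) (fun j ↦ (a j).hom ((t j).hom x))
      (fun j hij ↦ congr((a j).hom ($(ht i j hij).hom x)))]
    rfl
  obtain ⟨i, li, hli⟩ := (UltraPt.eventually_exists_point 𝒰 R f (fun j => t j ≫ a j) (b ≫ θ) hβ
    l hl).exists
  refine hy i ⟨pullback.lift li (y i) ?_, pullback.lift_snd _ _ _⟩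
  rw [hli, Spec.map_comp, ha]

end

/-- **The lifting property for pairs of points descends from a limit to a stage.** -/
theorem descendsAffine : DescendsAffine.{u} @LocallyOfFinitePresentation UnivSSubtrusive := by
  intro α _ _ _ F c hc B t ht b hb X f hQ hP
  have : LocallyOfFinitePresentation f := hQ
  exact exists_univSSubtrusive F c hc t ht b hb f hP

end K834.UltraDesc
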