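import Groth.Agent.Subtr.K834.NilDesc
import Groth.Agent.AlgSp.K617.FinLoc
import Groth.Agent.AlgSp.K596.Pts
import Groth.Agent.AlgSp.K651.Sigma
import Groth.Agent.AlgSp.K615.Homeo
import Groth.Agent.AlgSp.K608.Comp
import Groth.Agent.AlgSp.K596.Univ
import Groth.Agent.AlgSp.K613.Mono
import Groth.Agent.AlgSp.K609.Points
import Groth.Agent.FlatA.UnivHomeo

/-!
# Separated universal homeomorphisms of algebraic spaces are integral
-/

set_option autoImplicit false
universe u
open CategoryTheory CategoryTheory.Limits AlgebraicGeometry Opposite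

namespace K834.UHSpace

open AlgSp K613.Basic K613.Cover K613.Chart K613.Diag

variable {S : Scheme.{u}}

/-- A chart which is separated over a given affine scheme. -/
theorem exists_separated_chart {P : Sp S} (hP : IsAlgSpace P) {Z : Over S} [IsAffine Z.left]
    (q : P ⟶ (yon S).obj Z) :
    ∃ (U : Over S) (p : (yon S).obj U ⟶ P) (g : U ⟶ Z), Ch p ∧ IsSeparated g.left ∧
      p ≫ q = (yon S).map g := by
  obtain ⟨U₀, p₀, hp₀⟩ := exists_ch hP
  obtain ⟨g₀, hg₀⟩ := (yon S).map_surjective (p₀ ≫ q)
  let 𝒰 : Scheme.OpenCover.{u} U₀.left := U₀.left.affineCover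
  have (a : _) : IsAffine (𝒰.X a) := inferInstanceAs (IsAffine (Spec _))
  let d : (∐ 𝒰.X) ⟶ U₀.left := Sigma.desc 𝒰.f
  have hd1 : Surjective d := inferInstance
  have hd2 : Etale d := IsZariskiLocalAtSource.sigmaDesc fun i => inferInstance
  let U : Over S := Over.mk (d ≫ U₀.hom)
  let c : U ⟶ U₀ := Over.homMk d
  have hc : EtC c := ⟨hd2, hd1⟩
  refine ⟨U, (yon S).map c ≫ p₀, c ≫ g₀, hp₀.comp hc, ?_, ?_⟩
  · change IsSeparated (d ≫ g₀.left)
    have e : d ≫ g₀.left = Sigma.desc (fun i => 𝒰.f i ≫ g₀.left) := by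
      apply Sigma.hom_ext
      intro i
      rw [Sigma.ι_desc, Sigma.ι_desc_assoc]
    rw [e]
    exact K651.Sigma.isSeparated_sigmaDesc _ _ fun i => inferInstance
  · rw [Category.assoc, ← hg₀, Functor.map_comp]

section

variable {P : Sp S} {U Z R : Over S} {p : (yon S).obj U ⟶ P} {q : P ⟶ (yon S).obj Z} {g : U ⟶ Z}
  {s t : R ⟶ U}

/-- equivalence of points over `S` -/
theorem related_iff (sq : IsPullback ((yon S).map t) ((yon S).map s) p p) {T : Scheme.{u}}
    (a b : T ⟶ U.left) :
    NilDesc.Related s.left t.left a b ↔ ∃ (σ : T ⟶ S) (ha : a ≫ U.hom = σ) (hb : b ≫ U.hom = σ),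
      (yon S).map (Over.homMk a ha : Over.mk σ ⟶ U) ≫ p =
        (yon S).map (Over.homMk b hb : Over.mk σ ⟶ U) ≫ p := by
  constructor
  · rintro ⟨r, rfl, rfl⟩
    refine ⟨r ≫ R.hom, by rw [Category.assoc, Over.w t], by rw [Category.assoc, Over.w s], ?_⟩
    let r' : Over.mk (r ≫ R.hom) ⟶ R := Over.homMk r
    have e1 : (Over.homMk (r ≫ t.left) (by rw [Category.assoc, Over.w t]; rfl) : Over.mk (r ≫ R.hom) ⟶ U)
        = r' ≫ t := by
      ext
      simp [r']
    have e2 : (Over.homMk (r ≫ s.left) (by rw [Category.assoc, Over.w s]; rfl) : Over.mk (r ≫ R.hom) ⟶ U)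
        = r' ≫ s := by
      ext
      simp [r']
    rw [e1, e2, Functor.map_comp, Functor.map_comp, Category.assoc, Category.assoc, sq.w]
  · rintro ⟨σ, ha, hb, h⟩
    obtain ⟨r, hr⟩ := (yon S).map_surjective (sq.lift _ _ h)
    have h1 : r ≫ t = Over.homMk a ha := by
      apply (yon S).map_injective
      rw [Functor.map_comp, hr, sq.lift_fst]
    have h2 : r ≫ s = Over.homMk b hb := by
      apply (yon S).map_injective
      rw [Functor.map_comp, hr, sq.lift_snd]
    exact ⟨r.left, congrArg (fun φ => Over.Hom.left φ) h1, congrArg (fun φ => Over.Hom.left φ) h2⟩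

theorem equivalence (sq : IsPullback ((yon S).map t) ((yon S).map s) p p) (T : Scheme.{u}) :
    Equivalence (fun a b : T ⟶ U.left => NilDesc.Related s.left t.left a b) := by
  simp only [related_iff sq]
  refine ⟨fun a => ⟨_, rfl, rfl, rfl⟩, ?_, ?_⟩
  · rintro a b ⟨σ, ha, hb, h⟩
    exact ⟨σ, hb, ha, h.symm⟩
  · rintro a b c ⟨σ, ha, hb, h⟩ ⟨σ', hb', hc', h'⟩
    obtain rfl : σ = σ' := hb.symm.trans hb'
    exact ⟨σ, ha, hc', h.trans h'⟩

theorem hyp (hp : Ch p) (hg : p ≫ q = (yon S).map g) (hsep : IsSeparatedMor q)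
    (hh : IsUnivHomeoMor q) (hgs : IsSeparated g.left)
    (sq : IsPullback ((yon S).map t) ((yon S).map s) p p) :
    NilDesc.Hyp g.left s.left t.left := by
  have hw : t ≫ g = s ≫ g := by
    apply (yon S).map_injective
    rw [Functor.map_comp, Functor.map_comp, ← hg, ← Category.assoc, sq.w, Category.assoc]
  have w : t.left ≫ g.left = s.left ≫ g.left := congrArg (fun φ => Over.Hom.left φ) hw
  -- the test object `U ×_Z U`
  let T : Over S := Over.mk (pullback.fst g.left g.left ≫ U.hom)
  have hT : pullback.snd g.left g.left ≫ U.hom = pullback.fst g.left g.left ≫ U.hom := by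
    rw [← Over.w g, ← Category.assoc, ← Category.assoc, pullback.condition]
  let a : T ⟶ U := Over.homMk (pullback.fst g.left g.left)
  let b : T ⟶ U := Over.homMk (pullback.snd g.left g.left) hT
  have hab : a ≫ g = b ≫ g := by
    ext
    exact pullback.condition
  let e : R ⟶ T := Over.homMk (pullback.lift t.left s.left w) (by
    change pullback.lift t.left s.left w ≫ pullback.fst g.left g.left ≫ U.hom = R.hom
    rw [← Category.assoc, pullback.lift_fst, Over.w t])
  have hea : e ≫ a = t := by
    ext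
    exact pullback.lift_fst _ _ _
  have heb : e ≫ b = s := by
    ext
    exact pullback.lift_snd _ _ _
  have hext : ∀ {T' : Over S} (x y : T' ⟶ T), x ≫ a = y ≫ a → x ≫ b = y ≫ b → x = y := by
    intro T' x y h1 h2
    ext
    apply pullback.hom_ext
    · exact congrArg (fun φ => Over.Hom.left φ) h1
    · exact congrArg (fun φ => Over.Hom.left φ) h2
  have hE : IsEq ((yon S).map a ≫ p) ((yon S).map b ≫ p) e := by
    constructor
    · rw [← Category.assoc, ← Category.assoc, ← Functor.map_comp, ← Functor.map_comp, hea, heb, sq.w]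
    · intro R' r hr
      rw [← Category.assoc, ← Category.assoc, ← Functor.map_comp, ← Functor.map_comp] at hr
      obtain ⟨r', hr'⟩ := (yon S).map_surjective (sq.lift _ _ hr)
      have h1 : r' ≫ t = r ≫ a := by
        apply (yon S).map_injective
        rw [Functor.map_comp, hr', sq.lift_fst]
      have h2 : r' ≫ s = r ≫ b := by
        apply (yon S).map_injective
        rw [Functor.map_comp, hr', sq.lift_snd]
      refine ⟨r', hext _ _ ?_ ?_, ?_⟩
      · rw [Category.assoc, hea, h1]
      · rw [Category.assoc, heb, h2]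
      · intro r'' h''
        apply (yon S).map_injective
        apply sq.hom_ext
        · rw [← Functor.map_comp, ← Functor.map_comp, h1, ← hea, ← Category.assoc]
          exact congrArg (fun φ => (yon S).map (φ ≫ a)) h''
        · rw [← Functor.map_comp, ← Functor.map_comp, h2, ← heb, ← Category.assoc]
          exact congrArg (fun φ => (yon S).map (φ ≫ b)) h''
  have habq : ((yon S).map a ≫ p) ≫ q = ((yon S).map b ≫ p) ≫ q := by
    rw [Category.assoc, Category.assoc, hg, ← Functor.map_comp, ← Functor.map_comp, hab]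
  have hcl : IsClosedImmersion e.left := prop_of_isEq hsep habq hE
  have het : Etale t.left := hp.et.2 p _ t sq.flip
  have hinj : IsUnivInjectiveMor q := fun Z Z' hZ k fst snd sq' =>
    (hh hZ k fst snd sq').injective
  refine ⟨w, equivalence sq, hcl, ⟨fun x => ?_⟩, het, ?_⟩
  · let K : Type u := T.left.residueField x
    let _ : Field K := inferInstanceAs (Field (T.left.residueField x))
    let xm : Spec (.of K) ⟶ T.left := T.left.fromSpecResidueField x
    let xm' : Over.mk (xm ≫ T.hom) ⟶ T := Over.homMk xm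
    obtain ⟨Ω, _, w', k, hk⟩ := K613.Mono.exists_of_univInj hinj (xm ≫ T.hom)
      ((yon S).map xm' ≫ (yon S).map a ≫ p) ((yon S).map xm' ≫ (yon S).map b ≫ p) (by
        rw [Category.assoc, Category.assoc ((yon S).map xm'), habq])
    obtain ⟨r, hr, -⟩ := hE.lift _ (k ≫ xm') (by
      rw [Functor.map_comp, Category.assoc, Category.assoc, hk])
    have hr' : r.left ≫ e.left = k.left ≫ xm := congrArg (fun φ => Over.Hom.left φ) hr
    refine ⟨r.left (IsLocalRing.closedPoint Ω), ?_⟩
    change e.left (r.left (IsLocalRing.closedPoint Ω)) = x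
    rw [← Scheme.Hom.comp_apply, hr', Scheme.Hom.comp_apply]
    exact Scheme.fromSpecResidueField_apply _ _
  · have h1 : t.left = e.left ≫ pullback.fst g.left g.left := (pullback.lift_fst _ _ _).symm
    rw [h1]
    infer_instance

end

/-- **Separated universal homeomorphisms to an affine scheme are integral.** -/
theorem isIntegralMor_of_affine {P : Sp S} (hP : IsAlgSpace P) {Z : Over S} [IsAffine Z.left]
    (q : P ⟶ (yon S).obj Z) (hsep : IsSeparatedMor q) (hh : IsUnivHomeoMor q) :
    IsIntegralMor q := by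
  obtain ⟨U, p, g, hp, hgs, hg⟩ := exists_separated_chart hP q
  obtain ⟨R, t, s, sq⟩ := exists_refine hP.diag (𝟙 P) p p
  rw [Category.comp_id] at sq
  have H := hyp hp hg hsep hh hgs sq
  -- `g` is universally open and surjective
  have hpo : IsUnivOpenMor p :=
    (K596.Univ.repWith_universallyOpen_iff hp.et.1).mp (K596.Univ.repWith_universallyOpen_of_etale hp.et)
  have hqo : IsUnivOpenMor q := fun Z Z' hZ k fst snd sq' => (hh hZ k fst snd sq').isOpenMap
  have hgo : UniversallyOpen g.left := by
    have h1 : IsUnivOpenMor ((yon S).map g) := by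
      rw [← hg]
      exact K608.Comp.isUnivOpenMor_comp hP (IsAlgSpace.yon_obj _) hpo hqo
    have h2 := (K596.Univ.repWith_universallyOpen_iff (representable_yon_map g)).mpr h1
    exact (repWith_yon_map_iff _ _).mp h2
  have hq1 : IsHomeomorph (Points.map q) := hh (IsAlgSpace.yon_obj Z) (𝟙 _) (𝟙 _) q
    (IsPullback.of_horiz_isIso ⟨by simp⟩)
  have hgsurj : Surjective g.left := by
    refine ⟨(K609.Points.surjective_map_yon_map_iff g).mp ?_⟩
    rw [← hg]
    intro z
    obtain ⟨y, rfl⟩ := hq1.surjective z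
    obtain ⟨x, rfl⟩ := K596.Pts.surjective_of_repWith hp.surj y
    exact ⟨x, Points.map_comp _ _ _⟩
  obtain ⟨W₀, w₀, v₀, _, _, _, hvw, hpb⟩ := NilDesc.exists_descent H
  let W : Over S := Over.mk (w₀ ≫ Z.hom)
  let w : W ⟶ Z := Over.homMk w₀
  let v : U ⟶ W := Over.homMk v₀ (by
    change v₀ ≫ w₀ ≫ Z.hom = U.hom
    rw [← Category.assoc, hvw, Over.w g])
  have hvg : v ≫ w = g := by
    ext
    exact hvw
  have sqO : IsPullback t (s ≫ v) g w := by
    refine K596.Univ.isPullback_over ?_ ?_
    · ext
      exact hpb.w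
    · exact hpb
  have sqY : IsPullback ((yon S).map t) ((yon S).map s ≫ (yon S).map v) (p ≫ q) ((yon S).map w) := by
    rw [hg, ← Functor.map_comp]
    exact sqO.map (yon S)
  -- comparison
  have hw1 : RepWith @Etale ((yon S).map w) := (repWith_yon_map_iff _ _).mpr (show Etale w₀ from ‹_›)
  have hw2 : RepWith @Surjective ((yon S).map w) :=
    (repWith_yon_map_iff _ _).mpr (show Surjective w₀ from ‹_›)
  have sqP := IsPullback.of_hasPullback q ((yon S).map w)
  have hc0 : p ≫ q = (yon S).map v ≫ (yon S).map w := by rw [hg, ← Functor.map_comp, hvg]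
  let c : (yon S).obj U ⟶ pullback q ((yon S).map w) := sqP.lift p ((yon S).map v) hc0
  have hc1 : c ≫ pullback.fst q ((yon S).map w) = p := sqP.lift_fst _ _ _
  have hc2 : c ≫ pullback.snd q ((yon S).map w) = (yon S).map v := sqP.lift_snd _ _ _
  have sqL : IsPullback ((yon S).map t) ((yon S).map s ≫ c) p (pullback.fst q ((yon S).map w)) := by
    refine (IsPullback.of_right (h₁₂ := pullback.snd q ((yon S).map w)) (h₂₂ := q)
      (v₁₃ := (yon S).map w) ?_ ?_ sqP.flip).flip
    · rw [Category.assoc, hc2]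
      exact sqY.flip
    · rw [Category.assoc, hc1, sq.w]
  have hcs : FSurj c := by
    have h1 : FSurj ((yon S).map s ≫ c) := hp.fSurj.of_isPullback sqL
    exact h1.of_comp
  have hcm : Mono c := by
    refine mono_of_injective fun T x y hxy => ?_
    have e1 : x ≫ p = y ≫ p := by rw [← hc1, ← Category.assoc, hxy, Category.assoc]
    have e2 : x ≫ (yon S).map v = y ≫ (yon S).map v := by
      rw [← hc2, ← Category.assoc, hxy, Category.assoc]
    have e3 : sq.lift x y e1 = sq.lift x x rfl := by
      apply sqY.hom_ext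
      · rw [sq.lift_fst, sq.lift_fst]
      · rw [← Category.assoc, ← Category.assoc, sq.lift_snd, sq.lift_snd, e2]
    rw [← sq.lift_snd x x rfl, ← e3, sq.lift_snd]
  have hci : IsIso c := hcs.isIso_of_mono
  have sqF : IsPullback p ((yon S).map v) q ((yon S).map w) := by
    rw [← hc1, ← hc2]
    exact K613.Mono.isPullback_iso_comp sqP c
  -- `v` is a universal homeomorphism
  have hv : IsUnivHomeoMor ((yon S).map v) := fun Z' Z'' hZ' k fst snd sq' =>
    hh hZ' _ _ snd (sq'.paste_horiz sqF)
  have hv1 : IsIntegralMor ((yon S).map v) := by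
    have h1 := (K615.Homeo.repWith_isUnivHomeo_iff (representable_yon_map v)).mpr hv
    have h2 : FlatMor.IsUnivHomeo v.left := h1.2 (𝟙 _) (𝟙 _) v
      (IsPullback.of_horiz_isIso ⟨by simp⟩)
    have h3 : IsIntegralHom v.left := Groth.Agent.FlatA.UnivHomeo.isIntegralHom_of_isUnivHomeo h2
    exact K617.FinLoc.isIntegralMor_iff.mpr ((repWith_yon_map_iff _ _).mpr h3)
  refine K617.FinLoc.integral_family (ι := PUnit.{1}) (fun _ => hw1) ?_ (fun _ => sqF) fun _ => hv1
  intro y
  obtain ⟨x, hx⟩ := K596.Pts.surjective_of_repWith hw2 y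
  exact ⟨PUnit.unit, x, hx⟩

/-- **Separated universal homeomorphisms of algebraic spaces are integral.** -/
theorem isIntegralMor {X Y : Sp S} (hX : IsAlgSpace X) (hY : IsAlgSpace Y) (f : X ⟶ Y)
    (hsep : IsSeparatedMor f) (hh : IsUnivHomeoMor f) : IsIntegralMor f := by
  intro Z hZ g
  have sq := IsPullback.of_hasPullback f g
  have hP : IsAlgSpace (pullback f g) :=
    K608.Comp.isAlgSpace_of_isPullback sq hX (IsAlgSpace.yon_obj Z) hY
  have h1 : IsSeparatedMor (pullback.snd f g) := repWith_diagonal_of_isPullback hsep sq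
  have h2 : IsUnivHomeoMor (pullback.snd f g) := fun Z' Z'' hZ' k fst snd sq' =>
    hh hZ' _ _ snd (sq'.paste_horiz sq)
  obtain ⟨W, i, fst, sqW, hW1, hW2⟩ := isIntegralMor_of_affine hP (pullback.snd f g) h1 h2 hZ (𝟙 _)
  refine ⟨W, i, fst ≫ pullback.fst f g, ?_, hW1, hW2⟩
  have := sqW.paste_horiz sq
  rwa [Category.id_comp] at this

end K834.UHSpace
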