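import Groth.Agent.Subtr.K834.Eff
import Groth.Agent.Sga1.EtaleHom
import Groth.Agent.Desc.EtToDD

/-!
# Criterion for a section of a descent datum to be universal

Let `D` be an étale descent datum relative to `p : X ⟶ S`, `t : T ⟶ S`, `v : V ⟶ T` étale and `w` a section
of `D` over `V`. `alpha D v t w : X ×_S V ⟶ D ×_S T`. If it is an isomorphism, then `V` represents the
restriction to `T` of the sections of `D`.
-/

set_option autoImplicit false
set_option backward.isDefEq.respectTransparency false
set_option backward.isDefEq.respectTransparency.types false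
open CategoryTheory CategoryTheory.Limits AlgebraicGeometry Opposite
universe u
open _root_.Desc Groth.Agent.Desc.SecFunctor Groth.Agent.Desc.SecPresheaf
open Groth.Agent.Desc.SecDescent Groth.Agent.Desc.Complement SGA1

namespace K834.Alpha

variable {X S : Scheme.{u}} {p : X ⟶ S} (D : SchDD p)

/-- sections are determined by their universal value -/
theorem ext_uval {T : Over S} {a b : (secFunctor D).obj (op T)} (h : (uval D a).1 = (uval D b).1) :
    a = b := by
  apply ev_ext
  intro Z z x h'
  rw [ev_eq_uval D a z x h', ev_eq_uval D b z x h', h]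

/-- the universal value of a restriction -/
theorem uval_map {T T' : Over S} (f : T' ⟶ T) (a : (secFunctor D).obj (op T)) :
    (uval D ((secFunctor D).map f.op a)).1 =
      pullback.lift (pullback.fst p T'.hom) (pullback.snd p T'.hom ≫ f.left) (by
        rw [pullback.condition, Category.assoc, Over.w f]) ≫ (uval D a).1 := by
  have h' : pullback.fst p T'.hom ≫ p = (pullback.snd p T'.hom ≫ f.left) ≫ T.hom := by
    rw [pullback.condition, Category.assoc, Over.w f]
  exact (congrArg Subtype.val (ev_map f a (pullback.snd p T'.hom) (pullback.fst p T'.hom)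
      pullback.condition h')).trans (ev_eq_uval D a _ _ h')

variable {T V : Scheme.{u}} (v : V ⟶ T) (t : T ⟶ S)
  (w : (secFunctor D).obj (op (Over.mk (v ≫ t))))

/-- the comparison morphism -/
noncomputable def alpha : pullback p (v ≫ t) ⟶ pullback (D.obj.hom ≫ p) t :=
  pullback.lift (uval D w).1 (pullback.snd p (v ≫ t) ≫ v) (by
    have h1 : (uval D w).1 ≫ D.obj.hom = pullback.fst p (v ≫ t) := (uval D w).2
    rw [reassoc_of% h1, pullback.condition, Category.assoc])

@[reassoc (attr := simp)]
theorem alpha_fst : alpha D v t w ≫ pullback.fst _ _ = (uval D w).1 := pullback.lift_fst _ _ _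

@[reassoc (attr := simp)]
theorem alpha_snd : alpha D v t w ≫ pullback.snd _ _ = pullback.snd p (v ≫ t) ≫ v :=
  pullback.lift_snd _ _ _

theorem uval_hom : (uval D w).1 ≫ D.obj.hom = pullback.fst p (v ≫ t) := (uval D w).2

section basechange

variable {T' V' : Scheme.{u}} (b : T' ⟶ T) (v' : V' ⟶ T') (g : V' ⟶ V) (t' : T' ⟶ S)
  (ht : b ≫ t = t') (sq : IsPullback g v' v b)

/-- base change of `X ×_S V` -/
noncomputable def mX (hw : g ≫ v ≫ t = v' ≫ t') : pullback p (v' ≫ t') ⟶ pullback p (v ≫ t) :=
  pullback.lift (pullback.fst _ _) (pullback.snd _ _ ≫ g) (by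
    rw [pullback.condition, Category.assoc, hw])

theorem mX_fst (hw : g ≫ v ≫ t = v' ≫ t') :
    mX (p := p) v t v' g t' hw ≫ pullback.fst p (v ≫ t) = pullback.fst _ _ := pullback.lift_fst _ _ _

theorem mX_snd (hw : g ≫ v ≫ t = v' ≫ t') :
    mX (p := p) v t v' g t' hw ≫ pullback.snd p (v ≫ t) = pullback.snd _ _ ≫ g :=
  pullback.lift_snd _ _ _

/-- base change of `D ×_S T` -/
noncomputable def nD (ht : b ≫ t = t') :
    pullback (D.obj.hom ≫ p) t' ⟶ pullback (D.obj.hom ≫ p) t :=
  pullback.lift (pullback.fst _ _) (pullback.snd _ _ ≫ b) (by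
    rw [pullback.condition, Category.assoc, ht])

theorem isPullback_nD : IsPullback (nD D t b t' ht) (pullback.snd (D.obj.hom ≫ p) t')
    (pullback.snd (D.obj.hom ≫ p) t) b := by
  refine IsPullback.of_right (h₁₂ := pullback.fst (D.obj.hom ≫ p) t) (v₁₃ := D.obj.hom ≫ p)
    (h₂₂ := t) ?_ (pullback.lift_snd _ _ _) (IsPullback.of_hasPullback _ _)
  rw [ht]
  have : nD D t b t' ht ≫ pullback.fst (D.obj.hom ≫ p) t = pullback.fst (D.obj.hom ≫ p) t' :=
    pullback.lift_fst _ _ _
  rw [this]
  exact IsPullback.of_hasPullback _ _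

theorem isPullback_mX (hw : g ≫ v ≫ t = v' ≫ t') :
    IsPullback (mX (p := p) v t v' g t' hw) (pullback.snd p (v' ≫ t')) (pullback.snd p (v ≫ t)) g := by
  refine IsPullback.of_right (h₁₂ := pullback.fst p (v ≫ t)) (v₁₃ := p)
    (h₂₂ := v ≫ t) ?_ (pullback.lift_snd _ _ _) (IsPullback.of_hasPullback _ _)
  rw [hw]
  have : mX (p := p) v t v' g t' hw ≫ pullback.fst p (v ≫ t) = pullback.fst p (v' ≫ t') :=
    pullback.lift_fst _ _ _
  rw [this]
  exact IsPullback.of_hasPullback _ _

include sq in
/-- The comparison morphism of a base change. -/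
theorem isPullback_alpha (hw : g ≫ v ≫ t = v' ≫ t') :
    IsPullback (mX v t v' g t' hw)
      (alpha D v' t' ((secFunctor D).map (Over.homMk g hw : Over.mk (v' ≫ t') ⟶
        Over.mk (v ≫ t)).op w)) (alpha D v t w) (nD D t b t' ht) := by
  refine IsPullback.of_bot (h₃₁ := b) (v₂₁ := pullback.snd (D.obj.hom ≫ p) t')
    (v₂₂ := pullback.snd (D.obj.hom ≫ p) t) ?_ ?_ (isPullback_nD D t b t' ht)
  · rw [alpha_snd, alpha_snd]
    exact (isPullback_mX v t v' g t' hw).paste_vert sq
  · apply pullback.hom_ext
    · rw [Category.assoc, alpha_fst, Category.assoc]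
      have h1 : nD D t b t' ht ≫ pullback.fst (D.obj.hom ≫ p) t = pullback.fst _ _ :=
        pullback.lift_fst _ _ _
      rw [h1, alpha_fst]
      exact (uval_map D (Over.homMk g hw : Over.mk (v' ≫ t') ⟶ Over.mk (v ≫ t)) w).symm
    · rw [Category.assoc, alpha_snd, Category.assoc]
      have h1 : nD D t b t' ht ≫ pullback.snd (D.obj.hom ≫ p) t = pullback.snd _ _ ≫ b :=
        pullback.lift_snd _ _ _
      have h2 : mX (p := p) v t v' g t' hw ≫ pullback.snd p (v ≫ t) = pullback.snd _ _ ≫ g :=
        pullback.lift_snd _ _ _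
      rw [h1, reassoc_of% h2, alpha_snd_assoc, sq.w]

end basechange

/-- If `alpha` is an isomorphism then `V` represents the restriction of the sections. -/
theorem rep_of_isIso (hp : UnivSubmersive p) [Etale D.obj.hom] [Etale v] [IsIso (alpha D v t w)] :
    Nonempty ((restr t (secFunctor D)).RepresentableBy (Over.mk v)) := by
  have hs : Surjective p := Groth.Agent.Sga1.UnivSub.surjective hp
  have hinvs : inv (alpha D v t w) ≫ pullback.snd p (v ≫ t) ≫ v = pullback.snd _ _ := by
    rw [IsIso.inv_comp_eq, alpha_snd]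
  have hinvf : inv (alpha D v t w) ≫ pullback.fst p (v ≫ t) = pullback.fst _ _ ≫ D.obj.hom := by
    rw [IsIso.inv_comp_eq, alpha_fst_assoc, uval_hom]
  let Φ (Y : Over T) (f : Y ⟶ Over.mk v) : (restr t (secFunctor D)).obj (op Y) :=
    (restr t (secFunctor D)).map f.op w
  have hft : ∀ {Y : Over T} (f : Y ⟶ Over.mk v), f.left ≫ v ≫ t = Y.hom ≫ t := by
    intro Y f
    rw [← Over.w f, Category.assoc]
    rfl
  have hΦu : ∀ (Y : Over T) (f : Y ⟶ Over.mk v), (uval D (T := (Over.map t).obj Y) (Φ Y f)).1 =
      mX (p := p) v t Y.hom f.left t (hft f) ≫ (uval D w).1 := fun Y f =>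
    uval_map D ((Over.map t).map f) w
  have hbij : ∀ Y : Over T, Function.Bijective (Φ Y) := by
    intro Y
    constructor
    · intro f g hfg
      apply Over.OverMorphism.ext
      have hf : f.left ≫ v = Y.hom := Over.w f
      have hg : g.left ≫ v = Y.hom := Over.w g
      refine Groth.Agent.Desc.EtToDD.eq_of_surjective_comp (pullback.snd p (Y.hom ≫ t)) v f.left
        g.left (hf.trans hg.symm) ?_
      have h1 := (hΦu Y f).symm.trans ((congrArg (fun a => (uval D (T := (Over.map t).obj Y) a).1)
        hfg).trans (hΦu Y g))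
      have h2 : mX (p := p) v t Y.hom f.left t (hft f) ≫ alpha D v t w =
          mX (p := p) v t Y.hom g.left t (hft g) ≫ alpha D v t w := by
        apply pullback.hom_ext
        · rw [Category.assoc, Category.assoc, alpha_fst]
          exact h1
        · rw [Category.assoc, Category.assoc, alpha_snd, ← Category.assoc, mX_snd, ← Category.assoc,
            mX_snd, Category.assoc, Category.assoc, hf, hg]
      rw [cancel_mono] at h2
      have h3 := congrArg (· ≫ pullback.snd p (v ≫ t)) h2
      simp only [mX_snd] at h3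
      exact h3
    · intro a
      let a' : (secFunctor D).obj (op ((Over.map t).obj Y)) := a
      let β : pullback p (Y.hom ≫ t) ⟶ pullback (D.obj.hom ≫ p) t :=
        pullback.lift (uval D a').1 (pullback.snd p (Y.hom ≫ t) ≫ Y.hom) (by
          have h1 : (uval D a').1 ≫ D.obj.hom = pullback.fst p (Y.hom ≫ t) := (uval D a').2
          rw [reassoc_of% h1, pullback.condition, Category.assoc])
      have hβ1 : β ≫ pullback.fst (D.obj.hom ≫ p) t = (uval D a').1 := pullback.lift_fst _ _ _
      have hβ2 : β ≫ pullback.snd (D.obj.hom ≫ p) t = pullback.snd p (Y.hom ≫ t) ≫ Y.hom :=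
        pullback.lift_snd _ _ _
      have hβD : β ≫ pullback.fst (D.obj.hom ≫ p) t ≫ D.obj.hom = pullback.fst p (Y.hom ≫ t) := by
        rw [reassoc_of% hβ1]
        exact (uval D a').2
      let ω : pullback p (Y.hom ≫ t) ⟶ V := β ≫ inv (alpha D v t w) ≫ pullback.snd p (v ≫ t)
      have hω : ω ≫ v = pullback.snd p (Y.hom ≫ t) ≫ Y.hom := by
        simp only [ω, Category.assoc]
        rw [hinvs, hβ2]
      obtain ⟨g, hg1, hg2⟩ := Groth.Agent.Sga1.EtaleHom.exists_hom_of_compat
        (pullback.snd p (Y.hom ≫ t)) (MorphismProperty.pullback_snd _ _ hp) Y.hom v ω hω (by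
        intro L _ x₀ x₁ hx
        -- two points
        let a₀ := x₀ ≫ pullback.fst p (Y.hom ≫ t)
        let a₁ := x₁ ≫ pullback.fst p (Y.hom ≫ t)
        let y := x₀ ≫ pullback.snd p (Y.hom ≫ t)
        have hy₁ : x₁ ≫ pullback.snd p (Y.hom ≫ t) = y := hx.symm
        let e₀ := x₀ ≫ ω
        have ha₀ : a₀ ≫ p = y ≫ Y.hom ≫ t := by
          simp only [a₀, y, Category.assoc]
          rw [pullback.condition]
        have ha₁ : a₁ ≫ p = y ≫ Y.hom ≫ t := by
          rw [← hy₁]
          simp only [a₁, Category.assoc]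
          rw [pullback.condition]
        have he₀ : e₀ ≫ v = y ≫ Y.hom := by
          simp only [e₀, y, Category.assoc]
          rw [hω]
        have he₀t : y ≫ Y.hom ≫ t = e₀ ≫ v ≫ t := by
          rw [← Category.assoc, ← he₀, Category.assoc]
        have hv₀ : (ev a' y a₀ ha₀).1 = x₀ ≫ (uval D a').1 :=
          ev_comp a' x₀ _ _ _ rfl rfl _
        have hv₁ : (ev a' y a₁ ha₁).1 = x₁ ≫ (uval D a').1 :=
          ev_comp a' x₁ _ _ _ hy₁.symm rfl _
        have hw₀ : (ev w e₀ a₀ (ha₀.trans he₀t)).1 = pullback.lift a₀ e₀ (ha₀.trans he₀t) ≫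
          (uval D w).1 := ev_eq_uval D w _ _ _
        have hw₁ : (ev w e₀ a₁ (ha₁.trans he₀t)).1 = pullback.lift a₁ e₀ (ha₁.trans he₀t) ≫
          (uval D w).1 := ev_eq_uval D w _ _ _
        have k₀ : (pullback.lift a₀ e₀ (ha₀.trans he₀t) : Spec (.of L) ⟶ pullback p (v ≫ t)) =
            x₀ ≫ β ≫ inv (alpha D v t w) := by
          apply pullback.hom_ext
          · rw [pullback.lift_fst, Category.assoc, Category.assoc, hinvf, hβD]
          · rw [pullback.lift_snd]
            simp only [e₀, ω, Category.assoc]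
        have k₁ : (ev w e₀ a₀ (ha₀.trans he₀t)).1 = (ev a' y a₀ ha₀).1 := by
          rw [hw₀, hv₀, k₀, Category.assoc, Category.assoc, ← alpha_fst D v t w,
            IsIso.inv_hom_id_assoc, hβ1]
        have k₂ : ev w e₀ a₀ (ha₀.trans he₀t) = ev a' y a₀ ha₀ := Subtype.ext k₁
        have k₃ : (ev w e₀ a₁ (ha₁.trans he₀t)).1 = (ev a' y a₁ ha₁).1 := by
          rw [← φ_ev w e₀ a₀ a₁ (ha₀.trans he₀t) (ha₁.trans he₀t), ← φ_ev a' y a₀ a₁ ha₀ ha₁, k₂]
        have k₄ : (pullback.lift a₁ e₀ (ha₁.trans he₀t) : Spec (.of L) ⟶ pullback p (v ≫ t)) ≫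
            alpha D v t w = x₁ ≫ β := by
          apply pullback.hom_ext
          · rw [Category.assoc, alpha_fst, ← hw₁, k₃, hv₁, Category.assoc, hβ1]
          · rw [Category.assoc, alpha_snd, pullback.lift_snd_assoc, he₀, Category.assoc x₁ β, hβ2,
              ← Category.assoc x₁, hy₁]
        have k₅ := (IsIso.eq_comp_inv _).mpr k₄
        have k₆ := congrArg (· ≫ pullback.snd p (v ≫ t)) k₅
        simp only [pullback.lift_snd, Category.assoc] at k₆
        exact k₆)
      refine ⟨Over.homMk g hg1, ?_⟩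
      refine ext_uval D (T := (Over.map t).obj Y) (b := a') ?_
      refine (hΦu Y (Over.homMk g hg1)).trans ?_
      have k : mX (p := p) v t Y.hom g t (hft (Over.homMk g hg1 : Y ⟶ Over.mk v)) =
          β ≫ inv (alpha D v t w) := by
        apply pullback.hom_ext
        · rw [mX_fst, Category.assoc, hinvf, hβD]
        · rw [mX_snd, hg2]
          simp only [ω, Category.assoc]
      change mX (p := p) v t Y.hom g t _ ≫ (uval D w).1 = (uval D a').1
      rw [k, Category.assoc, ← alpha_fst D v t w, IsIso.inv_hom_id_assoc, hβ1]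
  exact ⟨{ homEquiv {Y} := Equiv.ofBijective (Φ Y) (hbij Y)
           homEquiv_comp {Y Y'} f g := by
            change (restr t (secFunctor D)).map (f ≫ g).op w =
              (restr t (secFunctor D)).map f.op ((restr t (secFunctor D)).map g.op w)
            rw [op_comp, Functor.map_comp]
            rfl }⟩

end K834.Alpha
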