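import Groth.Agent.Subtr.K834.Eff
import Groth.Agent.Subtr.K834.LocSec
import Groth.Agent.S14773
import Groth.Agent.Sga1.ProperDesc

/-!
# Effectivity for étale separated descent data which need not be quasi-compact
-/

set_option autoImplicit false
set_option backward.isDefEq.respectTransparency false
set_option backward.isDefEq.respectTransparency.types false
open CategoryTheory CategoryTheory.Limits AlgebraicGeometry Opposite
universe u
open _root_.Desc Groth.Agent.Desc.SecFunctor Groth.Agent.Desc.SecPresheaf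
open Groth.Agent.Desc.SecDescent Groth.Agent.Desc.Complement SGA1 K834.EffP Subtr

namespace K834.EffSep

/-- étale and separated -/
abbrev Ps : MorphismProperty Scheme.{u} := @Etale ⊓ @IsSeparated

/-- étale, separated, quasi-compact -/
abbrev Pq : MorphismProperty Scheme.{u} := @Etale ⊓ @IsSeparated ⊓ @QuasiCompact

theorem Ps_le : Ps.{u} ≤ @Etale := fun _ _ _ h => h.1

theorem Pq_le : Pq.{u} ≤ @Etale := fun _ _ _ h => h.1.1

variable {X S : Scheme.{u}} {p : X ⟶ S}

theorem eff_iff_q : Eff Pq p ↔ ∀ (D : SchDD p) [QuasiCompact D.obj.hom] [IsSeparated D.obj.hom]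
    [Etale D.obj.hom], ∃ U : Over S, QuasiCompact U.hom ∧ IsSeparated U.hom ∧ Etale U.hom ∧
      Nonempty ((toDD p).obj U ≅ D) := by
  constructor
  · intro h D h1 h2 h3
    obtain ⟨U, ⟨⟨h4, h5⟩, h6⟩, h7⟩ := h D ⟨⟨h3, h2⟩, h1⟩
    exact ⟨U, h6, h5, h4, h7⟩
  · rintro h D ⟨⟨h3, h2⟩, h1⟩
    obtain ⟨U, h6, h5, h4, h7⟩ := @h D h1 h2 h3
    exact ⟨U, ⟨⟨h4, h5⟩, h6⟩, h7⟩

theorem eff_iff_s : Eff Ps p ↔ ∀ (D : SchDD p) [IsSeparated D.obj.hom] [Etale D.obj.hom],
    ∃ U : Over S, IsSeparated U.hom ∧ Etale U.hom ∧ Nonempty ((toDD p).obj U ≅ D) := by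
  constructor
  · intro h D h2 h3
    obtain ⟨U, ⟨h4, h5⟩, h7⟩ := h D ⟨h3, h2⟩
    exact ⟨U, h5, h4, h7⟩
  · rintro h D ⟨h3, h2⟩
    obtain ⟨U, h5, h4, h7⟩ := @h D h2 h3
    exact ⟨U, ⟨h4, h5⟩, h7⟩

/-- Separated data which are unions of quasi-compact saturated opens. -/
theorem effective_of_saturated (hp : UnivSubmersive p) (h : Eff Pq p) (D : SchDD p)
    (hD : Ps D.obj.hom) (hs : ∀ v : D.obj.left, ∃ W : D.obj.left.Opens, v ∈ W ∧
      QuasiCompact (W.ι ≫ D.obj.hom) ∧ Saturated D W) :
    ∃ U : Over S, Ps U.hom ∧ Nonempty ((toDD p).obj U ≅ D) := by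
  have i1 : Etale D.obj.hom := hD.1
  have i2 : IsSeparated D.obj.hom := hD.2
  choose W hvW hWq hWs using hs
  have key : ∀ v : D.obj.left, Rep Pq (secFunctor (restrictDD D (W v) (hWs v))) := by
    intro v
    refine Rep.of_effective Pq_le hp (h _ ⟨⟨?_, ?_⟩, hWq v⟩)
    · exact inferInstanceAs (Etale ((W v).ι ≫ D.obj.hom))
    · exact inferInstanceAs (IsSeparated ((W v).ι ≫ D.obj.hom))
  choose U hU e using key
  obtain ⟨H, hH, ⟨r⟩⟩ := SatGlue.exists_rep_of_saturated_cover D hp W hWs
    (fun v => ⟨v, hvW v⟩) U (fun v => (e v).some) (fun v => (hU v).1.1)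
  obtain ⟨i⟩ := effective_of_representableBy r
  have hsep : IsSeparated (pullback.fst p H.hom) := by
    have h1 : i.hom.hom.left ≫ D.obj.hom = pullback.fst p H.hom := Over.w i.hom.hom
    have h2 : IsIso i.hom.hom.left := by
      refine ⟨i.inv.hom.left, ?_, ?_⟩
      · exact congrArg (fun f => f.hom.left) i.hom_inv_id
      · exact congrArg (fun f => f.hom.left) i.inv_hom_id
    rw [← h1]
    infer_instance
  exact ⟨H, ⟨hH, SatGlue.isSeparated_of_univSubmersive hp H.hom⟩, ⟨i⟩⟩

/-- Effectivity along proper morphisms of finite presentation over an affine base. -/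
theorem eff_proper_affine {A : Type u} [CommRing A] (p : X ⟶ Spec (CommRingCat.of A)) [IsProper p]
    [Surjective p] [LocallyOfFinitePresentation p] : Eff Ps p := by
  intro D hD
  have i1 : Etale D.obj.hom := hD.1
  have i2 : IsSeparated D.obj.hom := hD.2
  have hXq : QuasiSeparatedSpace X :=
    (quasiSeparated_iff_quasiSeparatedSpace p).mp inferInstance
  refine effective_of_saturated
    (Groth.Agent.Sga1.SecLocal.univSubmersive_of_universallyClosed p)
    (eff_iff_q.mpr (fun D _ _ _ => Groth.Agent.S14773.result p D)) D hD ?_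
  intro v
  obtain ⟨A', q, hq, σ, hσ⟩ := LocSec.exists_etale_section p D v
  have he : Etale (uval D σ).1 := by
    have h1 : (uval D σ).1 ≫ D.obj.hom = pullback.fst p q := (uval D σ).2
    have : Etale ((uval D σ).1 ≫ D.obj.hom) := by rw [h1]; infer_instance
    exact Etale.of_comp _ D.obj.hom
  let W : D.obj.left.Opens := ⟨Set.range (uval D σ).1, (uval D σ).1.isOpenMap.isOpen_range⟩
  have hWc : CompactSpace W.toScheme := by
    refine isCompact_iff_compactSpace.mp ?_
    have : CompactSpace ↥(pullback p (Over.mk q).hom) :=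
      inferInstanceAs (CompactSpace ↥(pullback p q))
    exact isCompact_range (uval D σ).1.continuous
  exact ⟨W, hσ, inferInstance, Sat.saturated_range_uval D σ W rfl⟩

/-- Effectivity along proper surjective morphisms of finite presentation. -/
theorem eff_proper (p : X ⟶ S) [IsProper p] [Surjective p] [LocallyOfFinitePresentation p] :
    Eff Ps p := by
  refine Eff.of_local Ps_le ?_
  intro s
  obtain ⟨A, _, j, _, a, ha⟩ := Groth.Agent.Sga1.ProperDesc.exists_chart s
  exact ⟨_, j, inferInstance, ⟨a, ha⟩, pullback p j, pullback.snd p j, pullback.fst p j,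
    Groth.Agent.Sga1.SecLocal.univSubmersive_of_universallyClosed _, eff_proper_affine _,
    pullback.condition⟩

/-- Effectivity along universally open morphisms between affine schemes, from the quasi-compact
case. -/
theorem eff_open_affine [IsAffine X] [IsAffine S] (p : X ⟶ S) [UniversallyOpen p] [Surjective p]
    (h : Eff Pq p) : Eff Ps p := by
  intro D hD
  have i1 : Etale D.obj.hom := hD.1
  have i2 : IsSeparated D.obj.hom := hD.2
  refine effective_of_saturated
    (Groth.Agent.Sga1.SecLocal.univSubmersive_of_universallyOpen p) h D hD ?_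
  intro v
  obtain ⟨W, h1, h2, h3⟩ := Sat.exists_saturated D v
  have hWc : CompactSpace W.toScheme := isCompact_iff_compactSpace.mp h2
  exact ⟨W, h1, inferInstance, h3⟩

/-- Effectivity along universally open surjective morphisms. -/
theorem eff_open (H : ∀ {X S : Scheme.{u}} (g : X ⟶ S) [QuasiCompact g] (_ : UnivSSubtrusive g),
    Eff Pq g) (p : X ⟶ S) [UniversallyOpen p] [Surjective p] : Eff Ps p := by
  refine Eff.of_local Ps_le ?_
  intro s
  -- an affine chart of `S`, an affine open of its preimage and its image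
  obtain ⟨A, _, j, _, a, ha⟩ := Groth.Agent.Sga1.ProperDesc.exists_chart s
  obtain ⟨x, hx⟩ := (pullback.snd p j).surjective a
  obtain ⟨U, hU, hxU, -⟩ := exists_isAffineOpen_mem_and_subset (X := pullback p j) (x := x)
    (U := ⊤) trivial
  have hop : IsOpenMap (pullback.snd p j) := (pullback.snd p j).isOpenMap
  let V : (Spec (CommRingCat.of A)).Opens := ⟨(pullback.snd p j) '' (U : Set _), hop _ U.2⟩
  have hUV : ∀ y ∈ U, pullback.snd p j y ∈ V := fun y hy => ⟨y, hy, rfl⟩
  let π : U.toScheme ⟶ V.toScheme := IsOpenImmersion.lift V.ι (U.ι ≫ pullback.snd p j) (by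
    rw [Scheme.Opens.range_ι]
    rintro _ ⟨y, rfl⟩
    exact hUV _ y.2)
  have hπ : π ≫ V.ι = U.ι ≫ pullback.snd p j := IsOpenImmersion.lift_fac _ _ _
  have hUaff : IsAffine U.toScheme := hU
  have hπo : UniversallyOpen π := by
    have h1 : UniversallyOpen (π ≫ V.ι) := by rw [hπ]; infer_instance
    exact MorphismProperty.of_postcomp @UniversallyOpen (W' := MorphismProperty.monomorphisms Scheme) π V.ι (inferInstanceAs (Mono V.ι)) h1
  have hπs : Surjective π := by
    refine ⟨fun ⟨v, hv⟩ => ?_⟩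
    obtain ⟨y, hy, rfl⟩ := hv
    refine ⟨⟨y, hy⟩, ?_⟩
    apply V.ι.injective
    rw [← Scheme.Hom.comp_apply, hπ]
    rfl
  refine ⟨V.toScheme, V.ι ≫ j, inferInstance, ?_, U.toScheme, π, U.ι ≫ pullback.fst p j,
    Groth.Agent.Sga1.SecLocal.univSubmersive_of_universallyOpen π, ?_, ?_⟩
  · refine ⟨⟨a, hx ▸ hUV x hxU⟩, ?_⟩
    rw [Scheme.Hom.comp_apply, ← ha]
    rfl
  · -- localize again
    refine Eff.of_local Ps_le ?_
    intro v
    obtain ⟨B, _, i, _, b, hb⟩ := Groth.Agent.Sga1.ProperDesc.exists_chart v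
    refine ⟨_, i, inferInstance, ⟨b, hb⟩, pullback π i, pullback.snd π i, pullback.fst π i,
      Groth.Agent.Sga1.SecLocal.univSubmersive_of_universallyOpen _, ?_, pullback.condition⟩
    have hπa : IsAffineHom π := by
      have : IsAffineHom (π ≫ V.ι) := by rw [hπ]; infer_instance
      exact IsAffineHom.of_comp π V.ι
    have haff : IsAffine (pullback π i) := isAffine_of_isAffineHom (pullback.snd π i)
    exact eff_open_affine (pullback.snd π i) (H _ (Basic.of_universallyOpen _))
  · rw [← Category.assoc, hπ, Category.assoc, Category.assoc, pullback.condition]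

end K834.EffSep
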