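import Groth.Agent.Subtr.K834.SecSpread
import Groth.Agent.Subtr.K834.EffSep
import Groth.Agent.ModPair.K973.EtaleDesc
import Groth.Agent.Ega43.LimitDescendIso
import Groth.Agent.Sga1.LocTriv
import Groth.Agent.S0591

/-!
# Approximation of étale separated quasi-compact descent data

`exists_rep_stage`: let `p : X ⟶ S` be the limit of a cofiltered system `s j : E j ⟶ S` of quasi-compact
quasi-separated schemes with affine transition maps. If `D` is a descent datum relative to `p` with
`D.obj` étale, separated and quasi-compact, and `p` is universally submersive, then the restriction of the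
sections of `D` to some `E j` is represented by an étale, separated, quasi-compact scheme.
-/

set_option autoImplicit false
set_option backward.isDefEq.respectTransparency false
set_option backward.isDefEq.respectTransparency.types false
open CategoryTheory CategoryTheory.Limits AlgebraicGeometry Opposite
universe u
open _root_.Desc Groth.Agent.Desc.SecFunctor Groth.Agent.Desc.SecPresheaf
open Groth.Agent.Desc.SecDescent Groth.Agent.Desc.Complement SGA1
open Groth.Agent.Ega43.LimitDescend K834.EffP K834.EffSep K834.Alpha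

namespace K834.Approx

section alpha

variable {X S : Scheme.{u}} {p : X ⟶ S} (D : SchDD p)

/-- The universal section. -/
noncomputable def univ : (secFunctor D).obj (op (Over.mk (D.obj.hom ≫ p))) :=
  (secPoint D (T := Over.mk (D.obj.hom ≫ p)) D.obj.hom rfl).symm ⟨𝟙 _, Category.id_comp _⟩

theorem ev_univ {Z : Scheme.{u}} (z : Z ⟶ D.obj.left) (x : Z ⟶ X)
    (h : x ≫ p = z ≫ D.obj.hom ≫ p) :
    (ev (univ D) z x h).1 = (D.φ (z ≫ D.obj.hom) x (by rw [Category.assoc, h]) ⟨z, rfl⟩).1 := by
  have h1 : (z ≫ D.obj.hom) ≫ p = z ≫ D.obj.hom ≫ p := Category.assoc _ _ _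
  have h2 : ev (univ D) (𝟙 _) D.obj.hom (Category.id_comp _).symm =
      ⟨𝟙 _, Category.id_comp _⟩ :=
    (secPoint_apply D (T := Over.mk (D.obj.hom ≫ p)) D.obj.hom rfl (univ D)).symm.trans
      (Equiv.apply_symm_apply _ _)
  have h3 : (ev (univ D) z (z ≫ D.obj.hom) h1).1 = z := by
    refine (ev_comp (univ D) z (𝟙 _) D.obj.hom (Category.id_comp _).symm (Category.comp_id _).symm
      rfl h1).trans ?_
    exact (congrArg (fun y => z ≫ y.1) h2).trans (Category.comp_id _)
  have h4 : ev (univ D) z (z ≫ D.obj.hom) h1 = ⟨z, rfl⟩ := Subtype.ext h3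
  rw [← φ_ev (univ D) z (z ≫ D.obj.hom) x h1 h, h4]

theorem alpha_univ : alpha D D.obj.hom p (univ D) =
    (pullbackSymmetry p (D.obj.hom ≫ p)).hom ≫ Sat.θ D := by
  apply pullback.hom_ext
  · rw [alpha_fst, Category.assoc, Sat.θ_fst]
    refine (ev_univ D (pullback.snd p (D.obj.hom ≫ p)) (pullback.fst p (D.obj.hom ≫ p))
      pullback.condition).trans ?_
    rw [← Sat.lift_act D (pullback.snd p (D.obj.hom ≫ p)) (pullback.fst p (D.obj.hom ≫ p))
      pullback.condition.symm]
    congr 1
  · rw [alpha_snd, Category.assoc, Sat.θ_snd, ← Category.assoc, pullbackSymmetry_hom_comp_fst]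

instance isIso_alpha_univ : IsIso (alpha D D.obj.hom p (univ D)) := by
  rw [alpha_univ]
  infer_instance

variable {T V : Scheme.{u}} (v : V ⟶ T) (t : T ⟶ S)
  (w : (secFunctor D).obj (op (Over.mk (v ≫ t))))

theorem alpha_props [Etale D.obj.hom] [IsSeparated D.obj.hom] [Etale v] [QuasiSeparated v]
    [QuasiCompact v] : LocallyOfFinitePresentation (alpha D v t w) ∧
      QuasiCompact (alpha D v t w) ∧ QuasiSeparated (alpha D v t w) := by
  let b : pullback (D.obj.hom ≫ p) t ⟶ pullback p t :=
    pullback.lift (pullback.fst (D.obj.hom ≫ p) t ≫ D.obj.hom) (pullback.snd (D.obj.hom ≫ p) t)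
      (by rw [Category.assoc, pullback.condition])
  have hb := Groth.Agent.Sga1.LocTriv.isPullback_base p D.obj.hom t
  let a : pullback p (v ≫ t) ⟶ pullback p t :=
    pullback.lift (pullback.fst p (v ≫ t)) (pullback.snd p (v ≫ t) ≫ v)
      (by rw [pullback.condition, Category.assoc])
  have ha : IsPullback a (pullback.snd p (v ≫ t)) (pullback.snd p t) v := by
    refine IsPullback.of_right (h₁₂ := pullback.fst p t) (v₁₃ := p)
      (h₂₂ := t) ?_ (pullback.lift_snd _ _ _) (IsPullback.of_hasPullback _ _)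
    have : a ≫ pullback.fst p t = pullback.fst p (v ≫ t) := pullback.lift_fst _ _ _
    rw [this]
    exact IsPullback.of_hasPullback _ _
  have hb1 : Etale b := MorphismProperty.of_isPullback hb inferInstance
  have hb2 : IsSeparated b := MorphismProperty.of_isPullback hb inferInstance
  have ha1 : Etale a := MorphismProperty.of_isPullback ha.flip inferInstance
  have ha2 : QuasiSeparated a := MorphismProperty.of_isPullback ha.flip inferInstance
  have ha3 : QuasiCompact a := MorphismProperty.of_isPullback ha.flip inferInstance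
  have e : alpha D v t w ≫ b = a := by
    apply pullback.hom_ext
    · rw [Category.assoc, pullback.lift_fst, alpha_fst_assoc, uval_hom, pullback.lift_fst]
    · rw [Category.assoc, pullback.lift_snd, alpha_snd, pullback.lift_snd]
  have h1 : Etale (alpha D v t w ≫ b) := by rw [e]; exact ha1
  have h2 : QuasiSeparated (alpha D v t w ≫ b) := by rw [e]; exact ha2
  have h3 : QuasiCompact (alpha D v t w ≫ b) := by rw [e]; exact ha3
  have h4 : Etale (alpha D v t w) := Etale.of_comp _ b
  exact ⟨inferInstance, QuasiCompact.of_comp _ b, QuasiSeparated.of_comp _ b⟩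

end alpha

variable {J : Type u} [SmallCategory J] [IsCofiltered J] (E : J ⥤ Scheme.{u})
  [∀ (i j : J) (φ : i ⟶ j), IsAffineHom (E.map φ)]
  [∀ j, CompactSpace (E.obj j)] [∀ j, QuasiSeparatedSpace (E.obj j)]
  {S : Scheme.{u}} (s : ∀ j, E.obj j ⟶ S) (hs : ∀ {i j : J} (φ : i ⟶ j), E.map φ ≫ s j = s i)
  (c : Cone E) (hc : IsLimit c) (p : c.pt ⟶ S) (hσ : ∀ j, c.π.app j ≫ s j = p)

/-- `Ps` descends along limits. -/
theorem descendsLim_Ps : DescendsLim Ps.{u} :=
  K973.EtaleDesc.descendsLim_inf K973.EtaleDesc.descendsLim_etale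
    Groth.Agent.Sga3.H515.LimSmooth.descendsLim_isSeparated

include hc in
/-- Models of étale separated quasi-compact schemes. -/
theorem exists_model {Y : Scheme.{u}} (f : Y ⟶ c.pt) (hf : Pq f) :
    ∃ (i : J) (V : Scheme.{u}) (v : V ⟶ E.obj i) (g : Y ⟶ V), Pq v ∧
      IsPullback g f v (c.π.app i) := by
  have i1 : Etale f := hf.1.1
  have i2 : IsSeparated f := hf.1.2
  have i3 : QuasiCompact f := hf.2
  obtain ⟨i, V, v, g, hv1, hv2, hv3, sq⟩ := Groth.Agent.S0591.result E c hc Y f
  obtain ⟨j, hj⟩ := descendsLim_Ps (Over.forget i ⋙ E) (overCone c i) (isLimitOverCone c hc i)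
    (fun j => E.map j.hom) (fun φ => overT_w E i φ) v (c.π.app i)
    (fun j => by simp) g f sq hf.1
  have hj' := isPullback_pbCone (fun j : Over i => E.map j.hom) (fun φ => overT_w E i φ) v
    (overCone c i) (c.π.app i) (fun j => by simp) g f sq j
  exact ⟨j.left, _, pullback.snd v (E.map j.hom), _, ⟨hj, inferInstance⟩, hj'⟩

variable {D : SchDD p}

include hs hc hσ in
/-- The universal section is defined over a model. -/
theorem exists_model_section (hD : Pq D.obj.hom) [QuasiCompact p] [QuasiSeparated p] :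
    ∃ (i : J) (V : Scheme.{u}) (v : V ⟶ E.obj i) (g : D.obj.left ⟶ V) (_ : Pq v)
      (_ : IsPullback g D.obj.hom v (c.π.app i)) (w : (secFunctor D).obj (op (Over.mk (v ≫ s i))))
      (hg : g ≫ v ≫ s i = D.obj.hom ≫ p),
      (secFunctor D).map (Over.homMk g hg : Over.mk (D.obj.hom ≫ p) ⟶ Over.mk (v ≫ s i)).op w =
        univ D := by
  have i1 : Etale D.obj.hom := hD.1.1
  obtain ⟨i, V, v, g, hv, sq⟩ := exists_model E c hc D.obj.hom hD
  have hv1 : Etale v := hv.1.1
  have hv2 : IsSeparated v := hv.1.2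
  have hv3 : QuasiCompact v := hv.2
  let t : ∀ j : Over i, (Over.forget i ⋙ E).obj j ⟶ E.obj i := fun j => E.map j.hom
  have ht : ∀ {j k : Over i} (φ : j ⟶ k), (Over.forget i ⋙ E).map φ ≫ t k = t j :=
    fun φ => overT_w E i φ
  have hp' : ∀ j : Over i, (overCone c i).π.app j ≫ t j = c.π.app i := fun j => by simp [t]
  let K := pbDiagram t ht v
  let cK := pbCone t ht v (overCone c i) (c.π.app i) hp' g D.obj.hom sq
  have hcK : IsLimit cK := isLimitPbCone t ht v (overCone c i) (c.π.app i) hp' g D.obj.hom sq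
    (isLimitOverCone c hc i)
  let sK : ∀ j : Over i, K.obj j ⟶ S := fun j => pullback.snd v (t j) ≫ s j.left
  have hsK : ∀ {j k : Over i} (φ : j ⟶ k), K.map φ ≫ sK k = sK j := by
    intro j k φ
    have e : K.map φ ≫ pullback.snd v (t k) = pullback.snd v (t j) ≫ (Over.forget i ⋙ E).map φ :=
      pullback.lift_snd _ _ _
    simp only [sK]
    rw [reassoc_of% e]
    congr 1
    exact hs φ.left
  have hcK2 : ∀ j, cK.π.app j ≫ pullback.snd v (t j) = D.obj.hom ≫ (overCone c i).π.app j :=
    fun j => pullback.lift_snd _ _ _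
  have hσK : ∀ j, cK.π.app j ≫ sK j = D.obj.hom ≫ p := by
    intro j
    simp only [sK]
    rw [reassoc_of% (hcK2 j)]
    congr 1
    exact hσ j.left
  obtain ⟨j, w, hw⟩ := SecSpread.exists_section_of_limit K sK hsK cK (D.obj.hom ≫ p) hσK p D hcK
    (univ D)
  refine ⟨j.left, K.obj j, pullback.snd v (t j), cK.π.app j, ?_,
    isPullback_pbCone t ht v (overCone c i) (c.π.app i) hp' g D.obj.hom sq j, w, hσK j, hw⟩
  exact Pq.{u}.pullback_snd v (t j) hv

include hs hc hσ in
/-- Representability at a finite stage. -/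
theorem exists_rep_stage (hp : UnivSubmersive p) (hD : Pq D.obj.hom) [QuasiCompact p]
    [QuasiSeparated p] : ∃ j, Rep Pq (restr (s j) (secFunctor D)) := by
  have i1 : Etale D.obj.hom := hD.1.1
  have i2 : IsSeparated D.obj.hom := hD.1.2
  have i3 : QuasiCompact D.obj.hom := hD.2
  obtain ⟨i, V, v, g, hv, sq, w, hg, hw⟩ := exists_model_section E s hs c hc p hσ hD
  have hv1 : Etale v := hv.1.1
  have hv2 : IsSeparated v := hv.1.2
  have hv3 : QuasiCompact v := hv.2
  obtain ⟨ha1, ha2, ha3⟩ := alpha_props D v (s i) w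
  -- the diagram `D ×_S E_j`
  let t : ∀ j : Over i, (Over.forget i ⋙ E).obj j ⟶ S := fun j => s j.left
  have ht : ∀ {j k : Over i} (φ : j ⟶ k), (Over.forget i ⋙ E).map φ ≫ t k = t j :=
    fun φ => hs φ.left
  have hp' : ∀ j : Over i, (overCone c i).π.app j ≫ t j = p := fun j => hσ j.left
  have hqc : QuasiCompact (D.obj.hom ≫ p) := inferInstance
  have hqs : QuasiSeparated (D.obj.hom ≫ p) := inferInstance
  let K := pbDiagram t ht (D.obj.hom ≫ p)
  let cK := pbCone t ht (D.obj.hom ≫ p) (overCone c i) p hp' (pullback.fst _ _) (pullback.snd _ _)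
    (IsPullback.of_hasPullback (D.obj.hom ≫ p) p)
  have hcK : IsLimit cK := isLimitPbCone t ht (D.obj.hom ≫ p) (overCone c i) p hp'
    (pullback.fst _ _) (pullback.snd _ _) (IsPullback.of_hasPullback (D.obj.hom ≫ p) p)
    (isLimitOverCone c hc i)
  have hts : ∀ j : Over i, E.map j.hom ≫ s i = s j.left := fun j => hs j.hom
  let tK : ∀ j : Over i, K.obj j ⟶ pullback (D.obj.hom ≫ p) (s i) :=
    fun j => nD D (s i) (E.map j.hom) (s j.left) (hts j)
  have htK1 : ∀ j, tK j ≫ pullback.fst _ _ = pullback.fst (D.obj.hom ≫ p) (s j.left) :=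
    fun j => pullback.lift_fst _ _ _
  have htK2 : ∀ j, tK j ≫ pullback.snd _ _ = pullback.snd (D.obj.hom ≫ p) (s j.left) ≫ E.map j.hom :=
    fun j => pullback.lift_snd _ _ _
  have htK : ∀ {j k : Over i} (φ : j ⟶ k), K.map φ ≫ tK k = tK j := by
    intro j k φ
    have e1 : K.map φ ≫ pullback.fst (D.obj.hom ≫ p) (s k.left) = pullback.fst _ _ :=
      pullback.lift_fst _ _ _
    have e2 : K.map φ ≫ pullback.snd (D.obj.hom ≫ p) (s k.left) =
      pullback.snd _ _ ≫ E.map φ.left := pullback.lift_snd _ _ _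
    apply pullback.hom_ext
    · rw [Category.assoc, htK1, htK1, e1]
    · rw [Category.assoc, htK2, htK2, reassoc_of% e2, ← E.map_comp, Over.w φ]
  let pK : pullback (D.obj.hom ≫ p) p ⟶ pullback (D.obj.hom ≫ p) (s i) :=
    nD D (s i) (c.π.app i) p (hσ i)
  have hpK : ∀ j, cK.π.app j ≫ tK j = pK := by
    intro j
    have e1 : cK.π.app j ≫ pullback.fst (D.obj.hom ≫ p) (s j.left) = pullback.fst _ _ :=
      pullback.lift_fst _ _ _
    have e2 : cK.π.app j ≫ pullback.snd (D.obj.hom ≫ p) (s j.left) =
      pullback.snd _ _ ≫ c.π.app j.left := pullback.lift_snd _ _ _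
    have e3 : pK ≫ pullback.fst _ _ = pullback.fst _ _ := pullback.lift_fst _ _ _
    have e4 : pK ≫ pullback.snd _ _ = pullback.snd _ _ ≫ c.π.app i := pullback.lift_snd _ _ _
    apply pullback.hom_ext
    · rw [Category.assoc, htK1, e1, e3]
    · rw [Category.assoc, htK2, reassoc_of% e2, e4, c.w]
  have hsq : IsPullback (mX v (s i) D.obj.hom g p hg) (alpha D D.obj.hom p (univ D))
      (alpha D v (s i) w) pK := by
    rw [← hw]
    exact isPullback_alpha D v (s i) w (c.π.app i) D.obj.hom g p (hσ i) sq hg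
  obtain ⟨j, hj⟩ := Groth.Agent.Ega43.LimitDescendIso.descendsLim_isomorphisms K cK hcK tK htK
    (alpha D v (s i) w) pK hpK (mX v (s i) D.obj.hom g p hg) (alpha D D.obj.hom p (univ D)) hsq
    (MorphismProperty.isomorphisms.infer_property _)
  have hj' : IsIso (pullback.snd (alpha D v (s i) w) (tK j)) := hj
  -- the model over `j`
  have hgj : pullback.fst v (E.map j.hom) ≫ v ≫ s i = pullback.snd v (E.map j.hom) ≫ s j.left := by
    rw [pullback.condition_assoc, hts]
  have hsq' := isPullback_alpha D v (s i) w (E.map j.hom) (pullback.snd v (E.map j.hom))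
    (pullback.fst v (E.map j.hom)) (s j.left) (hts j) (IsPullback.of_hasPullback _ _) hgj
  let w' : (secFunctor D).obj (op (Over.mk (pullback.snd v (E.map j.hom) ≫ s j.left))) :=
    (secFunctor D).map (Over.homMk (pullback.fst v (E.map j.hom)) hgj :
      Over.mk (pullback.snd v (E.map j.hom) ≫ s j.left) ⟶ Over.mk (v ≫ s i)).op w
  have hiso : IsIso (alpha D (pullback.snd v (E.map j.hom)) (s j.left) w') := by
    have e := hsq'.isoPullback_hom_snd
    rw [← e]
    have : IsIso (pullback.snd (alpha D v (s i) w) (nD D (s i) (E.map j.hom) (s j.left) (hts j))) :=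
      hj'
    infer_instance
  exact ⟨j.left, _, Pq.{u}.pullback_snd v (E.map j.hom) hv,
    rep_of_isIso D (pullback.snd v (E.map j.hom)) (s j.left) w' hp⟩

end K834.Approx
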