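import Groth.Agent.Subtr.K834.SatGlue
import Groth.Agent.Subtr.K834.Subm

/-!
# Effectivity: refinement, composition, localization on the base

`Eff P p`: every descent datum relative to `p` whose underlying scheme has `P` is effective, with result
having `P`.
-/

set_option autoImplicit false
set_option backward.isDefEq.respectTransparency false
set_option backward.isDefEq.respectTransparency.types false
open CategoryTheory CategoryTheory.Limits AlgebraicGeometry Opposite
universe u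
open _root_.Desc Groth.Agent.Desc.SecFunctor Groth.Agent.Desc.SecPresheaf
open Groth.Agent.Desc.SecDescent SGA1

namespace K834.EffP

/-- Effectivity of descent data with property `P`. -/
def Eff (P : MorphismProperty Scheme.{u}) {X S : Scheme.{u}} (p : X ⟶ S) : Prop :=
  ∀ D : SchDD p, P D.obj.hom → ∃ U : Over S, P U.hom ∧ Nonempty ((toDD p).obj U ≅ D)

/-- representability by a scheme with `P`. -/
def Rep (P : MorphismProperty Scheme.{u}) {S : Scheme.{u}} (F : (Over S)ᵒᵖ ⥤ Type u) : Prop :=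
  ∃ U : Over S, P U.hom ∧ Nonempty (F.RepresentableBy U)

variable {P : MorphismProperty Scheme.{u}} {X S : Scheme.{u}} {p : X ⟶ S}

theorem Rep.of_iso {F F' : (Over S)ᵒᵖ ⥤ Type u} (h : Rep P F) (e : F ≅ F') : Rep P F' := by
  obtain ⟨U, hU, ⟨r⟩⟩ := h
  exact ⟨U, hU, ⟨r.ofIso e⟩⟩

/-- restriction along the identity -/
def restrIdIso (F : (Over S)ᵒᵖ ⥤ Type u) : restr (𝟙 S) F ≅ F :=
  NatIso.ofComponents (fun Y => F.mapIso (Over.isoMk (Iso.refl _) (by simp) :
    Y.unop ≅ (Over.map (𝟙 S)).obj Y.unop).op) (by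
    intro Y Y' f
    simp only [Functor.comp_map, Functor.op_map, Functor.mapIso_hom, Iso.op_hom, ← F.map_comp,
      ← op_comp]
    congr 2)

theorem Rep.restrict [P.IsStableUnderBaseChange] {S' : Scheme.{u}} (q : S' ⟶ S)
    {F : (Over S)ᵒᵖ ⥤ Type u} (h : Rep P F) : Rep P (restr q F) := by
  obtain ⟨U, hU, ⟨r⟩⟩ := h
  exact ⟨(Over.pullback q).obj U, P.pullback_snd _ _ hU, ⟨pullRep q r⟩⟩

theorem Rep.of_restr_iso [P.IsStableUnderBaseChange] {S' : Scheme.{u}} (i : S' ≅ S)
    {F : (Over S)ᵒᵖ ⥤ Type u} (h : Rep P (restr i.hom F)) : Rep P F :=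
  ((h.restrict i.inv).of_iso (restrCompIso i.inv_hom_id F)).of_iso (restrIdIso F)

/-- An effective descent datum has representable sections. -/
theorem Rep.of_effective (hP : P ≤ @Etale) (hp : UnivSubmersive p) {D : SchDD p}
    (h : ∃ U : Over S, P U.hom ∧ Nonempty ((toDD p).obj U ≅ D)) : Rep P (secFunctor D) := by
  obtain ⟨U, hU, ⟨i⟩⟩ := h
  have : Etale U.hom := hP _ hU
  exact ⟨U, hU, ⟨Groth.Agent.Sga1.SecLocal.representableByOfIso
    (Groth.Agent.Sga1.SecLocal.map_bijective p hp · U) i⟩⟩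

theorem Rep.effective {D : SchDD p} (h : Rep P (secFunctor D)) :
    ∃ U : Over S, P U.hom ∧ Nonempty ((toDD p).obj U ≅ D) := by
  obtain ⟨U, hU, ⟨r⟩⟩ := h
  exact ⟨U, hU, effective_of_representableBy r⟩

/-- If a `p`-sheaf `F` becomes representable over `X` and `p` is effective then `F` is
representable. -/
theorem Eff.rep (hP : P ≤ @Etale) (hp : UnivSubmersive p) (h : Eff P p) {F : (Over S)ᵒᵖ ⥤ Type u}
    (hF : IsPSheaf p F) (hX : Rep P (restr p F)) : Rep P F := by
  obtain ⟨V, hV, ⟨e⟩⟩ := hX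
  exact (Rep.of_effective hP hp (h (ofPresheaf e) hV)).of_iso (isoSec e hF).symm

/-- the sheaf condition of the sections of an étale descent datum over a base `T ⟶ S`. -/
theorem isPSheaf_restr_sec (hP : P ≤ @Etale) {D : SchDD p} (hD : P D.obj.hom) {T Y : Scheme.{u}}
    (q : T ⟶ S) {π : Y ⟶ T} (hπ : UnivSubmersive π) :
    IsPSheaf π (restr q (secFunctor D)) := by
  have : Etale D.obj.hom := hP _ hD
  intro Z
  refine IsDesc.restr _ ?_
  refine Groth.Agent.Sga1.SecEtale.isDesc_of_univSubmersive D _ ?_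
  exact MorphismProperty.pullback_snd _ _ hπ

/-- Local representability of the sections from effectivity of a morphism dominating `p`. -/
theorem rep_restr_of_refine [P.IsStableUnderBaseChange] (hP : P ≤ @Etale) {D : SchDD p}
    (hD : P D.obj.hom) {T Y : Scheme.{u}} (q : T ⟶ S) (π : Y ⟶ T) (hπ : UnivSubmersive π)
    (h : Eff P π) (r : Y ⟶ X) (hr : r ≫ p = π ≫ q) : Rep P (restr q (secFunctor D)) := by
  refine h.rep hP hπ (isPSheaf_restr_sec hP hD q hπ) ?_
  exact ⟨(Over.pullback r).obj D.obj, P.pullback_snd _ _ hD,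
    ⟨pullRepSq (q := q) (a := r) hr.symm (restrRep D)⟩⟩

/-- Refinement. -/
theorem Eff.refine [P.IsStableUnderBaseChange] (hP : P ≤ @Etale) {Y : Scheme.{u}} (π : Y ⟶ S)
    (hπ : UnivSubmersive π) (h : Eff P π) (r : Y ⟶ X) (hr : r ≫ p = π) : Eff P p := by
  intro D hD
  refine Rep.effective (Rep.of_iso ?_ (restrIdIso _))
  exact rep_restr_of_refine hP hD (𝟙 S) π hπ h r (by rw [hr, Category.comp_id])

/-- Composition. -/
theorem Eff.comp [P.IsStableUnderBaseChange] (hP : P ≤ @Etale) {Y : Scheme.{u}} (f : X ⟶ Y)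
    (g : Y ⟶ S) (hf : UnivSubmersive f) (hg : UnivSubmersive g) (h : Eff P f) (h' : Eff P g) :
    Eff P (f ≫ g) := by
  intro D hD
  apply Rep.effective
  have h1 : Rep P (restr g (secFunctor D)) :=
    rep_restr_of_refine hP hD g f hf h (𝟙 X) (Category.id_comp _)
  have h2 : IsPSheaf g (restr (𝟙 S) (secFunctor D)) := isPSheaf_restr_sec hP hD (𝟙 S) hg
  refine Rep.of_iso ?_ (restrIdIso _)
  refine h'.rep hP hg h2 ?_
  exact h1.of_iso (restrCompIso (Category.comp_id g) (secFunctor D)).symm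

/-- Localization on the base. -/
theorem Eff.of_local [P.IsStableUnderBaseChange] [IsZariskiLocalAtTarget P] (hP : P ≤ @Etale)
    (H : ∀ s : S, ∃ (T : Scheme.{u}) (j : T ⟶ S) (_ : IsOpenImmersion j) (_ : s ∈ Set.range j)
      (Y : Scheme.{u}) (π : Y ⟶ T) (r : Y ⟶ X), UnivSubmersive π ∧ Eff P π ∧ r ≫ p = π ≫ j) :
    Eff P p := by
  intro D hD
  apply Rep.effective
  have key : ∀ s : S, ∃ W : S.Opens, s ∈ W ∧ Rep P (restr W.ι (secFunctor D)) := by
    intro s
    obtain ⟨T, j, _, hs, Y, π, r, hπ, h, hr⟩ := H s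
    refine ⟨j.opensRange, hs, ?_⟩
    have h1 := rep_restr_of_refine hP hD j π hπ h r hr
    let i : j.opensRange.toScheme ≅ T := (Scheme.Hom.isoOpensRange j).symm
    have hi : i.hom ≫ j = j.opensRange.ι := by
      rw [← Iso.eq_inv_comp]
      exact (Scheme.Hom.isoOpensRange_hom_ι j).symm
    exact (h1.restrict i.hom).of_iso (restrCompIso hi _)
  choose W hsW hW using key
  choose U hU e using hW
  obtain ⟨H, hH, r⟩ := Groth.Agent.Desc.ZarGlue.exists_rep_of_openCover_prop W
    (fun s => ⟨s, hsW s⟩) U (fun s => (e s).some)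
    (Groth.Agent.Desc.ZarSec.isZarSheaf_secFunctor D) P hU
  exact ⟨H, hH, r⟩

end K834.EffP
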