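import Groth.Agent.Subtr.K834.Obs
import Groth.Agent.Subtr.K834.Subm
import Groth.Agent.Ega43.DvrScheme
import Mathlib.AlgebraicGeometry.PullbackCarrier
import Mathlib.AlgebraicGeometry.AffineSpace
import Mathlib.AlgebraicGeometry.Morphisms.Etale
import Mathlib.AlgebraicGeometry.Noetherian

/-!
# Testing universal S-subtrusiveness of quasi-compact morphisms on finite type algebras
-/

set_option autoImplicit false
set_option backward.isDefEq.respectTransparency false
set_option backward.isDefEq.respectTransparency.types false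

universe u

open CategoryTheory CategoryTheory.Limits AlgebraicGeometry Subtr IsLocalRing TensorProduct

namespace K834.Tests

open K834.Basic K834.Val K834.Obs K834.Subm

/-- An affine étale surjective atlas of a quasi-compact scheme. -/
theorem exists_atlas (X : Scheme.{u}) [CompactSpace X] :
    ∃ (R : Type u) (_ : CommRing R) (g : Spec (CommRingCat.of R) ⟶ X), Etale g ∧ Surjective g := by
  let 𝒰 : X.OpenCover := X.affineCover.finiteSubcover
  have h1 : Etale (Sigma.desc 𝒰.f) := IsZariskiLocalAtSource.sigmaDesc (fun i => inferInstance)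
  have h2 : Surjective (Sigma.desc 𝒰.f) := inferInstance
  have h3 : IsAffine (∐ 𝒰.X) := inferInstance
  exact ⟨Γ(∐ 𝒰.X, ⊤), inferInstance, (∐ 𝒰.X).isoSpec.inv ≫ Sigma.desc 𝒰.f, inferInstance,
    inferInstance⟩

section chart

variable {X Y : Scheme.{u}} (f : X ⟶ Y)

/-- An affine chart of a morphism: an affine open of the target and an affine étale atlas of the
preimage. -/
structure Chart where
  /-- coordinate ring of the target -/
  A : Type u
  [crA : CommRing A]
  /-- chart of the target -/
  j : Spec (CommRingCat.of A) ⟶ Y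
  [openj : IsOpenImmersion j]
  /-- coordinate ring of the source -/
  B : Type u
  [crB : CommRing B]
  [algB : Algebra A B]
  /-- chart of the source -/
  k : Spec (CommRingCat.of B) ⟶ pullback f j
  [etk : Etale k]
  [surjk : Surjective k]
  w : k ≫ pullback.snd f j = Spec.map (CommRingCat.ofHom (algebraMap A B))

attribute [instance] Chart.crA Chart.openj Chart.crB Chart.algB Chart.etk Chart.surjk

/-- Charts exist at all points. -/
theorem exists_chart [QuasiCompact f] (y : Y) : ∃ c : Chart f, y ∈ Set.range c.j := by
  obtain ⟨_, ⟨W, hW, rfl⟩, hyW, -⟩ := Y.isBasis_affineOpens.exists_subset_of_mem_open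
        (Set.mem_univ y) isOpen_univ
  have h1 : y ∈ Set.range hW.fromSpec := by rw [hW.range_fromSpec]; exact hyW
  have h2 : CompactSpace ↥(pullback f hW.fromSpec) :=
    QuasiCompact.compactSpace_of_compactSpace (pullback.snd f hW.fromSpec)
  obtain ⟨B, _, k, _, _⟩ := exists_atlas (pullback f hW.fromSpec)
  obtain ⟨φ, hφ⟩ := Spec.map_surjective (k ≫ pullback.snd f hW.fromSpec)
  let _ : Algebra Γ(Y, W) B := φ.hom.toAlgebra
  exact ⟨{ A := Γ(Y, W), j := hW.fromSpec, B := B, k := k, w := hφ.symm }, h1⟩

variable {f}

/-- A lifting of specializations after base change to `D` gives a lifting in a chart. -/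
theorem Chart.lift_of (c : Chart f) (D : Type u) [CommRing D] [Algebra c.A D] [IsDomain D]
    (h : IsSSubtrusive (pullback.snd f
      (Spec.map (CommRingCat.ofHom (algebraMap c.A D)) ≫ c.j))) (P : PrimeSpectrum D) :
    Lift (A := c.A) c.B D P := by
  apply lift_of_isSSubtrusive
  let d := Spec.map (CommRingCat.ofHom (algebraMap c.A D))
  let b := Spec.map (CommRingCat.ofHom (algebraMap c.A c.B))
  change IsSSubtrusive (pullback.snd b d)
  -- the map `Spec B ×_A Spec D ⟶ X ×_Y Spec D` is étale and surjective
  let t : pullback b d ⟶ pullback f (d ≫ c.j) :=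
    pullback.lift (pullback.fst b d ≫ c.k ≫ pullback.fst f c.j) (pullback.snd b d) (by
      rw [Category.assoc, Category.assoc, pullback.condition, ← Category.assoc c.k, c.w,
        ← Category.assoc, ← Category.assoc, pullback.condition])
  have ht : t ≫ pullback.snd f (d ≫ c.j) = pullback.snd b d := pullback.lift_snd _ _ _
  -- `X ×_Y Spec D ≅ X_A ×_A Spec D`
  let r : pullback f (d ≫ c.j) ⟶ pullback f c.j :=
    pullback.lift (pullback.fst _ _) (pullback.snd _ _ ≫ d) (by
      rw [pullback.condition, Category.assoc])
  have hr : IsPullback r (pullback.snd f (d ≫ c.j)) (pullback.snd f c.j) d := by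
    refine IsPullback.of_right (h₁₂ := pullback.fst f c.j) (v₁₃ := f) (h₂₂ := c.j) ?_ ?_
      (IsPullback.of_hasPullback f c.j)
    · have : r ≫ pullback.fst f c.j = pullback.fst f (d ≫ c.j) := pullback.lift_fst _ _ _
      rw [this]
      exact IsPullback.of_hasPullback f (d ≫ c.j)
    · exact pullback.lift_snd _ _ _
  have hp : IsPullback (pullback.fst b d) t c.k r := by
    refine IsPullback.of_bot (v₂₁ := pullback.snd f (d ≫ c.j)) (v₂₂ := pullback.snd f c.j)
      (h₃₁ := d) ?_ ?_ hr
    · rw [ht, c.w]
      exact IsPullback.of_hasPullback b d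
    · apply pullback.hom_ext
      · simp [t, r]
      · simp only [t, r, Category.assoc, c.w, pullback.lift_snd, pullback.lift_snd_assoc]
        exact pullback.condition
  have h1 : Flat t := MorphismProperty.of_isPullback hp (P := @Flat) inferInstance
  have h2 : Surjective t := MorphismProperty.of_isPullback hp (P := @Surjective) inferInstance
  rw [← ht]
  exact isSSubtrusive_comp (isSSubtrusive (of_flat t)) h

/-- Reduction to finite type algebras over charts. -/
theorem univSSubtrusive_of_not_obs [QuasiCompact f]
    (H : ∀ (c : Chart f) (D : Type u) [CommRing D] [Algebra c.A D] [IsDomain D]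
      [Algebra.FiniteType c.A D] (P : PrimeSpectrum D), ¬ Obs (A := c.A) c.B D P.asIdeal) :
    UnivSSubtrusive f := by
  rw [univSSubtrusive_iff_forall_valuationRing]
  intro V _ _ _ g
  obtain ⟨c, hc⟩ := exists_chart f (g (closedPoint V))
  have hr : Set.range g ⊆ Set.range c.j := by
    rintro _ ⟨v, rfl⟩
    exact ((specializes_closedPoint (R := V) v).map g.continuous).mem_open
      c.j.isOpenEmbedding.isOpen_range hc
  let g' := IsOpenImmersion.lift c.j g hr
  have hg' : g' ≫ c.j = g := IsOpenImmersion.lift_fac _ _ _
  obtain ⟨φ, hφ⟩ := Spec.map_surjective g'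
  let _ : Algebra c.A V := φ.hom.toAlgebra
  have hφ' : Spec.map (CommRingCat.ofHom (algebraMap c.A V)) = g' := hφ
  by_contra hcon
  have h1 : ¬ Lift (A := c.A) c.B V (closedPoint V) := by
    intro hl
    apply hcon
    have h2 := isSSubtrusive_of_lift c.B V hl
    let d := Spec.map (CommRingCat.ofHom (algebraMap c.A V))
    let b := Spec.map (CommRingCat.ofHom (algebraMap c.A c.B))
    let t : pullback b d ⟶ pullback f g :=
      pullback.lift (pullback.fst b d ≫ c.k ≫ pullback.fst f c.j) (pullback.snd b d) (by
        rw [Category.assoc, Category.assoc, pullback.condition, ← Category.assoc c.k, c.w, ← hg',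
          ← hφ', ← Category.assoc, ← Category.assoc, pullback.condition])
    have ht : t ≫ pullback.snd f g = pullback.snd b d := pullback.lift_snd _ _ _
    have h3 : IsSSubtrusive (t ≫ pullback.snd f g) := by rw [ht]; exact h2
    exact isSSubtrusive_of_comp _ _ h3
  obtain ⟨D, hD, hobs⟩ := exists_subalgebra_obs c.B V (obs_of_not_lift c.B V h1)
  have : Algebra.FiniteType c.A D := ⟨Subalgebra.fg_top D |>.mpr hD⟩
  exact H c D ⟨(maximalIdeal V).comap D.val, inferInstance⟩ hobs

end chart

/-- S-subtrusiveness over a subspace. -/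
theorem isSSubtrusive_of_isPullback {X Y X' Y' : Scheme.{u}} {f : X ⟶ Y} {f' : X' ⟶ Y'} {i : X' ⟶ X}
    {m : Y' ⟶ Y} (h : IsPullback i f' f m) [IsPreimmersion m] (hf : IsSSubtrusive f) :
    IsSSubtrusive f' := by
  intro z z' hz
  obtain ⟨x, x', hx, h1, h2⟩ := hf (hz.map m.continuous)
  have hi : IsPreimmersion i := MorphismProperty.of_isPullback h.flip (P := @IsPreimmersion)
    inferInstance
  have key : ∀ (x : X) (z : Y'), f x = m z → ∃ w : X', i w = x ∧ f' w = z := by
    intro x z hxz
    obtain ⟨w, hw1, hw2⟩ := Scheme.Pullback.exists_preimage_pullback (f := f) (g := m) x z hxz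
    refine ⟨h.isoPullback.inv w, ?_, ?_⟩
    · rw [← Scheme.Hom.comp_apply, h.isoPullback_inv_fst, hw1]
    · rw [← Scheme.Hom.comp_apply, h.isoPullback_inv_snd, hw2]
  obtain ⟨w, hw1, hw2⟩ := key x z h1
  obtain ⟨w', hw1', hw2'⟩ := key x' z' h2
  refine ⟨w, w', ?_, hw2, hw2'⟩
  rw [← i.isEmbedding.isInducing.specializes_iff, hw1, hw1']
  exact hx

/-- Over a locally Noetherian base, S-subtrusiveness of quasi-compact morphisms can be tested on
discrete valuation rings. -/
theorem univSSubtrusive_of_dvr {X Y : Scheme.{u}} [IsLocallyNoetherian Y] (f : X ⟶ Y)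
    [QuasiCompact f] [Surjective f]
    (H : ∀ (R : Type u) [CommRing R] [IsDomain R] [IsDiscreteValuationRing R]
      (g : Spec (CommRingCat.of R) ⟶ Y), IsSSubtrusive (pullback.snd f g)) : UnivSSubtrusive f := by
  refine univSSubtrusive_of_not_obs ?_
  intro c D _ _ _ _ P hobs
  have hnA : IsNoetherianRing c.A := by
    have h1 : IsLocallyNoetherian (Spec (CommRingCat.of c.A)) :=
      isLocallyNoetherian_of_isOpenImmersion c.j
    exact (isLocallyNoetherian_Spec (R := CommRingCat.of c.A)).mp h1
  have hnD : IsNoetherianRing D := Algebra.FiniteType.isNoetherianRing c.A D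
  have hlnD : IsLocallyNoetherian (Spec (CommRingCat.of D)) :=
    (isLocallyNoetherian_Spec (R := CommRingCat.of D)).mpr hnD
  let d := Spec.map (CommRingCat.ofHom (algebraMap c.A D))
  by_cases hP : P = gpt D
  · -- surjectivity
    subst hP
    refine not_lift_of_obs c.B D _ hobs ?_
    have hs : Surjective (Spec.map (CommRingCat.ofHom (algebraMap D (D ⊗[c.A] c.B)))) := by
      have h1 : Surjective (Spec.map (CommRingCat.ofHom (algebraMap c.A c.B))) := by
        rw [← c.w]; infer_instance
      have := CommRingCat.isPushout_tensorProduct c.A D c.B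
      exact MorphismProperty.of_isPullback (P := @Surjective)
        (isPullback_SpecMap_of_isPushout _ _ _ _ this).flip h1
    obtain ⟨q, hq⟩ := hs.surj (gpt D)
    exact ⟨q, q, le_rfl, hq, hq⟩
  · have hnst : IsNoetherianRing ((Spec (CommRingCat.of D)).presheaf.stalk P) := inferInstance
    obtain ⟨R, _, _, _, _, _, g, hg1, hg2⟩ :=
      Groth.Agent.Ega43.DvrScheme.exists_dvr_of_specializes_of_locallyOfFiniteType
        (𝟙 (Spec (CommRingCat.of D))) (gpt D) (y := P) (gpt_specializes (V := D) P)
        (fun h => hP h.symm)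
    obtain ⟨φ, rfl⟩ := Spec.map_surjective g
    have hgpt : (Spec.map φ) (gpt R) = gpt D := by
      rw [← genPt_eq (V := R) ((Spec (CommRingCat.of D)).residueField (gpt D)),
        ← Scheme.Hom.comp_apply, hg2, Category.comp_id]
      exact Scheme.fromSpecResidueField_apply _ _
    let _ : Algebra c.A R := (φ.hom.comp (algebraMap c.A D)).toAlgebra
    let φ' : D →ₐ[c.A] R := { φ.hom with commutes' := fun _ => rfl }
    have hφinj : Function.Injective φ' := by
      rw [RingHom.injective_iff_ker_eq_bot]
      exact congrArg PrimeSpectrum.asIdeal hgpt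
    have hobsR : Obs (A := c.A) c.B R (closedPoint R).asIdeal := by
      refine obs_map c.B φ' ?_ hφinj hobs
      have : P.asIdeal = (maximalIdeal R).comap φ.hom := (congrArg PrimeSpectrum.asIdeal hg1).symm
      exact this.le
    refine not_lift_of_obs c.B R _ hobsR ?_
    exact c.lift_of R (H R _) _

end K834.Tests
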