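import Groth.Agent.Subtr.K834.Approx
import Groth.Agent.Subtr.K834.EffFp
import Groth.Agent.Subtr.K834.Tests

/-!
# Effectivity for étale separated quasi-compact descent data along quasi-compact universally
S-subtrusive morphisms, from the flattening theorem
-/

set_option autoImplicit false
set_option backward.isDefEq.respectTransparency false
set_option backward.isDefEq.respectTransparency.types false
open CategoryTheory CategoryTheory.Limits AlgebraicGeometry Opposite
universe u
open _root_.Desc Groth.Agent.Desc.SecFunctor Groth.Agent.Desc.SecPresheaf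
open Groth.Agent.Desc.SecDescent SGA1 K834.EffP K834.EffSep K834.EffFp Subtr
open Groth.Agent.Sga1.SectionSpread Groth.Agent.Sga1.FPColim

namespace K834.EffQ

/-- Effectivity between affine schemes. -/
theorem effq_affine (R : Refinement.{u}) (A B : Type u) [CommRing A] [CommRing B] [Algebra A B]
    (h : UnivSSubtrusive (str A B)) : Eff Pq (str A B) := by
  intro D hD
  have hE1 : ∀ (i j : (Idx A B)ᵒᵖ) (φ : i ⟶ j), IsAffineHom ((specDiag A B).map φ) := by
    intro i j φ
    exact inferInstanceAs (IsAffineHom (Spec.map _))
  have hE2 : ∀ j : (Idx A B)ᵒᵖ, CompactSpace ((specDiag A B).obj j) := by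
    intro j
    exact inferInstanceAs (CompactSpace (Spec _))
  have hE3 : ∀ j : (Idx A B)ᵒᵖ, QuasiSeparatedSpace ((specDiag A B).obj j) := by
    intro j
    exact inferInstanceAs (QuasiSeparatedSpace (Spec _))
  let s : ∀ j : (Idx A B)ᵒᵖ, (specDiag A B).obj j ⟶ Spec (CommRingCat.of A) :=
    fun j => str A (Stage j.unop)
  have hs : ∀ {i j : (Idx A B)ᵒᵖ} (φ : i ⟶ j), (specDiag A B).map φ ≫ s j = s i := by
    intro i j φ
    exact sp_str (transA (A := A) A B φ.unop.le)
  have hσ : ∀ j : (Idx A B)ᵒᵖ, (specCone A B).π.app j ≫ s j = str A B := by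
    intro j
    exact sp_str (toCA (A := A) A B j.unop)
  have hp : UnivSubmersive (str A B) := Subm.univSubmersive_of_univSSubtrusive _ h
  let p : (specCone A B).pt ⟶ Spec (CommRingCat.of A) := str A B
  have hp1 : QuasiCompact p := inferInstanceAs (QuasiCompact (str A B))
  have hp2 : QuasiSeparated p := inferInstanceAs (QuasiSeparated (str A B))
  obtain ⟨j, hj⟩ := Approx.exists_rep_stage (specDiag A B) s hs (specCone A B)
    (isLimitSpecCone A B) p hσ (D := D) hp hD
  have hsj : UnivSSubtrusive (s j) := by
    refine Basic.of_comp ((specCone A B).π.app j) (s j) ?_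
    rw [hσ j]
    exact h
  have hfp : LocallyOfFinitePresentation (s j) := by
    refine (HasRingHomProperty.Spec_iff (P := @LocallyOfFinitePresentation)).mpr ?_
    exact RingHom.finitePresentation_algebraMap.mpr inferInstance
  have hq : QuasiCompact (s j) := inferInstanceAs (QuasiCompact (str A (Stage j.unop)))
  have hqs : QuasiSeparated (s j) := inferInstanceAs (QuasiSeparated (str A (Stage j.unop)))
  have hsj' : UnivSubmersive (s j) := Subm.univSubmersive_of_univSSubtrusive _ hsj
  apply Rep.effective
  refine Rep.of_iso ?_ (restrIdIso _)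
  refine (effq_fp R (s j) hsj).rep Pq_le hsj' (isPSheaf_restr_sec Pq_le hD (𝟙 _) hsj') ?_
  exact hj.of_iso (restrCompIso (Category.comp_id _) _).symm

/-- Effectivity along quasi-compact universally S-subtrusive morphisms. -/
theorem effq (R : Refinement.{u}) {X S : Scheme.{u}} (g : X ⟶ S) [QuasiCompact g]
    (hg : UnivSSubtrusive g) : Eff Pq g := by
  refine Eff.of_local Pq_le ?_
  intro s
  obtain ⟨c, hc⟩ := Tests.exists_chart g s
  have h1 : UnivSSubtrusive (str c.A c.B) := by
    have : c.k ≫ pullback.snd g c.j = str c.A c.B := c.w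
    rw [← this]
    exact Basic.comp (Basic.of_flat c.k) (MorphismProperty.pullback_snd _ _ hg)
  refine ⟨_, c.j, inferInstance, hc, _, str c.A c.B, c.k ≫ pullback.fst g c.j,
    Subm.univSubmersive_of_univSSubtrusive _ h1, effq_affine R c.A c.B h1, ?_⟩
  have : c.k ≫ pullback.snd g c.j = str c.A c.B := c.w
  rw [← this, Category.assoc, Category.assoc, pullback.condition]

end K834.EffQ
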