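import Groth.Agent.Subtr.K834.Sat
import Groth.Agent.Desc.IntEff
import Groth.Agent.S2906
import Mathlib.AlgebraicGeometry.Sites.EtalePoint

/-!
# Sections of étale separated descent data over separably closed fields
-/

set_option autoImplicit false
set_option backward.isDefEq.respectTransparency false
set_option backward.isDefEq.respectTransparency.types false
open CategoryTheory CategoryTheory.Limits AlgebraicGeometry Opposite
universe u
open _root_.Desc Groth.Agent.Desc.SecFunctor Groth.Agent.Desc.SecPresheaf
open Groth.Agent.Desc.Complement Groth.Agent.Desc.IntEff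

namespace K834.FieldSec

/-- Points of `D.obj` of an étale, separated descent datum over a separably closed field come from
sections. -/
theorem exists_section {k : Type u} [Field k] [IsSepClosed k] {X : Scheme.{u}}
    (p : X ⟶ Spec (.of k)) [QuasiCompact p] [QuasiSeparated p] [LocallyOfFinitePresentation p]
    (D : SchDD p) [IsSeparated D.obj.hom] [Etale D.obj.hom] (w : D.obj.left) :
    ∃ σ : (secFunctor D).obj (op (Over.mk (𝟙 (Spec (.of k))))), w ∈ Set.range (val D σ) := by
  have : Nonempty X := ⟨D.obj.hom w⟩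
  have hfl : Flat p := flat_of_field p
  have hsu : Surjective p := surjective_of_field p
  have hXq : QuasiSeparatedSpace X :=
    (quasiSeparated_iff_quasiSeparatedSpace p).mp inferInstance
  obtain ⟨W, hwW, hWc, hWs⟩ := Sat.exists_saturated D w
  have hWc' : CompactSpace W.toScheme := isCompact_iff_compactSpace.mp hWc
  let D' := restrictDD D W hWs
  have i1 : QuasiCompact D'.obj.hom := inferInstanceAs (QuasiCompact (W.ι ≫ D.obj.hom))
  have i2 : IsSeparated D'.obj.hom := inferInstanceAs (IsSeparated (W.ι ≫ D.obj.hom))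
  have i3 : Etale D'.obj.hom := inferInstanceAs (Etale (W.ι ≫ D.obj.hom))
  obtain ⟨U, _, _, hU, ⟨e⟩⟩ := Groth.Agent.S2906.result p D'
  let w' : W := ⟨w, hwW⟩
  let z : (pullback p U.hom : Scheme.{u}) := e.inv.hom.left w'
  have hz : e.hom.hom.left z = w' := by
    change e.hom.hom.left (e.inv.hom.left w') = w'
    have h1 : e.inv.hom.left ≫ e.hom.hom.left = 𝟙 _ := by
      have := congrArg (fun f => f.hom.left) e.inv_hom_id
      exact this
    have h2 : (e.inv.hom.left ≫ e.hom.hom.left) w' = w' := by rw [h1]; rfl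
    exact h2
  obtain ⟨l, hl, hlu⟩ := Scheme.exists_fac_of_etale_of_isSepClosed U.hom (𝟙 (Spec (.of k)))
    (pullback.snd p U.hom z) (Subsingleton.elim (α := PrimeSpectrum k) _ _)
  let L : Over.mk (𝟙 (Spec (.of k))) ⟶ U := Over.homMk l hl
  let σ' : (secFunctor D').obj (op (Over.mk (𝟙 (Spec (.of k))))) := (toDD p).map L ≫ e.hom
  -- the value of `σ'`
  have hval : val D' σ' = pullback.lift (𝟙 X) (p ≫ l) (by
      rw [Category.assoc, hl, Category.comp_id, Category.id_comp]) ≫ e.hom.hom.left := by
    have h1 := ev_map (D := D') L e.hom p (𝟙 X) (by simp) (by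
      change 𝟙 X ≫ p = (p ≫ l) ≫ U.hom
      rw [Category.assoc, hl, Category.comp_id, Category.id_comp])
    exact congrArg Subtype.val h1
  -- `z` is in the image
  have sq : IsPullback (pullback.lift (𝟙 X) (p ≫ l) (by
      rw [Category.assoc, hl, Category.comp_id, Category.id_comp])) p (pullback.snd p U.hom) l := by
    refine IsPullback.of_right (h₁₂ := pullback.fst p U.hom) (v₁₃ := p) (h₂₂ := U.hom) ?_
      (pullback.lift_snd _ _ _) (IsPullback.of_hasPullback p U.hom)
    rw [pullback.lift_fst, hl]
    exact IsPullback.of_horiz_isIso ⟨by simp⟩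
  obtain ⟨x, hx, -⟩ := Scheme.Pullback.exists_preimage_pullback (f := pullback.snd p U.hom)
    (g := l) z default hlu.symm
  have hx' : (pullback.lift (𝟙 X) (p ≫ l) (by
      rw [Category.assoc, hl, Category.comp_id, Category.id_comp]) : X ⟶ pullback p U.hom)
      (sq.isoPullback.inv x) = z := by
    rw [← Scheme.Hom.comp_apply, sq.isoPullback_inv_fst, hx]
  refine ⟨(ιSec hWs).app _ σ', sq.isoPullback.inv x, ?_⟩
  have h3 : val D ((ιSec hWs).app _ σ') = val D' σ' ≫ W.ι :=
    ev_ιSec hWs σ' p (𝟙 X) (by simp)
  rw [h3, hval, Scheme.Hom.comp_apply, Scheme.Hom.comp_apply, hx']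
  exact congrArg (fun y : W => W.ι y) hz

end K834.FieldSec
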