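import Groth.Agent.Etbase.TopInv
import Groth.Agent.Subtr.K834.Final
import Groth.Agent.Subtr.K834.Refine

/-!
# Descent of an étale equivalence relation which is almost everything

Let `g : U ⟶ Z` be universally open and surjective and `s, t : R ⟶ U` an étale separated equivalence
relation such that `(t, s) : R ⟶ U ×_Z U` is a surjective closed immersion.  Then `R` descends: there are
`W` étale over `Z` and `u : U ⟶ W` over `Z` such that `R = U ×_Z W` through `(t, s ≫ u)`.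
-/

set_option autoImplicit false
set_option backward.isDefEq.respectTransparency false
set_option backward.isDefEq.respectTransparency.types false
universe u
open CategoryTheory CategoryTheory.Limits AlgebraicGeometry Desc

namespace K834.NilDesc

open Groth.Agent.Etbase.TopInv

variable {U Z R : Scheme.{u}} {g : U ⟶ Z} {s t : R ⟶ U}

/-- the two points are equivalent -/
def Related (s t : R ⟶ U) {T : Scheme.{u}} (a b : T ⟶ U) : Prop := ∃ r : T ⟶ R, r ≫ t = a ∧ r ≫ s = b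

theorem Related.comp {T T' : Scheme.{u}} {a b : T ⟶ U} (h : Related s t a b) (k : T' ⟶ T) :
    Related s t (k ≫ a) (k ≫ b) := by
  obtain ⟨r, rfl, rfl⟩ := h
  exact ⟨k ≫ r, by simp, by simp⟩

/-- The hypotheses. -/
structure Hyp (g : U ⟶ Z) (s t : R ⟶ U) : Prop where
  w : t ≫ g = s ≫ g
  eqv : ∀ T : Scheme.{u}, Equivalence (fun a b : T ⟶ U => Related s t a b)
  closed : IsClosedImmersion (pullback.lift t s w)
  surj : Surjective (pullback.lift t s w)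
  et : Etale t
  sep : IsSeparated t

section

variable (H : Hyp g s t)

include H

theorem exists_locus {T : Scheme.{u}} (a b : T ⟶ U) (h : a ≫ g = b ≫ g) :
    ∃ (T₀ : Scheme.{u}) (i : T₀ ⟶ T), IsClosedImmersion i ∧ Surjective i ∧
      Related s t (i ≫ a) (i ≫ b) ∧ ∀ ⦃T' : Scheme.{u}⦄ (k : T' ⟶ T), Related s t (k ≫ a) (k ≫ b) →
        ∃ k₀ : T' ⟶ T₀, k₀ ≫ i = k := by
  have := H.closed
  have := H.surj
  let j := pullback.lift t s H.w
  refine ⟨pullback (pullback.lift a b h) j, pullback.fst _ _, inferInstance, inferInstance,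
    ⟨pullback.snd _ _, ?_, ?_⟩, ?_⟩
  · have h1 := congrArg (· ≫ pullback.fst g g) (pullback.condition (f := pullback.lift a b h) (g := j))
    simp only [Category.assoc, j, pullback.lift_fst] at h1
    exact h1.symm
  · have h1 := congrArg (· ≫ pullback.snd g g) (pullback.condition (f := pullback.lift a b h) (g := j))
    simp only [Category.assoc, j, pullback.lift_snd] at h1
    exact h1.symm
  · rintro T' k ⟨r, h1, h2⟩
    refine ⟨pullback.lift k r ?_, pullback.lift_fst _ _ _⟩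
    apply pullback.hom_ext
    · simp [j, h1]
    · simp [j, h2]

theorem ext_R {T : Scheme.{u}} {a b : T ⟶ R} (h1 : a ≫ t = b ≫ t) (h2 : a ≫ s = b ≫ s) : a = b := by
  have := H.closed
  rw [← cancel_mono (pullback.lift t s H.w)]
  apply pullback.hom_ext
  · simpa using h1
  · simpa using h2

/-- transport of a point of `R` -/
def IsTr {T : Scheme.{u}} (x₀ x₁ : T ⟶ U) (v v' : T ⟶ R) : Prop :=
  ∀ ⦃T' : Scheme.{u}⦄ (k : T' ⟶ T), Related s t (k ≫ x₀) (k ≫ x₁) → k ≫ v ≫ s = k ≫ v' ≫ s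

omit H in
theorem IsTr.comp {T T' : Scheme.{u}} {x₀ x₁ : T ⟶ U} {v v' : T ⟶ R} (h : IsTr (s := s) (t := t) x₀ x₁ v v')
    (k : T' ⟶ T) : IsTr (s := s) (t := t) (k ≫ x₀) (k ≫ x₁) (k ≫ v) (k ≫ v') := by
  intro T'' k' h'
  simp only [Category.assoc]
  have := h (k' ≫ k) (by simpa using h')
  simpa using this

theorem IsTr.symm {T : Scheme.{u}} {x₀ x₁ : T ⟶ U} {v v' : T ⟶ R} (h : IsTr (s := s) (t := t) x₀ x₁ v v') :
    IsTr (s := s) (t := t) x₁ x₀ v' v := by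
  intro T' k h'
  exact (h k ((H.eqv T').symm h')).symm

theorem IsTr.unique {T : Scheme.{u}} {x₀ x₁ : T ⟶ U} (hx : x₀ ≫ g = x₁ ≫ g) {v v' v'' : T ⟶ R}
    (h : IsTr (s := s) (t := t) x₀ x₁ v v') (h' : IsTr (s := s) (t := t) x₀ x₁ v v'')
    (h1 : v' ≫ t = x₁) (h2 : v'' ≫ t = x₁) : v' = v'' := by
  have := H.et
  obtain ⟨T₀, i, _, _, hr, -⟩ := exists_locus H x₀ x₁ hx
  refine ext_of_surjective t i _ _ (h1.trans h2.symm) (ext_R H ?_ ?_)
  · rw [Category.assoc, Category.assoc, h1, h2]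
  · rw [Category.assoc, Category.assoc, ← h i hr, h' i hr]

theorem exists_tr {T : Scheme.{u}} (x₀ x₁ : T ⟶ U) (hx : x₀ ≫ g = x₁ ≫ g) (v : T ⟶ R)
    (hv : v ≫ t = x₀) : ∃ v' : T ⟶ R, v' ≫ t = x₁ ∧ IsTr (s := s) (t := t) x₀ x₁ v v' := by
  have := H.et
  obtain ⟨T₀, i, _, _, hr, hk⟩ := exists_locus H x₀ x₁ hx
  obtain ⟨v₀, h1, h2⟩ : Related s t (i ≫ x₁) (i ≫ v ≫ s) :=
    (H.eqv T₀).trans ((H.eqv T₀).symm hr) ⟨i ≫ v, by simp [hv], by simp⟩
  obtain ⟨v', h3, h4⟩ := exists_lift_of_univHomeo t x₁ i v₀ h1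
  refine ⟨v', h3, ?_⟩
  intro T' k h'
  obtain ⟨k₀, rfl⟩ := hk k h'
  have h5 : i ≫ v' ≫ s = i ≫ v ≫ s := by rw [← Category.assoc, h4, h2]
  rw [Category.assoc, Category.assoc, h5]

/-- the transport -/
noncomputable def tr {T : Scheme.{u}} (x₀ x₁ : T ⟶ U) (hx : x₀ ≫ g = x₁ ≫ g)
    (v : Lifts (Over.mk t) x₀) : Lifts (Over.mk t) x₁ :=
  ⟨(exists_tr H x₀ x₁ hx v.1 v.2).choose, (exists_tr H x₀ x₁ hx v.1 v.2).choose_spec.1⟩

theorem isTr_tr {T : Scheme.{u}} (x₀ x₁ : T ⟶ U) (hx : x₀ ≫ g = x₁ ≫ g)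
    (v : Lifts (Over.mk t) x₀) : IsTr (s := s) (t := t) x₀ x₁ v.1 (tr H x₀ x₁ hx v).1 :=
  (exists_tr H x₀ x₁ hx v.1 v.2).choose_spec.2

theorem eq_tr {T : Scheme.{u}} (x₀ x₁ : T ⟶ U) (hx : x₀ ≫ g = x₁ ≫ g)
    (v : Lifts (Over.mk t) x₀) (v' : T ⟶ R) (h' : v' ≫ t = x₁)
    (h : IsTr (s := s) (t := t) x₀ x₁ v.1 v') : (tr H x₀ x₁ hx v).1 = v' :=
  IsTr.unique H hx (isTr_tr H x₀ x₁ hx v) h (tr H x₀ x₁ hx v).2 h'

theorem tr_tr {T : Scheme.{u}} (x₀ x₁ : T ⟶ U) (hx : x₀ ≫ g = x₁ ≫ g)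
    (v : Lifts (Over.mk t) x₀) : tr H x₁ x₀ hx.symm (tr H x₀ x₁ hx v) = v :=
  Subtype.ext (eq_tr H _ _ _ _ _ v.2 (IsTr.symm H (isTr_tr H x₀ x₁ hx v)))

theorem tr_comp {T : Scheme.{u}} (x₀ x₁ x₂ : T ⟶ U) (h₀₁ : x₀ ≫ g = x₁ ≫ g) (h₁₂ : x₁ ≫ g = x₂ ≫ g)
    (v : Lifts (Over.mk t) x₀) :
    tr H x₁ x₂ h₁₂ (tr H x₀ x₁ h₀₁ v) = tr H x₀ x₂ (h₀₁.trans h₁₂) v := by
  have := H.et
  apply Subtype.ext
  obtain ⟨T₁, i, _, _, hi, -⟩ := exists_locus H x₀ x₁ h₀₁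
  obtain ⟨T₂, j, _, _, hj, -⟩ := exists_locus H x₁ x₂ h₁₂
  obtain ⟨k, hk⟩ : ∃ k : pullback i j ⟶ T, k = pullback.fst i j ≫ i := ⟨_, rfl⟩
  have hk' : k = pullback.snd i j ≫ j := hk.trans pullback.condition
  have hks : Surjective k := by rw [hk]; infer_instance
  have h1 : Related s t (k ≫ x₀) (k ≫ x₁) := by
    have := hi.comp (pullback.fst i j)
    rw [hk]
    simpa using this
  have h2 : Related s t (k ≫ x₁) (k ≫ x₂) := by
    have := hj.comp (pullback.snd i j)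
    rw [hk']
    simpa using this
  have h3 : Related s t (k ≫ x₀) (k ≫ x₂) := (H.eqv _).trans h1 h2
  have e1 := isTr_tr H x₀ x₁ h₀₁ v k h1
  have e2 := isTr_tr H x₁ x₂ h₁₂ (tr H x₀ x₁ h₀₁ v) k h2
  have e3 := isTr_tr H x₀ x₂ (h₀₁.trans h₁₂) v k h3
  have a1 : (tr H x₁ x₂ h₁₂ (tr H x₀ x₁ h₀₁ v)).1 ≫ t = x₂ := (tr H x₁ x₂ h₁₂ (tr H x₀ x₁ h₀₁ v)).2
  have a2 : (tr H x₀ x₂ (h₀₁.trans h₁₂) v).1 ≫ t = x₂ := (tr H x₀ x₂ (h₀₁.trans h₁₂) v).2
  refine ext_of_surjective t k _ _ (a1.trans a2.symm) (ext_R H ?_ ?_)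
  · rw [Category.assoc, Category.assoc, a1, a2]
  · rw [Category.assoc, Category.assoc, ← e2, ← e1, e3]

/-- the descent datum on `R` -/
noncomputable def dd : SchDD g where
  obj := Over.mk t
  φ T x₀ x₁ h :=
    { toFun := tr H x₀ x₁ h
      invFun := tr H x₁ x₀ h.symm
      left_inv := tr_tr H x₀ x₁ h
      right_inv := tr_tr H x₁ x₀ h.symm }
  φ_natural T T' k x₀ x₁ h h' v v' hv' := by
    refine eq_tr H _ _ h' v' _ ?_ ?_
    · rw [Category.assoc]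
      exact congrArg (k ≫ ·) (tr H x₀ x₁ h v).2
    · rw [hv']
      exact (isTr_tr H x₀ x₁ h v).comp k
  φ_self T x v := Subtype.ext (eq_tr H x x rfl v v.1 v.2 (fun _ _ _ => rfl))
  φ_comp T x₀ x₁ x₂ h₀₁ h₁₂ v := tr_comp H x₀ x₁ x₂ h₀₁ h₁₂ v

/-- **Descent of the equivalence relation.** -/
theorem exists_descent [UniversallyOpen g] [Surjective g] :
    ∃ (W : Scheme.{u}) (w : W ⟶ Z) (v : U ⟶ W), Etale w ∧ IsSeparated w ∧ Surjective w ∧ v ≫ w = g ∧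
      IsPullback t (s ≫ v) g w := by
  have h1 : Etale (dd H).obj.hom := H.et
  have h2 : IsSeparated (dd H).obj.hom := H.sep
  obtain ⟨W, hW1, hW2, ⟨θ⟩⟩ := Final.opn Refine.refinement g (dd H)
  -- the isomorphism `R ≅ U ×_Z W`
  have hiso : IsIso θ.inv.hom := ⟨θ.hom.hom, by rw [← SchDD.comp_hom, θ.inv_hom_id]; rfl,
    by rw [← SchDD.comp_hom, θ.hom_inv_id]; rfl⟩
  have hiso' : IsIso θ.inv.hom.left := inferInstance
  let ψ : R ⟶ pullback g W.hom := θ.inv.hom.left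
  have hψ : ψ ≫ pullback.fst g W.hom = t := Over.w θ.inv.hom
  let a : R ⟶ W.left := ψ ≫ pullback.snd g W.hom
  have hpb : IsPullback t a g W.hom := by
    have h3 : IsIso ψ := hiso'
    exact IsPullback.of_iso_pullback ⟨by rw [← hψ, Category.assoc, pullback.condition, ← Category.assoc]⟩
      (asIso ψ) hψ rfl
  obtain ⟨e, he1, he2⟩ := (H.eqv U).refl (𝟙 U)
  have ha : a = s ≫ e ≫ a := by
    have h3 := θ.inv.comm t s H.w ⟨𝟙 R, Category.id_comp _⟩ ⟨ψ, hψ⟩ (Category.id_comp _).symm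
    have h4 : ((dd H).φ t s H.w ⟨𝟙 R, Category.id_comp _⟩).1 = s ≫ e := by
      refine eq_tr H t s H.w ⟨𝟙 R, Category.id_comp _⟩ _ ?_ ?_
      · rw [Category.assoc, he1, Category.comp_id]
      · intro T' k _
        simp [he2]
    rw [h4] at h3
    have h5 := congrArg (· ≫ pullback.snd g W.hom) h3
    have h6 : (((toDD g).obj W).φ t s H.w ⟨ψ, hψ⟩).1 ≫ pullback.snd g W.hom =
        ψ ≫ pullback.snd g W.hom := by
      change pullback.lift _ _ _ ≫ pullback.snd g W.hom = _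
      rw [pullback.lift_snd]
    have h7 : a = (s ≫ e) ≫ ψ ≫ pullback.snd g W.hom := by
      rw [← Category.assoc]
      exact h6.symm.trans h5
    exact h7.trans (Category.assoc _ _ _)
  have hv : (e ≫ a) ≫ W.hom = g := by
    rw [Category.assoc, ← hpb.w, ← Category.assoc, he1, Category.id_comp]
  refine ⟨W.left, W.hom, e ≫ a, hW2, hW1, ?_, hv, ?_⟩
  · have : Surjective ((e ≫ a) ≫ W.hom) := by rw [hv]; infer_instance
    exact Surjective.of_comp (e ≫ a) W.hom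
  · rw [← ha]
    exact hpb

end

end K834.NilDesc
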