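import Groth.Agent.Subtr.K834.Val
import Mathlib.RingTheory.TensorProduct.DirectLimitFG
import Mathlib.LinearAlgebra.TensorProduct.RightExactness
import Mathlib.LinearAlgebra.TensorProduct.Finiteness

/-!
# The obstruction to lifting a specialization over a valuation ring lives at a finite level

`A` a ring, `B` and `D` two `A`-algebras, `D` a domain and `P` a prime of `D`.
-/

set_option autoImplicit false
set_option linter.dupNamespace false
set_option backward.isDefEq.respectTransparency false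
set_option backward.isDefEq.respectTransparency.types false

universe u

open CategoryTheory CategoryTheory.Limits AlgebraicGeometry Subtr IsLocalRing TensorProduct

namespace K834.Obs

open K834.Basic K834.Val

variable {A : Type u} [CommRing A]

/-- The obstruction to lifting the specialization of the generic point to the point `P`. -/
def Obs (B D : Type u) [CommRing B] [CommRing D] [Algebra A B] [Algebra A D] (P : Ideal D) : Prop :=
  ∃ (s : D) (_ : s ≠ 0) (l : Finset (D × B)), (∀ x ∈ l, x.1 ∈ P) ∧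
    s ⊗ₜ[A] (1 : B) = ∑ x ∈ l, (s * x.1) ⊗ₜ[A] x.2

/-- The specialization of the generic point to `P` lifts to `D ⊗ B`. -/
def Lift (B D : Type u) [CommRing B] [CommRing D] [Algebra A B] [Algebra A D] [IsDomain D]
    (P : PrimeSpectrum D) : Prop :=
  ∃ q' q : PrimeSpectrum (D ⊗[A] B), q' ≤ q ∧
    PrimeSpectrum.comap (algebraMap D (D ⊗[A] B)) q' = gpt D ∧
    PrimeSpectrum.comap (algebraMap D (D ⊗[A] B)) q = P

variable (B : Type u) [CommRing B] [Algebra A B]

theorem not_lift_of_obs (D : Type u) [CommRing D] [Algebra A D] [IsDomain D] (P : PrimeSpectrum D)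
    (h : Obs (A := A) B D P.asIdeal) : ¬ Lift (A := A) B D P := by
  rintro ⟨q', q, hle, h1, h2⟩
  obtain ⟨s, hs, l, hl, he⟩ := h
  have h3 : (s ⊗ₜ[A] (1 : B)) * (1 - ∑ x ∈ l, x.1 ⊗ₜ[A] x.2) = 0 := by
    have h0 : ∀ x ∈ l, (s ⊗ₜ[A] (1 : B)) * (x.1 ⊗ₜ[A] x.2) = (s * x.1) ⊗ₜ[A] x.2 := by
      intro x _
      rw [Algebra.TensorProduct.tmul_mul_tmul, one_mul]
    rw [mul_sub, mul_one, Finset.mul_sum, Finset.sum_congr rfl h0, ← he, sub_self]
  have h4 : (s ⊗ₜ[A] (1 : B)) ∉ q'.asIdeal := by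
    intro h
    have : s ∈ (PrimeSpectrum.comap (algebraMap D (D ⊗[A] B)) q').asIdeal := h
    rw [h1] at this
    exact hs this
  have h5 : (1 - ∑ x ∈ l, x.1 ⊗ₜ[A] x.2) ∈ q'.asIdeal := by
    refine (q'.isPrime.mem_or_mem ?_).resolve_left h4
    rw [h3]; exact zero_mem _
  have h6 : ∑ x ∈ l, x.1 ⊗ₜ[A] x.2 ∈ q.asIdeal := by
    refine Ideal.sum_mem _ fun x hx => ?_
    have h7 : x.1 ∈ (PrimeSpectrum.comap (algebraMap D (D ⊗[A] B)) q).asIdeal := by
      rw [h2]; exact hl x hx
    have h8 : x.1 ⊗ₜ[A] (1 : B) ∈ q.asIdeal := h7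
    have h9 : x.1 ⊗ₜ[A] x.2 = (1 : D) ⊗ₜ[A] x.2 * (x.1 ⊗ₜ[A] (1 : B)) := by simp
    rw [h9]
    exact Ideal.mul_mem_left _ _ h8
  exact q.isPrime.ne_top ((Ideal.eq_top_iff_one _).mpr (by
    have := add_mem (hle h5) h6
    simpa using this))

theorem obs_map {D D' : Type u} [CommRing D] [CommRing D'] [Algebra A D] [Algebra A D']
    (φ : D →ₐ[A] D') {P : Ideal D} {P' : Ideal D'} (hP : P ≤ P'.comap φ)
    (hφ : Function.Injective φ) (h : Obs (A := A) B D P) : Obs (A := A) B D' P' := by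
  classical
  obtain ⟨s, hs, l, hl, he⟩ := h
  refine ⟨φ s, (map_ne_zero_iff φ hφ).mpr hs, l.map ⟨fun x => (φ x.1, x.2), ?_⟩, ?_, ?_⟩
  · rintro ⟨a, b⟩ ⟨a', b'⟩ h
    simp only [Prod.mk.injEq] at h
    exact Prod.ext (hφ h.1) h.2
  · intro x hx
    simp only [Finset.mem_map, Function.Embedding.coeFn_mk] at hx
    obtain ⟨y, hy, rfl⟩ := hx
    exact hP (hl y hy)
  · have := congrArg (Algebra.TensorProduct.map φ (AlgHom.id A B)) he
    simpa [map_sum] using this

theorem obs_of_not_lift (V : Type u) [CommRing V] [Algebra A V] [IsDomain V] [IsLocalRing V]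
    (h : ¬ Lift (A := A) B V (closedPoint V)) : Obs (A := A) B V (maximalIdeal V) := by
  classical
  let M := V ⊗[A] B
  let S : Submonoid M := Algebra.algebraMapSubmonoid M (nonZeroDivisors V)
  let I : Ideal M := RingHom.ker (algebraMap M (Localization S))
  let J : Ideal M := (maximalIdeal V).map (algebraMap V M)
  have hIJ : I ⊔ J = ⊤ := by
    by_contra hne
    apply h
    obtain ⟨q, hq, hle⟩ := Ideal.exists_le_maximal _ hne
    have hI : I ≤ q := le_sup_left.trans hle
    have hJ : J ≤ q := le_sup_right.trans hle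
    have hd : Disjoint ((⊥ : Ideal M) : Set M) ((S ⊔ q.primeCompl : Submonoid M) : Set M) := by
      rw [Set.disjoint_left]
      rintro x (rfl : x = 0) hx
      obtain ⟨a, ha, c, hc, hac⟩ := Submonoid.mem_sup.mp hx
      apply hc
      apply hI
      rw [RingHom.mem_ker, IsLocalization.map_eq_zero_iff S]
      exact ⟨⟨a, ha⟩, hac⟩
    obtain ⟨q', hq', -, hdis⟩ := Ideal.exists_le_prime_disjoint ⊥ (S ⊔ q.primeCompl) hd
    refine ⟨⟨q', hq'⟩, ⟨q, hq.isPrime⟩, ?_, ?_, ?_⟩
    · intro x hx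
      by_contra hxq
      exact Set.disjoint_left.mp hdis hx (Submonoid.mem_sup_right (S := S) hxq)
    · apply PrimeSpectrum.ext
      change q'.comap (algebraMap V M) = ⊥
      rw [eq_bot_iff]
      intro v hv
      by_contra hv0
      refine Set.disjoint_left.mp hdis (show algebraMap V M v ∈ q' from hv)
        (Submonoid.mem_sup_left ?_)
      exact ⟨v, mem_nonZeroDivisors_of_ne_zero hv0, rfl⟩
    · apply PrimeSpectrum.ext
      change q.comap (algebraMap V M) = maximalIdeal V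
      have h1 : maximalIdeal V ≤ q.comap (algebraMap V M) := Ideal.map_le_iff_le_comap.mp hJ
      have hqp := hq.isPrime
      exact ((IsLocalRing.maximalIdeal.isMaximal V).eq_of_le
        (Ideal.IsPrime.ne_top inferInstance) h1).symm
  obtain ⟨i, hi, j, hj, hij⟩ := Submodule.mem_sup.mp
    (show (1 : M) ∈ I ⊔ J by rw [hIJ]; trivial)
  rw [RingHom.mem_ker, IsLocalization.map_eq_zero_iff S] at hi
  obtain ⟨⟨_, s, hs, rfl⟩, hi⟩ := hi
  have hj' : j ∈ LinearMap.range (LinearMap.rTensor B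
      (Submodule.subtype ((maximalIdeal V).restrictScalars A))) := by
    rw [← Ideal.map_includeLeft_eq]
    exact hj
  obtain ⟨y, rfl⟩ := hj'
  obtain ⟨l, rfl⟩ := TensorProduct.exists_finset y
  refine ⟨s, nonZeroDivisors.ne_zero hs, l.map ⟨fun x => (x.1.1, x.2), ?_⟩, ?_, ?_⟩
  · rintro ⟨a, b⟩ ⟨a', b'⟩ h
    simp only [Prod.mk.injEq] at h
    exact Prod.ext (Subtype.ext h.1) h.2
  · intro x hx
    simp only [Finset.mem_map, Function.Embedding.coeFn_mk] at hx
    obtain ⟨y, hy, rfl⟩ := hx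
    exact y.1.2
  · have h1 : (s ⊗ₜ[A] (1 : B)) * i = 0 := hi
    have h2 : (s ⊗ₜ[A] (1 : B)) = (s ⊗ₜ[A] (1 : B)) * 1 := (mul_one _).symm
    rw [h2, ← hij, mul_add, h1, zero_add, map_sum, Finset.mul_sum]
    simp

/-- The obstruction lives at a finite level. -/
theorem exists_subalgebra_obs (V : Type u) [CommRing V] [Algebra A V] {P : Ideal V}
    (h : Obs (A := A) B V P) :
    ∃ (D : Subalgebra A V), D.FG ∧ Obs (A := A) B D (P.comap D.val) := by
  classical
  obtain ⟨s, hs, l, hl, he⟩ := h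
  let D₀ : Subalgebra A V := Algebra.adjoin A (insert s (l.image Prod.fst : Set V))
  have hD₀ : D₀.FG := by
    refine Subalgebra.fg_def.mpr ⟨_, ?_, rfl⟩
    exact Set.Finite.insert _ (Finset.finite_toSet _)
  have hs₀ : s ∈ D₀ := Algebra.subset_adjoin (Set.mem_insert _ _)
  have hl₀ : ∀ x ∈ l, x.1 ∈ D₀ := fun x hx =>
    Algebra.subset_adjoin (Set.mem_insert_of_mem _ (Finset.mem_image_of_mem _ hx))
  let t : D₀ ⊗[A] B := ⟨s, hs₀⟩ ⊗ₜ[A] 1
  let t' : D₀ ⊗[A] B := ∑ x : l, (⟨s, hs₀⟩ * ⟨x.1.1, hl₀ x.1 x.2⟩ : D₀) ⊗ₜ[A] x.1.2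
  obtain ⟨D, hD₀D, hD, hDe⟩ := TensorProduct.Algebra.eq_of_fg_of_subtype_eq (t := t) (t' := t') hD₀
    (by
      simp only [t, t', map_sum, LinearMap.rTensor_tmul]
      change s ⊗ₜ[A] (1 : B) = ∑ x : l, (s * x.1.1) ⊗ₜ[A] x.1.2
      rw [he, ← Finset.sum_coe_sort l (fun x => (s * x.1) ⊗ₜ[A] x.2)])
  refine ⟨D, hD, ⟨s, hD₀D hs₀⟩, fun h0 => hs (congrArg Subtype.val h0),
    (Finset.univ : Finset l).map ⟨fun x => ((⟨x.1.1, hD₀D (hl₀ x.1 x.2)⟩ : D), x.1.2), ?_⟩, ?_, ?_⟩
  · rintro ⟨⟨a, b⟩, h⟩ ⟨⟨a', b'⟩, h'⟩ hh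
    simp only [Prod.mk.injEq, Subtype.mk.injEq] at hh
    exact Subtype.ext (Prod.ext hh.1 hh.2)
  · intro x hx
    simp only [Finset.mem_map, Function.Embedding.coeFn_mk] at hx
    obtain ⟨y, -, rfl⟩ := hx
    exact hl _ y.2
  · rw [Finset.sum_map]
    simp only [t, t', map_sum, LinearMap.rTensor_tmul] at hDe
    exact hDe

/-- Relation with S-subtrusive morphisms. -/
theorem lift_of_isSSubtrusive (D : Type u) [CommRing D] [Algebra A D] [IsDomain D]
    (P : PrimeSpectrum D)
    (h : IsSSubtrusive (pullback.snd (Spec.map (CommRingCat.ofHom (algebraMap A B)))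
      (Spec.map (CommRingCat.ofHom (algebraMap A D))))) : Lift (A := A) B D P := by
  have hpb : IsPullback (Spec.map (CommRingCat.ofHom (Algebra.TensorProduct.includeRight
      (R := A) (A := D) (B := B)).toRingHom))
      (Spec.map (CommRingCat.ofHom (algebraMap D (D ⊗[A] B))))
      (Spec.map (CommRingCat.ofHom (algebraMap A B)))
      (Spec.map (CommRingCat.ofHom (algebraMap A D))) := by
    have := CommRingCat.isPushout_tensorProduct A D B
    exact (isPullback_SpecMap_of_isPushout _ _ _ _ this).flip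
  let e := hpb.isoPullback
  obtain ⟨x, x', hx, h1, h2⟩ := h (gpt_specializes (V := D) P)
  refine ⟨e.inv x', e.inv x, ?_, ?_, ?_⟩
  · rw [PrimeSpectrum.le_iff_specializes]
    exact hx.map e.inv.continuous
  · rw [← h2, ← hpb.isoPullback_inv_snd, Scheme.Hom.comp_apply]
    rfl
  · rw [← h1, ← hpb.isoPullback_inv_snd, Scheme.Hom.comp_apply]
    rfl

/-- Relation with S-subtrusive morphisms. -/
theorem isSSubtrusive_of_lift (V : Type u) [CommRing V] [Algebra A V] [IsDomain V] [ValuationRing V]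
    (h : Lift (A := A) B V (closedPoint V)) :
    IsSSubtrusive (pullback.snd (Spec.map (CommRingCat.ofHom (algebraMap A B)))
      (Spec.map (CommRingCat.ofHom (algebraMap A V)))) := by
  have hpb : IsPullback (Spec.map (CommRingCat.ofHom (Algebra.TensorProduct.includeRight
      (R := A) (A := V) (B := B)).toRingHom))
      (Spec.map (CommRingCat.ofHom (algebraMap V (V ⊗[A] B))))
      (Spec.map (CommRingCat.ofHom (algebraMap A B)))
      (Spec.map (CommRingCat.ofHom (algebraMap A V))) := by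
    have := CommRingCat.isPushout_tensorProduct A V B
    exact (isPullback_SpecMap_of_isPushout _ _ _ _ this).flip
  let e := hpb.isoPullback
  obtain ⟨q', q, hle, h1, h2⟩ := h
  refine ((tfae V _).out 1 3).mpr ?_
  refine ⟨e.hom q, e.hom q', ?_, ?_, ?_⟩
  · exact ((PrimeSpectrum.le_iff_specializes _ _).mp hle).map e.hom.continuous
  · rw [← Scheme.Hom.comp_apply, hpb.isoPullback_hom_snd]
    exact h2
  · rw [← Scheme.Hom.comp_apply, hpb.isoPullback_hom_snd]
    exact h1

end K834.Obs
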