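import Groth.Agent.Desc.Complement

/-!
# Saturations of opens in the underlying scheme of a descent datum

`act D : D.obj ×_S X ⟶ D.obj` is the action of the groupoid `X ×_S X ⇉ X`, a base change of `p` up to
isomorphism. `exists_saturated`: if `p` is universally open and quasi-compact, every point of `D.obj` is in a
quasi-compact saturated open. `saturated_range_uval`: the image of the universal value of a section is
saturated.
-/

set_option autoImplicit false
set_option backward.isDefEq.respectTransparency false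
set_option backward.isDefEq.respectTransparency.types false
open CategoryTheory CategoryTheory.Limits AlgebraicGeometry Opposite
universe u
open _root_.Desc Groth.Agent.Desc.SecFunctor Groth.Agent.Desc.SecPresheaf
open Groth.Agent.Desc.Complement

namespace K834.Sat

/-- Lifting a field valued point along a morphism, after a field extension. -/
theorem exists_field_lift {Y Z : Scheme.{u}} (f : Y ⟶ Z) {K : Type u} [Field K]
    (v : Spec (.of K) ⟶ Z) (y : Y) (h : f y = v (IsLocalRing.closedPoint K)) :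
    ∃ (L : Type u) (_ : Field L) (k : Spec (.of L) ⟶ Spec (.of K)) (y' : Spec (.of L) ⟶ Y),
      y' ≫ f = k ≫ v ∧ y' (IsLocalRing.closedPoint L) = y := by
  obtain ⟨c, hc1, -⟩ := Scheme.Pullback.exists_preimage_pullback (f := f) (g := v) y
    (IsLocalRing.closedPoint K) h
  refine ⟨_, inferInstance, (Scheme.fromSpecResidueField _ c) ≫ pullback.snd _ _,
    (Scheme.fromSpecResidueField _ c) ≫ pullback.fst _ _, ?_, ?_⟩
  · rw [Category.assoc, Category.assoc, pullback.condition]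
  · exact (Scheme.Hom.comp_apply _ _ _).trans
      ((congrArg _ (Scheme.fromSpecResidueField_apply c _)).trans hc1)

variable {X S : Scheme.{u}} {p : X ⟶ S} (D : SchDD p)

/-- The action of the groupoid `X ×_S X` on the underlying scheme of a descent datum. -/
noncomputable def act : pullback (D.obj.hom ≫ p) p ⟶ D.obj.left :=
  (D.φ (pullback.fst (D.obj.hom ≫ p) p ≫ D.obj.hom) (pullback.snd (D.obj.hom ≫ p) p)
    (by rw [Category.assoc]; exact pullback.condition) ⟨pullback.fst (D.obj.hom ≫ p) p, rfl⟩).1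

theorem act_hom : act D ≫ D.obj.hom = pullback.snd (D.obj.hom ≫ p) p :=
  (D.φ (pullback.fst (D.obj.hom ≫ p) p ≫ D.obj.hom) (pullback.snd (D.obj.hom ≫ p) p)
    (by rw [Category.assoc]; exact pullback.condition) ⟨pullback.fst (D.obj.hom ≫ p) p, rfl⟩).2

/-- the gluing bijections in terms of the action -/
theorem φ_eq {T : Scheme.{u}} (x₀ x₁ : T ⟶ X) (h : x₀ ≫ p = x₁ ≫ p) (v : Lifts D.obj x₀) :
    (D.φ x₀ x₁ h v).1 = pullback.lift v.1 x₁ (by
      rw [← h, ← Category.assoc]; exact congrArg (· ≫ p) v.2) ≫ act D := by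
  refine φ_nat D (pullback.lift v.1 x₁ (by
      rw [← h, ← Category.assoc]; exact congrArg (· ≫ p) v.2)) _ _ _ _ ?_ ?_ _ _ ?_
  · rw [pullback.lift_fst_assoc]; exact v.2.symm
  · rw [pullback.lift_snd]
  · rw [pullback.lift_fst]

theorem lift_act {T : Scheme.{u}} (v : T ⟶ D.obj.left) (x : T ⟶ X)
    (h : v ≫ D.obj.hom ≫ p = x ≫ p) : pullback.lift v x h ≫ act D =
      (D.φ (v ≫ D.obj.hom) x (by rw [Category.assoc]; exact h) ⟨v, rfl⟩).1 :=
  (φ_eq D (v ≫ D.obj.hom) x _ ⟨v, rfl⟩).symm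

/-- the involution of `D ×_S X` exchanging the projection and the action -/
noncomputable def θ : pullback (D.obj.hom ≫ p) p ⟶ pullback (D.obj.hom ≫ p) p :=
  pullback.lift (act D) (pullback.fst _ _ ≫ D.obj.hom) (by
    rw [reassoc_of% (act_hom D), Category.assoc]
    exact pullback.condition.symm)

theorem θ_fst : θ D ≫ pullback.fst _ _ = act D := pullback.lift_fst _ _ _

theorem θ_snd : θ D ≫ pullback.snd _ _ = pullback.fst _ _ ≫ D.obj.hom := pullback.lift_snd _ _ _

theorem θ_act : θ D ≫ act D = pullback.fst _ _ := by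
  have h := lift_act D (act D) (pullback.fst _ _ ≫ D.obj.hom) (by
    rw [reassoc_of% (act_hom D), Category.assoc]
    exact pullback.condition.symm)
  refine h.trans ?_
  have h2 : (D.φ (pullback.fst (D.obj.hom ≫ p) p ≫ D.obj.hom) (pullback.snd (D.obj.hom ≫ p) p)
    (by rw [Category.assoc]; exact pullback.condition) ⟨pullback.fst (D.obj.hom ≫ p) p, rfl⟩).1 =
      act D := rfl
  have h1 := φ_φ D (pullback.fst (D.obj.hom ≫ p) p ≫ D.obj.hom) (pullback.snd (D.obj.hom ≫ p) p)
    (by rw [Category.assoc]; exact pullback.condition) ⟨pullback.fst (D.obj.hom ≫ p) p, rfl⟩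
  refine Eq.trans ?_ (congrArg Subtype.val h1)
  exact φ_congr D _ _ (act_hom D) rfl _ _ h2

theorem θ_θ : θ D ≫ θ D = 𝟙 _ := by
  apply pullback.hom_ext
  · rw [Category.assoc, θ_fst, θ_act, Category.id_comp]
  · rw [Category.assoc, θ_snd, ← Category.assoc, θ_fst, act_hom, Category.id_comp]

instance : IsIso (θ D) := ⟨θ D, θ_θ D, θ_θ D⟩

theorem act_prop (P : MorphismProperty Scheme.{u}) [P.RespectsIso] [P.IsStableUnderBaseChange]
    (h : P p) : P (act D) := by
  rw [← θ_fst]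
  exact (P.cancel_left_of_respectsIso _ _).mpr (P.pullback_fst _ _ h)

theorem section_act : pullback.lift (𝟙 D.obj.left) D.obj.hom (by simp) ≫ act D = 𝟙 _ := by
  rw [lift_act]
  have h1 := congrArg Subtype.val (D.φ_self D.obj.hom ⟨𝟙 _, Category.id_comp _⟩)
  exact (φ_congr D rfl ⟨𝟙 _, Category.id_comp _⟩ (Category.id_comp _) rfl _ _ rfl).trans h1

/-- the saturation of a subset -/
def sat (W : Set D.obj.left) : Set D.obj.left :=
  act D '' (pullback.fst (D.obj.hom ≫ p) p ⁻¹' W)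

theorem subset_sat (W : Set D.obj.left) : W ⊆ sat D W := by
  intro d hd
  refine ⟨pullback.lift (𝟙 D.obj.left) D.obj.hom (by simp) d, ?_, ?_⟩
  · change pullback.fst (D.obj.hom ≫ p) p
      (pullback.lift (𝟙 D.obj.left) D.obj.hom (by simp) d) ∈ W
    rw [← Scheme.Hom.comp_apply, pullback.lift_fst]
    exact hd
  · rw [← Scheme.Hom.comp_apply, section_act]
    rfl

theorem saturated_of_eq_sat (W : D.obj.left.Opens) (W₀ : Set D.obj.left)
    (h : (W : Set D.obj.left) = sat D W₀) : Saturated D W := by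
  apply saturated_of_points
  intro K _ x₀ x₁ e v hv
  have h0 : v.1 (IsLocalRing.closedPoint K) ∈ sat D W₀ := by
    rw [← h]; exact hv ⟨_, rfl⟩
  obtain ⟨z, hz, hz'⟩ := h0
  obtain ⟨L, _, k, z', h1, h2⟩ := exists_field_lift (act D) v.1 z hz'
  -- `z' = (w, x)`
  let w : Spec (.of L) ⟶ D.obj.left := z' ≫ pullback.fst _ _
  let x : Spec (.of L) ⟶ X := z' ≫ pullback.snd _ _
  have hwx : (w ≫ D.obj.hom) ≫ p = x ≫ p := by
    simp only [w, x, Category.assoc]
    rw [pullback.condition]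
  have hx : x = k ≫ x₀ := by
    rw [← v.2, ← Category.assoc, ← h1, Category.assoc, act_hom]
  have hw : (D.φ (w ≫ D.obj.hom) x hwx ⟨w, rfl⟩).1 = k ≫ v.1 := by
    rw [← h1, ← lift_act D w x (by rw [← Category.assoc]; exact hwx)]
    congr 1
    apply pullback.hom_ext
    · rw [pullback.lift_fst]
    · rw [pullback.lift_snd]
  have hk : (k ≫ x₀) ≫ p = (k ≫ x₁) ≫ p := by rw [Category.assoc, Category.assoc, e]
  have h3 : (D.φ (k ≫ x₀) (k ≫ x₁) hk ⟨k ≫ v.1, by rw [Category.assoc, v.2]⟩).1 =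
      k ≫ (D.φ x₀ x₁ e v).1 := D.φ_natural k x₀ x₁ e hk v _ rfl
  have h4 : D.φ (k ≫ x₀) (k ≫ x₁) hk (D.φ (w ≫ D.obj.hom) (k ≫ x₀) (by rw [hwx, hx]) ⟨w, rfl⟩) =
      D.φ (w ≫ D.obj.hom) (k ≫ x₁) (by rw [hwx, hx, hk]) ⟨w, rfl⟩ := D.φ_comp _ _ _ _ _ _
  have h5 : D.φ (w ≫ D.obj.hom) (k ≫ x₀) (by rw [hwx, hx]) ⟨w, rfl⟩ =
      ⟨k ≫ v.1, by rw [Category.assoc, v.2]⟩ := by
    apply Subtype.ext
    refine Eq.trans ?_ hw
    exact φ_congr D hwx ⟨w, rfl⟩ rfl hx.symm _ _ rfl
  rw [h5] at h4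
  have h6 : k ≫ (D.φ x₀ x₁ e v).1 = (D.φ (w ≫ D.obj.hom) (k ≫ x₁) (by rw [hwx, hx, hk])
      ⟨w, rfl⟩).1 := by
    rw [← h3, h4]
  rw [φ_eq D (w ≫ D.obj.hom) (k ≫ x₁)] at h6
  rintro _ ⟨y, rfl⟩
  have hy : y = k (IsLocalRing.closedPoint L) := Subsingleton.elim (α := PrimeSpectrum K) _ _
  rw [hy, ← Scheme.Hom.comp_apply, h6, h]
  refine ⟨pullback.lift w (k ≫ x₁) _ (IsLocalRing.closedPoint L), ?_,
    (Scheme.Hom.comp_apply _ _ _).symm⟩
  change pullback.fst (D.obj.hom ≫ p) p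
    (pullback.lift w (k ≫ x₁) _ (IsLocalRing.closedPoint L)) ∈ W₀
  rw [← Scheme.Hom.comp_apply, pullback.lift_fst, Scheme.Hom.comp_apply, h2]
  exact hz

/-- Every point is contained in a quasi-compact saturated open. -/
theorem exists_saturated [UniversallyOpen p] [QuasiCompact p] (d : D.obj.left) :
    ∃ W : D.obj.left.Opens, d ∈ W ∧ IsCompact (W : Set D.obj.left) ∧ Saturated D W := by
  obtain ⟨V, hV, hdV, -⟩ := exists_isAffineOpen_mem_and_subset (X := D.obj.left) (x := d) (U := ⊤)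
    trivial
  have hop : UniversallyOpen (act D) := act_prop D @UniversallyOpen inferInstance
  let W : D.obj.left.Opens := ⟨sat D V, (act D).isOpenMap _ (V.2.preimage
    (pullback.fst (D.obj.hom ≫ p) p).continuous)⟩
  refine ⟨W, subset_sat D V hdV, ?_, saturated_of_eq_sat D W V rfl⟩
  have h1 : IsCompact (pullback.fst (D.obj.hom ≫ p) p ⁻¹' (V : Set D.obj.left)) :=
    QuasiCompact.isCompact_preimage (f := pullback.fst (D.obj.hom ≫ p) p) _ V.2 hV.isCompact
  exact h1.image (act D).continuous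

/-- The image of the universal value of a section is saturated. -/
theorem saturated_range_uval {T : Over S} (t : (secFunctor D).obj (op T)) (W : D.obj.left.Opens)
    (hW : (W : Set D.obj.left) = Set.range (uval D t).1) : Saturated D W := by
  apply saturated_of_points
  intro K _ x₀ x₁ e v hv
  have h0 : v.1 (IsLocalRing.closedPoint K) ∈ Set.range (uval D t).1 := by
    rw [← hW]; exact hv ⟨_, rfl⟩
  obtain ⟨z, hz⟩ := h0
  obtain ⟨L, _, k, z', h1, h2⟩ := exists_field_lift (uval D t).1 v.1 z hz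
  have hx : z' ≫ pullback.fst p T.hom = k ≫ x₀ := by
    rw [← v.2, ← Category.assoc, ← h1, Category.assoc, (uval D t).2]
  have hk : (k ≫ x₀) ≫ p = (k ≫ x₁) ≫ p := by rw [Category.assoc, Category.assoc, e]
  have hk0 : (k ≫ x₀) ≫ p = (z' ≫ pullback.snd p T.hom) ≫ T.hom := by
    rw [← hx, Category.assoc, Category.assoc, pullback.condition]
  have hk1 : (k ≫ x₁) ≫ p = (z' ≫ pullback.snd p T.hom) ≫ T.hom := by rw [← hk, hk0]
  have h3 : (D.φ (k ≫ x₀) (k ≫ x₁) hk ⟨k ≫ v.1, by rw [Category.assoc, v.2]⟩).1 =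
      k ≫ (D.φ x₀ x₁ e v).1 := D.φ_natural k x₀ x₁ e hk v _ rfl
  have h4 := φ_ev t (z' ≫ pullback.snd p T.hom) (k ≫ x₀) (k ≫ x₁) hk0 hk1
  have h5 : ev t (z' ≫ pullback.snd p T.hom) (k ≫ x₀) hk0 =
      ⟨k ≫ v.1, by rw [Category.assoc, v.2]⟩ := by
    apply Subtype.ext
    refine Eq.trans ?_ h1
    exact ev_comp t z' _ _ _ rfl hx.symm _
  rw [h5] at h4
  have h6 : k ≫ (D.φ x₀ x₁ e v).1 = (ev t (z' ≫ pullback.snd p T.hom) (k ≫ x₁) hk1).1 := by
    rw [← h3, h4]
  rw [ev_eq_uval] at h6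
  rintro _ ⟨y, rfl⟩
  have hy : y = k (IsLocalRing.closedPoint L) := Subsingleton.elim (α := PrimeSpectrum K) _ _
  rw [hy, ← Scheme.Hom.comp_apply, h6, hW]
  exact ⟨_, (Scheme.Hom.comp_apply _ _ _).symm⟩

end K834.Sat
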