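import Groth.Agent.Subtr.K834.Sat
import Groth.Agent.Sga1.SecLocal

/-!
# Gluing representability along a covering by saturated opens

`exists_rep_of_saturated_cover`: if the underlying scheme of an étale descent datum `D` relative to a
universally submersive morphism is covered by saturated opens `W i` such that the sections of the
restrictions of `D` to `W i` are represented by étale schemes, then the sections of `D` are represented by an
étale scheme.
-/

set_option autoImplicit false
set_option backward.isDefEq.respectTransparency false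
set_option backward.isDefEq.respectTransparency.types false
open CategoryTheory CategoryTheory.Limits AlgebraicGeometry Opposite
universe u
open _root_.Desc Groth.Agent.Desc.SecFunctor Groth.Agent.Desc.SecPresheaf
open Groth.Agent.Desc.Complement Groth.Agent.Picfga.OverRep SGA1

namespace K834.SatGlue

variable {X S : Scheme.{u}} {p : X ⟶ S} (D : SchDD p)

/-- The universal value of a section maps fibres over the base into a saturated open or into its
complement. -/
theorem uval_mem_of_saturated {W : D.obj.left.Opens} (hW : Saturated D W) {T : Over S}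
    (t : (secFunctor D).obj (op T)) (a b : (pullback p T.hom : Scheme.{u}))
    (hab : pullback.snd p T.hom a = pullback.snd p T.hom b)
    (hb : (uval D t).1 b ∈ W) : (uval D t).1 a ∈ W := by
  obtain ⟨c, hca, hcb⟩ := Scheme.Pullback.exists_preimage_pullback
        (f := pullback.snd p T.hom) (g := pullback.snd p T.hom) a b hab
  obtain ⟨K, _, za, zb, hz, k, hka, hkb⟩ : ∃ (K : Type u) (_ : Field K)
      (za zb : Spec (.of K) ⟶ pullback p T.hom)
      (_ : za ≫ pullback.snd p T.hom = zb ≫ pullback.snd p T.hom) (k : Spec (.of K)),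
      za k = a ∧ zb k = b := by
    refine ⟨_, inferInstance, (Scheme.fromSpecResidueField _ c) ≫ pullback.fst _ _,
      (Scheme.fromSpecResidueField _ c) ≫ pullback.snd _ _, by
        rw [Category.assoc, Category.assoc, pullback.condition], IsLocalRing.closedPoint _, ?_, ?_⟩
    · exact (Scheme.Hom.comp_apply _ _ _).trans
        ((congrArg _ (Scheme.fromSpecResidueField_apply c _)).trans hca)
    · exact (Scheme.Hom.comp_apply _ _ _).trans
        ((congrArg _ (Scheme.fromSpecResidueField_apply c _)).trans hcb)
  have h₀ : (za ≫ pullback.fst p T.hom) ≫ p = (za ≫ pullback.snd p T.hom) ≫ T.hom := by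
    rw [Category.assoc, Category.assoc, pullback.condition]
  have h₁ : (zb ≫ pullback.fst p T.hom) ≫ p = (za ≫ pullback.snd p T.hom) ≫ T.hom := by
    rw [hz, Category.assoc, Category.assoc, pullback.condition]
  have h2 := φ_ev t (za ≫ pullback.snd p T.hom) _ _ h₁ h₀
  have h3 : (ev t (za ≫ pullback.snd p T.hom) (za ≫ pullback.fst p T.hom) h₀).1 =
      za ≫ (uval D t).1 := ev_comp t za _ _ _ rfl rfl _
  have h4 : (ev t (za ≫ pullback.snd p T.hom) (zb ≫ pullback.fst p T.hom) h₁).1 =
      zb ≫ (uval D t).1 := ev_comp t zb _ _ _ hz rfl _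
  have h5 : Set.range (ev t (za ≫ pullback.snd p T.hom) (zb ≫ pullback.fst p T.hom) h₁).1 ⊆
      (W : Set D.obj.left) := by
    rintro _ ⟨k', rfl⟩
    rw [Subsingleton.elim k' k, h4, Scheme.Hom.comp_apply, hkb]
    exact hb
  have h6 := hW _ _ (h₁.trans h₀.symm) _ h5
  rw [h2] at h6
  have h7 := h6 ⟨k, rfl⟩
  rw [h3, Scheme.Hom.comp_apply, hka] at h7
  exact h7

/-- The locus where a section lies in a saturated open. -/
theorem exists_locus (hp : UnivSubmersive p) {W : D.obj.left.Opens} (hW : Saturated D W)
    {T : Over S} (t : (secFunctor D).obj (op T)) :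
    ∃ V : T.left.Opens, ∀ a : (pullback p T.hom : Scheme.{u}),
      pullback.snd p T.hom a ∈ V ↔ (uval D t).1 a ∈ W := by
  have hq : Topology.IsQuotientMap (pullback.snd p T.hom) :=
    hp _ _ _ (IsPullback.of_hasPullback p T.hom).flip
  have hpre : (pullback.snd p T.hom) ⁻¹' ((pullback.snd p T.hom) ''
      ((uval D t).1 ⁻¹' (W : Set D.obj.left))) = (uval D t).1 ⁻¹' (W : Set D.obj.left) := by
    apply Set.Subset.antisymm
    · rintro a ⟨b, hb, hab⟩
      exact uval_mem_of_saturated D hW t a b hab.symm hb
    · exact Set.subset_preimage_image _ _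
  refine ⟨⟨(pullback.snd p T.hom) '' ((uval D t).1 ⁻¹' (W : Set D.obj.left)), ?_⟩, ?_⟩
  · rw [← hq.isOpen_preimage, hpre]
    exact W.2.preimage (uval D t).1.continuous
  · intro a
    change a ∈ (pullback.snd p T.hom) ⁻¹' ((pullback.snd p T.hom) ''
      ((uval D t).1 ⁻¹' (W : Set D.obj.left))) ↔ _
    rw [hpre]
    rfl

section charts

variable (hp : UnivSubmersive p) {ι : Type u} (W : ι → D.obj.left.Opens)
  (hW : ∀ i, Saturated D (W i)) (hcov : ∀ v : D.obj.left, ∃ i, v ∈ W i) (U : ι → Over S)
  (e : ∀ i, (secFunctor (restrictDD D (W i) (hW i))).RepresentableBy (U i))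

/-- the element on the chart -/
noncomputable def chξ (i : ι) : (secFunctor D).obj (op (U i)) :=
  (ιSec (hW i)).app _ ((e i).homEquiv (𝟙 _))

theorem map_chξ (i : ι) {T : Over S} (a : T ⟶ U i) :
    (secFunctor D).map a.op (chξ D W hW U e i) = (ιSec (hW i)).app _ ((e i).homEquiv a) := by
  rw [(e i).homEquiv_eq a]
  exact (NatTrans.naturality_apply (ιSec (hW i)) a.op _).symm

theorem exists_chart_map {i : ι} {T : Over S} (x : (secFunctor D).obj (op T)) (V : T.left.Opens)
    (hV : ∀ a : (pullback p T.hom : Scheme.{u}),
      pullback.snd p T.hom a ∈ V → (uval D x).1 a ∈ W i) :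
    ∃ k : Over.mk (V.ι ≫ T.hom) ⟶ U i,
      (secFunctor D).map k.op (chξ D W hW U e i) = (secFunctor D).map (res T V).op x := by
  obtain ⟨a, ha⟩ := exists_ιSec (hW i) ((secFunctor D).map (res T V).op x) (by
    intro Z z x' h
    exact range_ev_res D x V (W i) hV z x' h)
  refine ⟨(e i).homEquiv.symm a, ?_⟩
  rw [map_chξ, Equiv.apply_symm_apply, ha]

/-- The charts. -/
noncomputable def charts : Charts (secFunctor D) where
  ι := ι
  X := U
  ξ := chξ D W hW U e
  mono i T a b hab := by
    rw [map_chξ, map_chξ] at hab
    exact (e i).homEquiv.injective (ιSec_injective _ _ hab)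
  isOpen i T x T' g h hgh t := by
    obtain ⟨V, hV⟩ := exists_locus D hp (hW i) x
    obtain ⟨k, hk⟩ := exists_chart_map D W hW U e x V (fun a ha => (hV a).1 ha)
    refine ⟨V, k, ?_, hk⟩
    have hs : Surjective p := Groth.Agent.Sga1.UnivSub.surjective hp
    obtain ⟨y, hy⟩ := (pullback.snd p T'.hom).surjective t
    have h' : pullback.fst p T'.hom ≫ p = (pullback.snd p T'.hom ≫ g.left) ≫ T.hom := by
      rw [pullback.condition, Category.assoc, Over.w g]
    let m : pullback p T'.hom ⟶ pullback p T.hom :=
      pullback.lift (pullback.fst p T'.hom) (pullback.snd p T'.hom ≫ g.left) h'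
    have h1 : g.left t = pullback.snd p T.hom (m y) := by
      rw [← hy, ← Scheme.Hom.comp_apply, ← Scheme.Hom.comp_apply, pullback.lift_snd]
    rw [h1, hV]
    have e1 : (uval D ((secFunctor D).map g.op x)).1 = m ≫ (uval D x).1 :=
      (congrArg Subtype.val (ev_map g x (pullback.snd p T'.hom) (pullback.fst p T'.hom)
        pullback.condition h')).trans (ev_eq_uval D x _ _ h')
    rw [← Scheme.Hom.comp_apply, ← e1, ← hgh, map_chξ]
    have e2 : (uval D ((ιSec (hW i)).app (op T') ((e i).homEquiv h))).1 =
        (uval (restrictDD D (W i) (hW i)) ((e i).homEquiv h)).1 ≫ (W i).ι :=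
      ev_ιSec (hW i) _ _ _ _
    rw [e2, Scheme.Hom.comp_apply]
    exact Subtype.property _
  covers T x t := by
    have hs : Surjective p := Groth.Agent.Sga1.UnivSub.surjective hp
    obtain ⟨y, hy⟩ := (pullback.snd p T.hom).surjective t
    obtain ⟨i, hi⟩ := hcov ((uval D x).1 y)
    obtain ⟨V, hV⟩ := exists_locus D hp (hW i) x
    obtain ⟨k, hk⟩ := exists_chart_map D W hW U e x V (fun a ha => (hV a).1 ha)
    refine ⟨i, V, k, ?_, hk⟩
    rw [← hy, hV]
    exact hi

include hp hcov e in
/-- Gluing along a covering by saturated opens. -/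
theorem exists_rep_of_saturated_cover (hU : ∀ i, Etale (U i).hom) :
    ∃ H : Over S, Etale H.hom ∧ Nonempty ((secFunctor D).RepresentableBy H) := by
  obtain ⟨H, Z, j, hZ, hj, -, hc⟩ := (charts D hp W hW hcov U e).exists_universal'
    (Groth.Agent.Desc.ZarSec.isZarSheaf_secFunctor D)
  refine ⟨H, ?_, ⟨Groth.Agent.Desc.ZarGlue.repOfUniversal Z hZ⟩⟩
  let 𝒰 : Scheme.OpenCover.{u} H.left :=
    { I₀ := ι
      X i := (U i).left
      f i := (j i).left
      mem₀ := by
        rw [Scheme.presieve₀_mem_precoverage_iff]
        exact ⟨fun t => hc t, fun i => hj i⟩ }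
  rw [IsZariskiLocalAtSource.iff_of_openCover (P := @Etale) 𝒰]
  intro i
  have h1 : (j i).left ≫ H.hom = (U i).hom := Over.w (j i)
  change Etale ((j i).left ≫ H.hom)
  rw [h1]
  exact hU i

end charts

/-- Separatedness of étale morphisms descends along universally submersive morphisms. -/
theorem isSeparated_of_univSubmersive {X S H : Scheme.{u}} {p : X ⟶ S} (hp : UnivSubmersive p)
    (f : H ⟶ S) [Etale f] [IsSeparated (pullback.fst p f)] : IsSeparated f := by
  suffices h : IsClosed (Set.range (pullback.diagonal f)) by
    have : IsClosedImmersion (pullback.diagonal f) := IsClosedImmersion.of_isPreimmersion _ h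
    exact ⟨this⟩
  let Z := pullback f f
  let g : Z ⟶ S := pullback.fst f f ≫ f
  have hg : g = pullback.snd f f ≫ f := pullback.condition
  have hq : Topology.IsQuotientMap (pullback.snd p g) :=
    hp _ _ _ (IsPullback.of_hasPullback p g).flip
  rw [← hq.isClosed_preimage]
  let u : pullback p g ⟶ pullback p f := pullback.lift (pullback.fst p g)
    (pullback.snd p g ≫ pullback.fst f f) (by rw [pullback.condition, Category.assoc])
  let v : pullback p g ⟶ pullback p f := pullback.lift (pullback.fst p g)
    (pullback.snd p g ≫ pullback.snd f f) (by rw [pullback.condition, hg, Category.assoc])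
  have hu1 : u ≫ pullback.fst p f = pullback.fst p g := pullback.lift_fst _ _ _
  have hu2 : u ≫ pullback.snd p f = pullback.snd p g ≫ pullback.fst f f := pullback.lift_snd _ _ _
  have hv1 : v ≫ pullback.fst p f = pullback.fst p g := pullback.lift_fst _ _ _
  have hv2 : v ≫ pullback.snd p f = pullback.snd p g ≫ pullback.snd f f := pullback.lift_snd _ _ _
  let m : pullback p g ⟶ pullback (pullback.fst p f) (pullback.fst p f) :=
    pullback.lift u v (by rw [hu1, hv1])
  have hcl : IsClosed (Set.range (pullback.diagonal (pullback.fst p f))) :=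
    (pullback.diagonal (pullback.fst p f)).isClosedEmbedding.isClosed_range
  have heq : (pullback.snd p g) ⁻¹' Set.range (pullback.diagonal f) =
      m ⁻¹' Set.range (pullback.diagonal (pullback.fst p f)) := by
    ext z
    constructor
    · rintro ⟨h, hh⟩
      obtain ⟨c, hc1, -⟩ := Scheme.Pullback.exists_preimage_pullback (f := pullback.snd p g)
        (g := pullback.diagonal f) z h hh.symm
      obtain ⟨K, _, γ, δ, hγ, hγ2⟩ : ∃ (K : Type u) (_ : Field K) (γ : Spec (.of K) ⟶ pullback p g)
          (δ : Spec (.of K) ⟶ H), γ (IsLocalRing.closedPoint K) = z ∧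
            γ ≫ pullback.snd p g = δ ≫ pullback.diagonal f := by
        refine ⟨_, inferInstance, Scheme.fromSpecResidueField _ c ≫ pullback.fst (pullback.snd p g)
          (pullback.diagonal f), Scheme.fromSpecResidueField _ c ≫
          pullback.snd (pullback.snd p g) (pullback.diagonal f), ?_, ?_⟩
        · exact (Scheme.Hom.comp_apply _ _ _).trans
            ((congrArg _ (Scheme.fromSpecResidueField_apply c _)).trans hc1)
        · simp only [Category.assoc, pullback.condition]
      have hγuv : γ ≫ u = γ ≫ v := by
        apply pullback.hom_ext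
        · rw [Category.assoc, Category.assoc, hu1, hv1]
        · rw [Category.assoc, Category.assoc, hu2, hv2, reassoc_of% hγ2, reassoc_of% hγ2,
            pullback.diagonal_fst, pullback.diagonal_snd]
      have hm : γ ≫ m = (γ ≫ u) ≫ pullback.diagonal (pullback.fst p f) := by
        apply pullback.hom_ext
        · simp [m]
        · simp [m, hγuv]
      change m z ∈ Set.range (pullback.diagonal (pullback.fst p f))
      rw [← hγ, ← Scheme.Hom.comp_apply, hm]
      exact ⟨_, (Scheme.Hom.comp_apply _ _ _).symm⟩
    · rintro ⟨w, hw⟩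
      let n : pullback (pullback.fst p f) (pullback.fst p f) ⟶ pullback f f :=
        pullback.lift (pullback.fst _ _ ≫ pullback.snd p f) (pullback.snd _ _ ≫ pullback.snd p f) (by
          rw [Category.assoc, ← pullback.condition, Category.assoc, ← pullback.condition,
            pullback.condition_assoc])
      have hn : m ≫ n = pullback.snd p g := by
        apply pullback.hom_ext
        · simp [m, n, hu2]
        · simp [m, n, hv2]
      have hn2 : pullback.diagonal (pullback.fst p f) ≫ n = pullback.snd p f ≫ pullback.diagonal f := by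
        apply pullback.hom_ext
        · simp [n]
        · simp [n]
      change pullback.snd p g z ∈ Set.range (pullback.diagonal f)
      rw [← hn, Scheme.Hom.comp_apply, ← hw, ← Scheme.Hom.comp_apply, hn2]
      exact ⟨_, (Scheme.Hom.comp_apply _ _ _).symm⟩
  rw [heq]
  exact hcl.preimage m.continuous

end K834.SatGlue
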