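import Groth.Agent.Subtr.K834.Alpha
import Groth.Agent.Ega43.LimitDescend

/-!
# Spreading out sections of descent data along cofiltered limits

`exists_section_of_limit`: if `p` is quasi-compact and quasi-separated and `D.obj ⟶ X` is locally of finite
presentation, the sections of `D` over a limit of a cofiltered system of quasi-compact
quasi-separated schemes with affine transition maps come from a finite stage.
-/

set_option autoImplicit false
set_option backward.isDefEq.respectTransparency false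
set_option backward.isDefEq.respectTransparency.types false
open CategoryTheory CategoryTheory.Limits AlgebraicGeometry Opposite
universe u
open _root_.Desc Groth.Agent.Desc.SecFunctor Groth.Agent.Desc.SecPresheaf
open Groth.Agent.Desc.Complement Groth.Agent.Ega43.LimitDescend

namespace K834.SecSpread

variable {J : Type u} [SmallCategory J] (K : J ⥤ Scheme.{u})
  {S : Scheme.{u}} (s : ∀ j, K.obj j ⟶ S) (hs : ∀ {i j : J} (φ : i ⟶ j), K.map φ ≫ s j = s i)
  (c : Cone K) (σ : c.pt ⟶ S) (hσ : ∀ j, c.π.app j ≫ s j = σ)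

theorem pbDiagram_map_snd {B : Scheme.{u}} (f₀ : B ⟶ S) {i j : J} (φ : i ⟶ j) :
    (pbDiagram s hs f₀).map φ ≫ pullback.snd f₀ (s j) = pullback.snd f₀ (s i) ≫ K.map φ :=
  pullback.lift_snd _ _ _

variable {X : Scheme.{u}} (p : X ⟶ S) (D : SchDD p)

include hs in
theorem exists_section_of_limit [IsCofiltered J] (hc : IsLimit c)
    [∀ {i j : J} (φ : i ⟶ j), IsAffineHom (K.map φ)]
    [∀ j, CompactSpace (K.obj j)] [∀ j, QuasiSeparatedSpace (K.obj j)]
    [QuasiCompact p] [QuasiSeparated p] [LocallyOfFinitePresentation D.obj.hom]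
    (u : (secFunctor D).obj (op (Over.mk σ))) :
    ∃ (j : J) (w : (secFunctor D).obj (op (Over.mk (s j)))),
      (secFunctor D).map (Over.homMk (c.π.app j) (hσ j) : Over.mk σ ⟶ Over.mk (s j)).op w = u := by
  -- the diagram `X ×_S K_j`
  let E := pbDiagram s hs p
  let c' := pbCone s hs p c σ hσ (pullback.fst p σ) (pullback.snd p σ)
    (IsPullback.of_hasPullback p σ)
  have hc' : IsLimit c' := isLimitPbCone s hs p c σ hσ (pullback.fst p σ) (pullback.snd p σ)
    (IsPullback.of_hasPullback p σ) hc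
  have hc'1 : ∀ j, c'.π.app j ≫ pullback.fst p (s j) = pullback.fst p σ := fun j =>
    pullback.lift_fst _ _ _
  have hc'2 : ∀ j, c'.π.app j ≫ pullback.snd p (s j) = pullback.snd p σ ≫ c.π.app j := fun j =>
    pullback.lift_snd _ _ _
  obtain ⟨j, τ, h1, h2⟩ := Scheme.exists_π_app_comp_eq_of_locallyOfFinitePresentation E
    (toConst (E := E) (fun j => pullback.fst p (s j)) (fun φ => pbDiagram_map_fst s hs p φ))
    D.obj.hom c' hc' (uval D u).1 (by
      ext j
      exact (hc'1 j).trans (uval D u).2.symm)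
  have h2' : τ ≫ D.obj.hom = pullback.fst p (s j) := h2
  -- the diagram `(X ×_S X) ×_S K_j`
  let pp : pullback p p ⟶ S := pullback.fst p p ≫ p
  have hpp : pp = pullback.snd p p ≫ p := pullback.condition
  let E' := pbDiagram s hs pp
  let c'' := pbCone s hs pp c σ hσ (pullback.fst pp σ) (pullback.snd pp σ)
    (IsPullback.of_hasPullback pp σ)
  have hc'' : IsLimit c'' := isLimitPbCone s hs pp c σ hσ (pullback.fst pp σ) (pullback.snd pp σ)
    (IsPullback.of_hasPullback pp σ) hc
  have hc''1 : ∀ j, c''.π.app j ≫ pullback.fst pp (s j) = pullback.fst pp σ := fun j =>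
    pullback.lift_fst _ _ _
  have hc''2 : ∀ j, c''.π.app j ≫ pullback.snd pp (s j) = pullback.snd pp σ ≫ c.π.app j := fun j =>
    pullback.lift_snd _ _ _
  -- the value function on `j`
  have hval : ∀ {Z : Scheme.{u}} (z : Z ⟶ K.obj j) (x : Z ⟶ X) (h : x ≫ p = z ≫ s j),
      (pullback.lift x z h ≫ τ) ≫ D.obj.hom = x := by
    intro Z z x h
    rw [Category.assoc, h2', pullback.lift_fst]
  let a₀ : E'.obj j ⟶ X := pullback.fst pp (s j) ≫ pullback.fst p p
  let a₁ : E'.obj j ⟶ X := pullback.fst pp (s j) ≫ pullback.snd p p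
  let z : E'.obj j ⟶ K.obj j := pullback.snd pp (s j)
  have ha₀ : a₀ ≫ p = z ≫ s j := by
    simp only [a₀, z, Category.assoc]
    exact pullback.condition
  have ha₁ : a₁ ≫ p = z ≫ s j := by
    have e : pullback.fst pp (s j) ≫ pullback.snd p p ≫ p = pullback.snd pp (s j) ≫ s j := by
      rw [← hpp]
      exact pullback.condition
    simp only [a₁, z, Category.assoc]
    exact e
  let α : E'.obj j ⟶ D.obj.left := (D.φ a₀ a₁ (ha₀.trans ha₁.symm)
    ⟨pullback.lift a₀ z ha₀ ≫ τ, hval z a₀ ha₀⟩).1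
  let β : E'.obj j ⟶ D.obj.left := pullback.lift a₁ z ha₁ ≫ τ
  have hα : α ≫ D.obj.hom = a₁ := (D.φ a₀ a₁ (ha₀.trans ha₁.symm)
    ⟨pullback.lift a₀ z ha₀ ≫ τ, hval z a₀ ha₀⟩).2
  have hβ : β ≫ D.obj.hom = a₁ := hval z a₁ ha₁
  -- value of `τ` on points of the limit
  have hτ : ∀ {Z : Scheme.{u}} (y : Z ⟶ c.pt) (x : Z ⟶ X) (h : x ≫ p = y ≫ σ)
      (h' : x ≫ p = (y ≫ c.π.app j) ≫ s j),
      pullback.lift x (y ≫ c.π.app j) h' ≫ τ = (ev u y x h).1 := by
    intro Z y x h h'
    rw [ev_eq_uval D u y x h]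
    have e1 : pullback.lift x (y ≫ c.π.app j) h' = pullback.lift x y h ≫ c'.π.app j := by
      apply pullback.hom_ext
      · rw [pullback.lift_fst, Category.assoc, hc'1, pullback.lift_fst]
      · rw [pullback.lift_snd, Category.assoc, hc'2, pullback.lift_snd_assoc]
    rw [e1, Category.assoc, h1]
    rfl
  have hαβ : c''.π.app j ≫ α = c''.π.app j ≫ β := by
    let x₀ : pullback pp σ ⟶ X := c''.π.app j ≫ a₀
    let x₁ : pullback pp σ ⟶ X := c''.π.app j ≫ a₁
    let y : pullback pp σ ⟶ c.pt := pullback.snd pp σ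
    have hy : c''.π.app j ≫ z = y ≫ c.π.app j := hc''2 j
    have hx₀ : x₀ ≫ p = y ≫ σ := by
      simp only [x₀]
      rw [Category.assoc, ha₀, reassoc_of% hy, hσ]
    have hx₁ : x₁ ≫ p = y ≫ σ := by
      simp only [x₁]
      rw [Category.assoc, ha₁, reassoc_of% hy, hσ]
    have hx₀' : x₀ ≫ p = (y ≫ c.π.app j) ≫ s j := by rw [hx₀, Category.assoc, hσ]
    have hx₁' : x₁ ≫ p = (y ≫ c.π.app j) ≫ s j := by rw [hx₁, Category.assoc, hσ]
    have e0 : c''.π.app j ≫ pullback.lift a₀ z ha₀ ≫ τ = (ev u y x₀ hx₀).1 := by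
      rw [← hτ y x₀ hx₀ hx₀', ← Category.assoc]
      congr 1
      apply pullback.hom_ext
      · rw [Category.assoc, pullback.lift_fst, pullback.lift_fst]
      · rw [Category.assoc, pullback.lift_snd, pullback.lift_snd, hy]
    have e1 : c''.π.app j ≫ β = (ev u y x₁ hx₁).1 := by
      rw [← hτ y x₁ hx₁ hx₁']
      simp only [β]
      rw [← Category.assoc]
      congr 1
      apply pullback.hom_ext
      · rw [Category.assoc, pullback.lift_fst, pullback.lift_fst]
      · rw [Category.assoc, pullback.lift_snd, pullback.lift_snd, hy]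
    rw [e1, ← φ_ev u y x₀ x₁ hx₀ hx₁]
    exact (φ_nat D (c''.π.app j) a₀ a₁ _ _ rfl rfl _ _ e0.symm).symm
  obtain ⟨k, φ, hk⟩ := Scheme.exists_hom_comp_eq_comp_of_locallyOfFiniteType E'
    (toConst (E := E') (fun j => pullback.fst pp (s j) ≫ pullback.snd p p)
      (fun φ => by rw [← Category.assoc, pbDiagram_map_fst s hs pp φ]))
    D.obj.hom c'' hc'' α β hα.symm hβ.symm hαβ
  -- the section on `k`
  have hm2 : E'.map φ ≫ z = pullback.snd pp (s k) ≫ K.map φ := pullback.lift_snd _ _ _
  have hm0 : E'.map φ ≫ a₀ = pullback.fst pp (s k) ≫ pullback.fst p p := by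
    simp only [a₀]
    rw [← Category.assoc]
    exact congrArg (· ≫ pullback.fst p p) (pbDiagram_map_fst s hs pp φ)
  have hm1 : E'.map φ ≫ a₁ = pullback.fst pp (s k) ≫ pullback.snd p p := by
    simp only [a₁]
    rw [← Category.assoc]
    exact congrArg (· ≫ pullback.snd p p) (pbDiagram_map_fst s hs pp φ)
  have hzk : ∀ {Z : Scheme.{u}} (z : Z ⟶ K.obj k) (x : Z ⟶ X) (_ : x ≫ p = z ≫ s k),
      x ≫ p = (z ≫ K.map φ) ≫ s j := by
    intro Z z x h
    rw [h, Category.assoc, hs]
  let w : (secFunctor D).obj (op (Over.mk (s k))) := mk (D := D) (T := Over.mk (s k))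
    (fun Z z x h => ⟨pullback.lift x (z ≫ K.map φ) (hzk z x h) ≫ τ, hval _ _ _⟩)
    (by
      intro Z Z' g z x h h'
      change pullback.lift (g ≫ x) ((g ≫ z) ≫ K.map φ) _ ≫ τ =
        g ≫ pullback.lift x (z ≫ K.map φ) _ ≫ τ
      rw [← Category.assoc]
      congr 1
      apply pullback.hom_ext <;> simp)
    (by
      intro Z z' x₀ x₁ h₀ h₁
      apply Subtype.ext
      have h₀' : x₀ ≫ p = z' ≫ s k := h₀
      have h₁' : x₁ ≫ p = z' ≫ s k := h₁
      let m : Z ⟶ E'.obj k := pullback.lift (pullback.lift x₀ x₁ (h₀'.trans h₁'.symm)) z' (by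
        rw [pullback.lift_fst_assoc, h₀'])
      have m0 : m ≫ E'.map φ ≫ a₀ = x₀ := by
        rw [hm0]
        simp only [m]
        rw [pullback.lift_fst_assoc, pullback.lift_fst]
      have m1 : m ≫ E'.map φ ≫ a₁ = x₁ := by
        rw [hm1]
        simp only [m]
        rw [pullback.lift_fst_assoc, pullback.lift_snd]
      have m2 : m ≫ E'.map φ ≫ z = z' ≫ K.map φ := by
        rw [hm2]
        simp only [m]
        rw [pullback.lift_snd_assoc]
      have e1 : m ≫ E'.map φ ≫ β = pullback.lift x₁ (z' ≫ K.map φ) (hzk z' x₁ h₁') ≫ τ := by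
        simp only [β]
        rw [← Category.assoc, ← Category.assoc]
        congr 1
        apply pullback.hom_ext
        · rw [Category.assoc, Category.assoc, pullback.lift_fst, pullback.lift_fst, m1]
        · rw [Category.assoc, Category.assoc, pullback.lift_snd, pullback.lift_snd, m2]
      have e0 : pullback.lift x₀ (z' ≫ K.map φ) (hzk z' x₀ h₀') ≫ τ =
          (m ≫ E'.map φ) ≫ pullback.lift a₀ z ha₀ ≫ τ := by
        have e2 : (pullback.lift x₀ (z' ≫ K.map φ) (hzk z' x₀ h₀') : Z ⟶ pullback p (s j)) =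
            (m ≫ E'.map φ) ≫ pullback.lift a₀ z ha₀ := by
          apply pullback.hom_ext
          · rw [Category.assoc, Category.assoc, pullback.lift_fst, pullback.lift_fst, m0]
          · rw [Category.assoc, Category.assoc, pullback.lift_snd, pullback.lift_snd, m2]
        rw [e2]
        exact Category.assoc _ _ _
      change (D.φ x₀ x₁ _ ⟨pullback.lift x₀ (z' ≫ K.map φ) _ ≫ τ, _⟩).1 =
        pullback.lift x₁ (z' ≫ K.map φ) _ ≫ τ
      rw [← e1, ← hk, ← Category.assoc m]
      exact φ_nat D (m ≫ E'.map φ) a₀ a₁ _ _ (by rw [Category.assoc, m0])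
        (by rw [Category.assoc, m1]) _ _ e0)
  refine ⟨k, w, ?_⟩
  apply ev_ext
  intro Z y x h
  have h' : x ≫ p = y ≫ σ := h
  have hy' : x ≫ p = (y ≫ c.π.app k) ≫ s k := by rw [Category.assoc, hσ, h']
  rw [ev_map (Over.homMk (c.π.app k) (hσ k) : Over.mk σ ⟶ Over.mk (s k)) w y x h hy', ev_mk]
  change pullback.lift x ((y ≫ c.π.app k) ≫ K.map φ) _ ≫ τ = _
  rw [← hτ y x h' (by rw [Category.assoc, hσ, h'])]
  congr 1
  apply pullback.hom_ext
  · rw [pullback.lift_fst, pullback.lift_fst]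
  · rw [pullback.lift_snd, pullback.lift_snd, Category.assoc, c.w]

end K834.SecSpread
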